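import Groth.Agent.Localalg.Depth3
import Groth.Agent.S2938

/-!
# Depth along an ideal is computed pointwise

* `le_idealDepth_of_forall_localization`, `le_idealDepth_iff_forall` : for a finite module over a Noetherian
  ring, `n ≤ depth_I M` iff `n ≤ depth M_p` for all primes `p ⊇ I`.
* `one_le_idealDepth_iff` : `1 ≤ depth_I M` iff no associated prime of `M` contains `I`.
* `le_idealDepth_of_injective`, `two_le_idealDepth_of_exact` : submodules and kernels.
-/

set_option autoImplicit false
universe u v w

open Groth.Agent.Localalg.Depth Groth.Agent.Localalg.Depth2 Groth.Agent.Localalg.Depth3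

namespace K966.DepthLocal

variable {R : Type u} [CommRing R] [IsNoetherianRing R]

/-- `1 ≤ depth_I M` iff no associated prime of `M` contains `I`. -/
theorem one_le_idealDepth_iff_ass (I : Ideal R) (M : Type v) [AddCommGroup M] [Module R M]
    [Module.Finite R M] :
    1 ≤ LocCoh.idealDepth I M ↔ ∀ p ∈ associatedPrimes R M, ¬ I ≤ p := by
  rw [Order.one_le_iff_pos, pos_iff_ne_zero, ne_eq, idealDepth_eq_zero_iff]
  push Not
  rfl

/-- If `1 ≤ depth M_p` for all primes `p ⊇ I`, then `1 ≤ depth_I M`. -/
theorem one_le_idealDepth_of_forall (I : Ideal R) (M : Type u) [AddCommGroup M] [Module R M]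
    [Module.Finite R M]
    (h : ∀ (p : Ideal R) [p.IsPrime], I ≤ p →
      1 ≤ LocCoh.depth (Localization.AtPrime p) (LocalizedModule p.primeCompl M)) :
    1 ≤ LocCoh.idealDepth I M := by
  rw [one_le_idealDepth_iff_ass]
  intro p hp hIp
  have hprime : p.IsPrime := IsAssociatedPrime.isPrime hp
  have h1 := h p hIp
  have : IsNoetherianRing (Localization.AtPrime p) :=
    IsLocalization.isNoetherianRing p.primeCompl _ inferInstance
  have h2 : IsLocalRing.maximalIdeal (Localization.AtPrime p) ∈
      associatedPrimes (Localization.AtPrime p) (LocalizedModule p.primeCompl M) := by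
    have h3 := Module.associatedPrimes.mem_associatedPrimes_atPrime_of_mem_associatedPrimes (M := M) hp
    exact h3
  rw [LocCoh.depth, one_le_idealDepth_iff_ass] at h1
  exact h1 _ h2 le_rfl

/-- `n ≤ depth_I M` if `n ≤ depth M_p` for every prime `p ⊇ I`. -/
theorem le_idealDepth_of_forall (I : Ideal R) (n : ℕ) :
    ∀ (M : Type u) [AddCommGroup M] [Module R M] [Module.Finite R M]
    (_ : ∀ (p : Ideal R) [p.IsPrime], I ≤ p →
      (n : ℕ∞) ≤ LocCoh.depth (Localization.AtPrime p) (LocalizedModule p.primeCompl M)),
    (n : ℕ∞) ≤ LocCoh.idealDepth I M := by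
  induction n with
  | zero => intro M _ _ _ _; simp
  | succ n ih =>
    intro M _ _ _ h
    by_cases hIM : I • (⊤ : Submodule R M) = ⊤
    · rw [idealDepth_eq_top_of_smul_eq_top hIM]; exact le_top
    have h1 : 1 ≤ LocCoh.idealDepth I M := one_le_idealDepth_of_forall I M fun p _ hp =>
      le_trans (by exact_mod_cast Nat.succ_le_succ (Nat.zero_le n)) (h p hp)
    obtain ⟨x, hx, hreg⟩ := (one_le_idealDepth_iff hIM).mp h1
    rw [natCast_succ_le_idealDepth_iff_quotSMulTop I M x hx hreg]
    refine ih (QuotSMulTop x M) fun p _ hp => ?_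
    have hreg' : IsSMulRegular (LocalizedModule p.primeCompl M)
        (algebraMap R (Localization.AtPrime p) x) := by
      rw [isSMulRegular_localized_iff]
      intro m hm
      exact ⟨1, (Ideal.ne_top_iff_one p).mp Ideal.IsPrime.ne_top', by
        rw [one_smul]; exact hreg.right_eq_zero_of_smul hm⟩
    have h2 := depth_localized_quotSMulTop_add_one p M x (hp hx) hreg'
    have h3 := h p hp
    rw [← h2] at h3
    push_cast at h3
    exact (ENat.add_le_add_iff_right (by simp)).mp h3

/-- `n ≤ depth_I M` iff `n ≤ depth M_p` for every prime `p ⊇ I`. -/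
theorem le_idealDepth_iff_forall (I : Ideal R) (M : Type u) [AddCommGroup M] [Module R M]
    [Module.Finite R M] (n : ℕ) :
    (n : ℕ∞) ≤ LocCoh.idealDepth I M ↔
      ∀ (p : Ideal R) [p.IsPrime], I ≤ p →
        (n : ℕ∞) ≤ LocCoh.depth (Localization.AtPrime p) (LocalizedModule p.primeCompl M) :=
  ⟨fun h p _ hp => h.trans (idealDepth_le_depth_localization I M p hp),
    le_idealDepth_of_forall I n M⟩

/-- A submodule of a module of depth at least one along `I` has depth at least one along `I`. -/
theorem one_le_idealDepth_of_injective (I : Ideal R) {M N : Type u} [AddCommGroup M] [Module R M]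
    [Module.Finite R M] [AddCommGroup N] [Module R N] [Module.Finite R N] (f : M →ₗ[R] N)
    (hf : Function.Injective f) (h : 1 ≤ LocCoh.idealDepth I N) : 1 ≤ LocCoh.idealDepth I M := by
  rw [one_le_idealDepth_iff_ass] at h ⊢
  intro p hp
  exact h p (associatedPrimes.subset_of_injective hf hp)

/-- The kernel of a map `E0 → E1` has depth at least two along `I` if `E0` has depth at least two and `E1`
depth at least one. -/
theorem two_le_idealDepth_of_exact (I : Ideal R) {G E0 E1 : Type u} [AddCommGroup G] [Module R G]
    [Module.Finite R G] [AddCommGroup E0] [Module R E0] [Module.Finite R E0]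
    [AddCommGroup E1] [Module R E1] [Module.Finite R E1] (f : G →ₗ[R] E0) (u : E0 →ₗ[R] E1)
    (hf : Function.Injective f) (hfu : Function.Exact f u)
    (h0 : 2 ≤ LocCoh.idealDepth I E0) (h1 : 1 ≤ LocCoh.idealDepth I E1) :
    2 ≤ LocCoh.idealDepth I G := by
  have h2 : 1 ≤ LocCoh.idealDepth I (LinearMap.range u) :=
    one_le_idealDepth_of_injective I (LinearMap.range u).subtype (Submodule.subtype_injective _) h1
  have h3 : Function.Exact f u.rangeRestrict := by
    intro x
    rw [← hfu x]
    constructor
    · intro h; simpa using congrArg Subtype.val h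
    · intro h; exact Subtype.ext h
  have h4 := idealDepth_shortExact₁ I f u.rangeRestrict hf u.surjective_rangeRestrict h3
  refine le_trans (le_min h0 ?_) h4
  calc (2 : ℕ∞) = 1 + 1 := by norm_num
    _ ≤ LocCoh.idealDepth I (LinearMap.range u) + 1 := by gcongr

end K966.DepthLocal
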