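import Groth.Agent.QGor.K966.SerreBasic
import Groth.Agent.Divis.ReflexAlg
import Mathlib.LinearAlgebra.LeftExact

/-!
# Duals and reflexive modules over Noetherian rings: presentations, depth, Serre's conditions

* `exists_dual_presentation` : the dual of a finite module is the kernel of a map `Aⁿ → Aᵐ⁺¹`.
* `exists_presentation_of_isReflexive` : the same for finite reflexive modules.
* `one_le_idealDepth_dual`, `two_le_idealDepth_dual`, `hasSk_one_dual`, `hasSk_two_dual` and the versions
  for reflexive modules.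
-/

set_option autoImplicit false
universe u v w

open Groth.Agent.Localalg.Depth Groth.Agent.Localalg.Depth2 Groth.Agent.Localalg.Depth3 K966.DepthLocal
  K966.SerreBasic

namespace K966.DualPres

section Pres

variable {A : Type u} [CommRing A]

/-- A free presentation `Aᵐ⁺¹ → Aⁿ → N → 0`. -/
theorem exists_presentation (N : Type v) [AddCommGroup N] [Module A N] [Module.FinitePresentation A N] :
    ∃ (n m : ℕ) (f : (Fin n → A) →ₗ[A] N) (g : (Fin (m + 1) → A) →ₗ[A] (Fin n → A)),
      Function.Surjective f ∧ Function.Exact g f := by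
  obtain ⟨n, m, f, g, hf, hgf⟩ := Module.FinitePresentation.exists_fin' A N
  refine ⟨n, m, f, g ∘ₗ LinearMap.funLeft A A Fin.castSucc, hf, ?_⟩
  have hs : Function.Surjective (LinearMap.funLeft A A (Fin.castSucc : Fin m → Fin (m + 1))) :=
    LinearMap.funLeft_surjective_of_injective A A _ (Fin.castSucc_injective m)
  intro x
  rw [hgf x]
  constructor
  · rintro ⟨y, rfl⟩
    obtain ⟨z, rfl⟩ := hs y
    exact ⟨z, rfl⟩
  · rintro ⟨z, rfl⟩
    exact ⟨_, rfl⟩

/-- The identification of `Aⁿ` with its dual. -/
noncomputable def piDual (n : ℕ) : (Fin n → A) ≃ₗ[A] Module.Dual A (Fin n → A) :=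
  (Pi.basisFun A (Fin n)).toDualEquiv

/-- The map `N^* → Aⁿ` dual to `Aⁿ → N`. -/
noncomputable def dualPi {N : Type v} [AddCommGroup N] [Module A N] {n : ℕ} (f : (Fin n → A) →ₗ[A] N) :
    Module.Dual A N →ₗ[A] (Fin n → A) := (piDual n).symm.toLinearMap ∘ₗ f.dualMap

/-- The transpose of a map `Aᵐ → Aⁿ`. -/
noncomputable def transp {n m : ℕ} (g : (Fin m → A) →ₗ[A] (Fin n → A)) :
    (Fin n → A) →ₗ[A] (Fin m → A) := dualPi g ∘ₗ (piDual n).toLinearMap

theorem dualPi_injective {N : Type v} [AddCommGroup N] [Module A N] {n : ℕ}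
    (f : (Fin n → A) →ₗ[A] N) (hf : Function.Surjective f) : Function.Injective (dualPi f) := by
  have := LinearMap.dualMap_injective_of_surjective hf
  exact (piDual n).symm.injective.comp this

theorem dualPi_exact {N : Type v} [AddCommGroup N] [Module A N] {n m : ℕ}
    (f : (Fin n → A) →ₗ[A] N) (g : (Fin m → A) →ₗ[A] (Fin n → A)) (hf : Function.Surjective f)
    (hgf : Function.Exact g f) : Function.Exact (dualPi f) (transp g) := by
  have h := LinearMap.exact_lcomp_of_exact_of_surjective A hgf hf
  intro x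
  have h1 := h (piDual n x)
  have h2 : transp g x = 0 ↔ (LinearMap.lcomp A A g) (piDual n x) = 0 := by
    change (piDual m).symm (g.dualMap (piDual n x)) = 0 ↔ _
    rw [LinearEquiv.map_eq_zero_iff]
    rfl
  rw [h2, h1]
  constructor
  · rintro ⟨y, hy⟩
    refine ⟨y, ?_⟩
    change (piDual n).symm (f.dualMap y) = x
    rw [LinearEquiv.symm_apply_eq]
    exact hy
  · rintro ⟨y, hy⟩
    refine ⟨y, ?_⟩
    change (piDual n).symm (f.dualMap y) = x at hy
    rw [LinearEquiv.symm_apply_eq] at hy
    exact hy

theorem exists_dual_presentation (N : Type v) [AddCommGroup N] [Module A N]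
    [Module.FinitePresentation A N] :
    ∃ (n m : ℕ) (g : Module.Dual A N →ₗ[A] (Fin n → A)) (h : (Fin n → A) →ₗ[A] (Fin (m + 1) → A)),
      Function.Injective g ∧ Function.Exact g h := by
  obtain ⟨n, m, f, g, hf, hgf⟩ := exists_presentation (A := A) N
  exact ⟨n, m, dualPi f, transp g, dualPi_injective f hf, dualPi_exact f g hf hgf⟩

theorem exists_presentation_of_isReflexive [IsNoetherianRing A] (G : Type v) [AddCommGroup G]
    [Module A G] [Module.Finite A G] [Module.IsReflexive A G] :
    ∃ (n m : ℕ) (g : G →ₗ[A] (Fin n → A)) (h : (Fin n → A) →ₗ[A] (Fin (m + 1) → A)),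
      Function.Injective g ∧ Function.Exact g h := by
  have := Module.finitePresentation_of_finite A (Module.Dual A G)
  obtain ⟨n, m, g, h, hg, hgh⟩ := exists_dual_presentation (A := A) (Module.Dual A G)
  refine ⟨n, m, g ∘ₗ Module.Dual.eval A G, h, hg.comp (Module.bijective_dual_eval A G).1, ?_⟩
  intro x
  rw [hgh x]
  constructor
  · rintro ⟨y, rfl⟩
    obtain ⟨z, rfl⟩ := (Module.bijective_dual_eval A G).2 y
    exact ⟨z, rfl⟩
  · rintro ⟨z, rfl⟩
    exact ⟨_, rfl⟩

end Pres

section Depth

variable {A : Type u} [CommRing A] [IsNoetherianRing A]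

/-- Depth of a finite power. -/
theorem le_idealDepth_pi (I : Ideal A) (X : Type u) [AddCommGroup X] [Module A X] [Module.Finite A X]
    (n : ℕ) : LocCoh.idealDepth I X ≤ LocCoh.idealDepth I (Fin n → X) := by
  induction n with
  | zero => rw [idealDepth_eq_top_of_subsingleton I (Fin 0 → X)]; exact le_top
  | succ n ih =>
    have e : (X × (Fin n → X)) ≃ₗ[A] (Fin (n + 1) → X) := Fin.consLinearEquiv A (fun _ => X)
    rw [← idealDepth_congr_equiv I e]
    refine le_trans (le_min le_rfl ih) (idealDepth_shortExact₂ I (LinearMap.inl A X (Fin n → X))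
      (LinearMap.snd A X (Fin n → X)) LinearMap.inl_injective LinearMap.snd_surjective ?_)
    exact Function.Exact.inl_snd

theorem le_depth_localized_pi (p : Ideal A) [p.IsPrime] (n : ℕ) :
    LocCoh.depth (Localization.AtPrime p) (LocalizedModule p.primeCompl A) ≤
      LocCoh.depth (Localization.AtPrime p) (LocalizedModule p.primeCompl (Fin n → A)) := by
  have : IsNoetherianRing (Localization.AtPrime p) :=
    IsLocalization.isNoetherianRing p.primeCompl _ inferInstance
  induction n with
  | zero => rw [LocCoh.depth, LocCoh.depth, idealDepth_eq_top_of_subsingleton _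
              (LocalizedModule p.primeCompl (Fin 0 → A))]; exact le_top
  | succ n ih =>
    have e : (A × (Fin n → A)) ≃ₗ[A] (Fin (n + 1) → A) := Fin.consLinearEquiv A (fun _ => A)
    have h1 := injective_localized p.primeCompl (e.toLinearMap ∘ₗ LinearMap.inl A A (Fin n → A))
      (e.injective.comp LinearMap.inl_injective)
    have h2 := surjective_localized p.primeCompl (LinearMap.snd A A (Fin n → A) ∘ₗ e.symm.toLinearMap)
      ((LinearMap.snd_surjective (R := A) (M := A) (M₂ := Fin n → A)).comp e.symm.surjective)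
    have h3 : Function.Exact (e.toLinearMap ∘ₗ LinearMap.inl A A (Fin n → A))
        (LinearMap.snd A A (Fin n → A) ∘ₗ e.symm.toLinearMap) := by
      intro x
      have h4 := (Function.Exact.inl_snd (R := A) (M := A) (N := Fin n → A)) (e.symm x)
      simp only [LinearMap.coe_comp, LinearEquiv.coe_coe, Function.comp_apply, Set.mem_range]
      rw [h4]
      constructor
      · rintro ⟨y, hy⟩; exact ⟨y, by rw [hy, e.apply_symm_apply]⟩
      · rintro ⟨y, hy⟩; exact ⟨y, by rw [← hy, e.symm_apply_apply]⟩
    have h4 := exact_localized p.primeCompl _ _ h3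
    exact le_trans (le_min le_rfl ih) (idealDepth_shortExact₂ _ _ _ h1 h2 h4)

theorem hasSk_pi (k n : ℕ) (h : LocCoh.HasSk k A A) : LocCoh.HasSk k A (Fin n → A) := by
  intro p _
  have h1 := h p
  have h2 := le_depth_localized_pi p n
  refine le_trans (min_le_min_left _ ?_) (h1.trans (WithBot.coe_le_coe.mpr h2))
  refine supportDim_localized_mono ?_ _
  intro q _
  rw [Module.mem_support_iff']
  exact ⟨1, fun r hr h => hr (by simp only [smul_eq_mul, mul_one] at h; rw [h]; exact q.asIdeal.zero_mem)⟩

omit [IsNoetherianRing A] in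
theorem support_pi_succ (m : ℕ) : Module.support A (Fin (m + 1) → A) = Set.univ := by
  ext q
  simp only [Set.mem_univ, iff_true]
  rw [Module.mem_support_iff']
  refine ⟨fun _ => 1, fun r hr h => hr ?_⟩
  have := congrFun h 0
  simp only [Pi.smul_apply, smul_eq_mul, mul_one, Pi.zero_apply] at this
  rw [this]; exact q.asIdeal.zero_mem

variable {G : Type u} [AddCommGroup G] [Module A G] [Module.Finite A G]

section general

variable {n m : ℕ} (g : G →ₗ[A] (Fin n → A)) (h : (Fin n → A) →ₗ[A] (Fin (m + 1) → A))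
  (hg : Function.Injective g) (hgh : Function.Exact g h)

include hg in
theorem one_le_of_pres (I : Ideal A) (hA : 1 ≤ LocCoh.idealDepth I A) : 1 ≤ LocCoh.idealDepth I G :=
  one_le_idealDepth_of_injective I g hg (hA.trans (le_idealDepth_pi I A n))

include hg hgh in
theorem two_le_of_pres (I : Ideal A) (hA : 2 ≤ LocCoh.idealDepth I A) : 2 ≤ LocCoh.idealDepth I G :=
  two_le_idealDepth_of_exact I g h hg hgh (hA.trans (le_idealDepth_pi I A n))
    ((le_trans (by norm_num) hA).trans (le_idealDepth_pi I A (m + 1)))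

include hg in
theorem hasSk_one_of_pres (hA : LocCoh.HasSk 1 A A) : LocCoh.HasSk 1 A G :=
  hasSk_one_of_injective g hg (hasSk_pi 1 n hA)

include hg hgh in
theorem hasSk_two_of_pres (hA : LocCoh.HasSk 2 A A) : LocCoh.HasSk 2 A G :=
  hasSk_two_of_exact g h hg hgh (by rw [support_pi_succ]; exact Set.subset_univ _)
    (hasSk_pi 1 (m + 1) (hasSk_mono (by norm_num) hA)) (hasSk_pi 2 n hA)

end general

theorem one_le_idealDepth_of_isReflexive [Module.IsReflexive A G] (I : Ideal A)
    (hA : 1 ≤ LocCoh.idealDepth I A) : 1 ≤ LocCoh.idealDepth I G := by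
  obtain ⟨n, m, g, h, hg, hgh⟩ := exists_presentation_of_isReflexive (A := A) G
  exact one_le_of_pres g hg I hA

theorem two_le_idealDepth_of_isReflexive [Module.IsReflexive A G] (I : Ideal A)
    (hA : 2 ≤ LocCoh.idealDepth I A) : 2 ≤ LocCoh.idealDepth I G := by
  obtain ⟨n, m, g, h, hg, hgh⟩ := exists_presentation_of_isReflexive (A := A) G
  exact two_le_of_pres g h hg hgh I hA

theorem hasSk_one_of_isReflexive [Module.IsReflexive A G] (hA : LocCoh.HasSk 1 A A) :
    LocCoh.HasSk 1 A G := by
  obtain ⟨n, m, g, h, hg, hgh⟩ := exists_presentation_of_isReflexive (A := A) G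
  exact hasSk_one_of_pres g hg hA

theorem hasSk_two_of_isReflexive [Module.IsReflexive A G] (hA : LocCoh.HasSk 2 A A) :
    LocCoh.HasSk 2 A G := by
  obtain ⟨n, m, g, h, hg, hgh⟩ := exists_presentation_of_isReflexive (A := A) G
  exact hasSk_two_of_pres g h hg hgh hA

variable (G)

theorem one_le_idealDepth_dual (I : Ideal A)
    (hA : 1 ≤ LocCoh.idealDepth I A) : 1 ≤ LocCoh.idealDepth I (Module.Dual A G) := by
  have := Module.finitePresentation_of_finite A G
  obtain ⟨n, m, g, h, hg, hgh⟩ := exists_dual_presentation (A := A) G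
  exact one_le_of_pres g hg I hA

theorem two_le_idealDepth_dual (I : Ideal A)
    (hA : 2 ≤ LocCoh.idealDepth I A) : 2 ≤ LocCoh.idealDepth I (Module.Dual A G) := by
  have := Module.finitePresentation_of_finite A G
  obtain ⟨n, m, g, h, hg, hgh⟩ := exists_dual_presentation (A := A) G
  exact two_le_of_pres g h hg hgh I hA

theorem hasSk_one_dual (hA : LocCoh.HasSk 1 A A) : LocCoh.HasSk 1 A (Module.Dual A G) := by
  have := Module.finitePresentation_of_finite A G
  obtain ⟨n, m, g, h, hg, hgh⟩ := exists_dual_presentation (A := A) G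
  exact hasSk_one_of_pres g hg hA

theorem hasSk_two_dual (hA : LocCoh.HasSk 2 A A) : LocCoh.HasSk 2 A (Module.Dual A G) := by
  have := Module.finitePresentation_of_finite A G
  obtain ⟨n, m, g, h, hg, hgh⟩ := exists_dual_presentation (A := A) G
  exact hasSk_two_of_pres g h hg hgh hA

end Depth

end K966.DualPres
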