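import Groth.Agent.QGor.K966.DepthLocal
import Groth.Agent.Ega4C.SupportLoc
import Mathlib.Algebra.Module.LocalizedModule.Exact

/-!
# Serre's conditions for kernels; depth along ideals from Serre's conditions
-/

set_option autoImplicit false
universe u v w

open Groth.Agent.Localalg.Depth Groth.Agent.Localalg.Depth2 Groth.Agent.Localalg.Depth3 K966.DepthLocal

namespace K966.SerreBasic

theorem supportDim_mono {R : Type u} [CommRing R] {M : Type v} [AddCommGroup M] [Module R M]
    {N : Type w} [AddCommGroup N] [Module R N] (h : Module.support R M ⊆ Module.support R N) :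
    Module.supportDim R M ≤ Module.supportDim R N :=
  Order.krullDim_le_of_strictMono (fun a ↦ ⟨a.1, h a.2⟩) (fun {_ _} lt ↦ lt)

theorem support_localized_mono {R : Type u} [CommRing R] {M : Type v} [AddCommGroup M] [Module R M]
    {N : Type w} [AddCommGroup N] [Module R N] (h : Module.support R M ⊆ Module.support R N)
    (S : Submonoid R) :
    Module.support (Localization S) (LocalizedModule S M) ⊆
      Module.support (Localization S) (LocalizedModule S N) := by
  intro q hq
  rw [Groth.Agent.Ega4C.SupportLoc.mem_support_localizedModule_iff] at hq ⊢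
  exact h hq

theorem supportDim_localized_mono {R : Type u} [CommRing R] {M : Type v} [AddCommGroup M] [Module R M]
    {N : Type w} [AddCommGroup N] [Module R N] (h : Module.support R M ⊆ Module.support R N)
    (S : Submonoid R) :
    Module.supportDim (Localization S) (LocalizedModule S M) ≤
      Module.supportDim (Localization S) (LocalizedModule S N) :=
  supportDim_mono (support_localized_mono h S)

variable {R : Type u} [CommRing R]

theorem hasSk_mono {M : Type v} [AddCommGroup M] [Module R M] {k l : ℕ} (h : k ≤ l)
    (hl : LocCoh.HasSk l R M) : LocCoh.HasSk k R M := by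
  intro p _
  refine le_trans ?_ (hl p)
  exact min_le_min_right _ (by exact_mod_cast h)

variable [IsNoetherianRing R]

/-- `(S_k)` and codimension `≥ k` of `V(I) ∩ Supp M` in `Supp M` imply `k ≤ depth_I M`. -/
theorem le_idealDepth_of_hasSk (k : ℕ) (M : Type u) [AddCommGroup M] [Module R M] [Module.Finite R M]
    (I : Ideal R) (hS : LocCoh.HasSk k R M)
    (hcodim : ∀ p : PrimeSpectrum R, I ≤ p.asIdeal → p ∈ Module.support R M →
      (k : WithBot ℕ∞) ≤ Module.supportDim (Localization.AtPrime p.asIdeal)
        (LocalizedModule p.asIdeal.primeCompl M)) :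
    (k : ℕ∞) ≤ LocCoh.idealDepth I M := by
  refine le_idealDepth_of_forall I k M fun p _ hIp => ?_
  by_cases hp : (⟨p, inferInstance⟩ : PrimeSpectrum R) ∈ Module.support R M
  · have h1 := hcodim ⟨p, inferInstance⟩ hIp hp
    have h2 := hS p
    rw [min_eq_left h1] at h2
    exact_mod_cast h2
  · rw [Module.notMem_support_iff] at hp
    rw [LocCoh.depth, idealDepth_eq_top_of_subsingleton]
    exact le_top

omit [IsNoetherianRing R] in
/-- Exactness localizes. -/
theorem exact_localized {M N P : Type u} [AddCommGroup M] [Module R M] [AddCommGroup N] [Module R N]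
    [AddCommGroup P] [Module R P] (S : Submonoid R) (f : M →ₗ[R] N) (g : N →ₗ[R] P)
    (h : Function.Exact f g) :
    Function.Exact (LocalizedModule.map S f) (LocalizedModule.map S g) :=
  LocalizedModule.map_exact S f g h

omit [IsNoetherianRing R] in
theorem injective_localized {M N : Type u} [AddCommGroup M] [Module R M] [AddCommGroup N] [Module R N]
    (S : Submonoid R) (f : M →ₗ[R] N) (h : Function.Injective f) :
    Function.Injective (LocalizedModule.map S f) :=
  LocalizedModule.map_injective S f h

omit [IsNoetherianRing R] in
theorem surjective_localized {M N : Type u} [AddCommGroup M] [Module R M] [AddCommGroup N] [Module R N]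
    (S : Submonoid R) (f : M →ₗ[R] N) (h : Function.Surjective f) :
    Function.Surjective (LocalizedModule.map S f) :=
  LocalizedModule.map_surjective S f h

/-- Kernel version of `(S_1)`. -/
theorem hasSk_one_of_injective {G E0 : Type u} [AddCommGroup G] [Module R G] [Module.Finite R G]
    [AddCommGroup E0] [Module R E0] [Module.Finite R E0] (f : G →ₗ[R] E0)
    (hf : Function.Injective f) (h0 : LocCoh.HasSk 1 R E0) : LocCoh.HasSk 1 R G := by
  intro p _
  have : IsNoetherianRing (Localization.AtPrime p) :=
    IsLocalization.isNoetherianRing p.primeCompl _ inferInstance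
  have hfp := injective_localized p.primeCompl f hf
  by_cases h : 1 ≤ LocCoh.depth (Localization.AtPrime p) (LocalizedModule p.primeCompl E0)
  · refine (min_le_left _ _).trans ?_
    exact_mod_cast one_le_idealDepth_of_injective _ _ hfp h
  · have h1 := h0 p
    have h2 : LocCoh.depth (Localization.AtPrime p) (LocalizedModule p.primeCompl E0) = 0 := by
      simpa [Order.one_le_iff_pos, pos_iff_ne_zero] using h
    rw [h2] at h1
    have h3 : Module.supportDim (Localization.AtPrime p) (LocalizedModule p.primeCompl E0) ≤ 0 := by
      rcases min_le_iff.mp h1 with h4 | h4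
      · exact absurd h4 (by decide)
      · exact h4
    refine (min_le_right _ _).trans ((supportDim_mono
      (Module.support_subset_of_injective _ hfp)).trans (h3.trans ?_))
    exact_mod_cast zero_le

/-- Kernel version of `(S_2)`. -/
theorem hasSk_two_of_exact {G E0 E1 : Type u} [AddCommGroup G] [Module R G] [Module.Finite R G]
    [AddCommGroup E0] [Module R E0] [Module.Finite R E0]
    [AddCommGroup E1] [Module R E1] [Module.Finite R E1] (f : G →ₗ[R] E0) (u : E0 →ₗ[R] E1)
    (hf : Function.Injective f) (hfu : Function.Exact f u)
    (hsupp : Module.support R G ⊆ Module.support R E1)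
    (h1 : LocCoh.HasSk 1 R E1) (h0 : LocCoh.HasSk 2 R E0) : LocCoh.HasSk 2 R G := by
  intro p _
  have : IsNoetherianRing (Localization.AtPrime p) :=
    IsLocalization.isNoetherianRing p.primeCompl _ inferInstance
  have hfp := injective_localized p.primeCompl f hf
  have hex := exact_localized p.primeCompl f u hfu
  have hG1 := hasSk_one_of_injective f hf (hasSk_mono (by norm_num : 1 ≤ 2) h0) p
  set dG := Module.supportDim (Localization.AtPrime p) (LocalizedModule p.primeCompl G) with hdG
  by_cases hE1 : 1 ≤ LocCoh.depth (Localization.AtPrime p) (LocalizedModule p.primeCompl E1)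
  · by_cases hE0 : 2 ≤ LocCoh.depth (Localization.AtPrime p) (LocalizedModule p.primeCompl E0)
    · refine (min_le_left _ _).trans ?_
      have h9 := two_le_idealDepth_of_exact _ _ _ hfp hex hE0 hE1
      exact WithBot.coe_le_coe.mpr h9
    · -- depth of `E0` at most one, so its dimension is at most one
      have h3 : Module.supportDim (Localization.AtPrime p) (LocalizedModule p.primeCompl E0) ≤ 1 := by
        have h4 := h0 p
        have h5 : LocCoh.depth (Localization.AtPrime p) (LocalizedModule p.primeCompl E0) ≤ 1 := by
          rw [not_le] at hE0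
          exact Order.le_of_lt_add_one (by simpa [one_add_one_eq_two] using hE0)
        have h6 : min ((2 : ℕ) : WithBot ℕ∞)
          (Module.supportDim (Localization.AtPrime p) (LocalizedModule p.primeCompl E0)) ≤ 1 :=
          h4.trans (by exact_mod_cast h5)
        rcases min_le_iff.mp h6 with h7 | h7
        · exact absurd h7 (by decide)
        · exact h7
      have h8 : dG ≤ 1 := (supportDim_mono (Module.support_subset_of_injective _ hfp)).trans h3
      refine (min_le_right _ _).trans ?_
      refine le_trans (le_min ?_ le_rfl) hG1
      exact_mod_cast h8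
  · have h2 : LocCoh.depth (Localization.AtPrime p) (LocalizedModule p.primeCompl E1) = 0 := by
      simpa [Order.one_le_iff_pos, pos_iff_ne_zero] using hE1
    have h3 := h1 p
    rw [h2] at h3
    have h4 : Module.supportDim (Localization.AtPrime p) (LocalizedModule p.primeCompl E1) ≤ 0 := by
      rcases min_le_iff.mp h3 with h4 | h4
      · exact absurd h4 (by decide)
      · exact h4
    refine (min_le_right _ _).trans ((supportDim_localized_mono hsupp _).trans (h4.trans ?_))
    exact_mod_cast zero_le

end K966.SerreBasic
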