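import Groth.Agent.QGor.K966.DualPres
import Groth.Agent.S2054

/-!
# Maps which are bijective off `V(I)`

* `subsingleton_of_one_le_idealDepth` : a finite module supported on `V(I)` of `I`-depth at least one is zero.
* `bijective_of_idealDepth` : `f : G → H` bijective off `V(I)`, `depth_I G ≥ 2`, `depth_I H ≥ 1` is bijective.
* `injective_of_idealDepth` : `f : G → H` injective off `V(I)`, `depth_I G ≥ 1` is injective.
* `isReflexive_of_idealDepth_two`
-/

set_option autoImplicit false
universe u v w

open Groth.Agent.Localalg.Depth Groth.Agent.Localalg.Depth2 Groth.Agent.Localalg.Depth3 K966.DepthLocal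
  K966.SerreBasic K966.DualPres

namespace K966.BijOff

variable {R : Type u} [CommRing R]

theorem notMem_support_ker {M N : Type u} [AddCommGroup M] [Module R M] [AddCommGroup N] [Module R N]
    (f : M →ₗ[R] N) (p : PrimeSpectrum R)
    (h : Function.Injective (LocalizedModule.map p.asIdeal.primeCompl f)) :
    p ∉ Module.support R (LinearMap.ker f) := by
  rw [Module.notMem_support_iff]
  have h1 := injective_localized p.asIdeal.primeCompl (LinearMap.ker f).subtype
    (Submodule.subtype_injective _)
  have h2 := exact_localized p.asIdeal.primeCompl (LinearMap.ker f).subtype f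
    (LinearMap.exact_subtype_ker_map f)
  refine ⟨fun a b => h1 (h ?_)⟩
  rw [h2.apply_apply_eq_zero, h2.apply_apply_eq_zero]

theorem notMem_support_coker {M N : Type u} [AddCommGroup M] [Module R M] [AddCommGroup N] [Module R N]
    (f : M →ₗ[R] N) (p : PrimeSpectrum R)
    (h : Function.Surjective (LocalizedModule.map p.asIdeal.primeCompl f)) :
    p ∉ Module.support R (N ⧸ LinearMap.range f) := by
  rw [Module.notMem_support_iff]
  have h1 := surjective_localized p.asIdeal.primeCompl (LinearMap.range f).mkQ
    (Submodule.mkQ_surjective _)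
  have h2 := exact_localized p.asIdeal.primeCompl f (LinearMap.range f).mkQ
    (LinearMap.exact_map_mkQ_range f)
  have h3 : ∀ a : LocalizedModule p.asIdeal.primeCompl (N ⧸ LinearMap.range f), a = 0 := by
    intro a
    obtain ⟨b, rfl⟩ := h1 a
    obtain ⟨c, rfl⟩ := h b
    exact h2.apply_apply_eq_zero c
  exact ⟨fun a b => by rw [h3 a, h3 b]⟩

variable [IsNoetherianRing R]

/-- A finite module supported on `V(I)` of `I`-depth at least one is zero. -/
theorem subsingleton_of_one_le_idealDepth (I : Ideal R) (M : Type v) [AddCommGroup M] [Module R M]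
    [Module.Finite R M] (h : 1 ≤ LocCoh.idealDepth I M)
    (hoff : ∀ p : PrimeSpectrum R, ¬ I ≤ p.asIdeal → p ∉ Module.support R M) : Subsingleton M := by
  by_contra hM
  rw [not_subsingleton_iff_nontrivial] at hM
  obtain ⟨p, hp⟩ := associatedPrimes.nonempty R M
  rw [one_le_idealDepth_iff_ass] at h
  have hprime : p.IsPrime := IsAssociatedPrime.isPrime hp
  refine hoff ⟨p, hprime⟩ (h p hp) ?_
  rw [Module.support_eq_zeroLocus]
  have := IsAssociatedPrime.annihilator_le hp
  rwa [Submodule.annihilator_top] at this

theorem injective_of_idealDepth (I : Ideal R) {M N : Type u} [AddCommGroup M] [Module R M]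
    [Module.Finite R M] [AddCommGroup N] [Module R N] (f : M →ₗ[R] N)
    (hM : 1 ≤ LocCoh.idealDepth I M)
    (h : ∀ p : PrimeSpectrum R, ¬ I ≤ p.asIdeal →
      Function.Injective (LocalizedModule.map p.asIdeal.primeCompl f)) : Function.Injective f := by
  have h1 : Subsingleton (LinearMap.ker f) :=
    subsingleton_of_one_le_idealDepth I _
      (one_le_idealDepth_of_injective I (LinearMap.ker f).subtype (Submodule.subtype_injective _) hM)
      fun p hp => notMem_support_ker f p (h p hp)
  rw [← LinearMap.ker_eq_bot]
  exact (Submodule.subsingleton_iff_eq_bot).mp h1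

theorem bijective_of_idealDepth (I : Ideal R) {M N : Type u} [AddCommGroup M] [Module R M]
    [Module.Finite R M] [AddCommGroup N] [Module R N] [Module.Finite R N] (f : M →ₗ[R] N)
    (hM : 2 ≤ LocCoh.idealDepth I M) (hN : 1 ≤ LocCoh.idealDepth I N)
    (h : ∀ p : PrimeSpectrum R, ¬ I ≤ p.asIdeal →
      Function.Bijective (LocalizedModule.map p.asIdeal.primeCompl f)) : Function.Bijective f := by
  have hinj := injective_of_idealDepth I f (le_trans (by norm_num) hM) fun p hp => (h p hp).1
  refine ⟨hinj, ?_⟩
  have h1 : 1 ≤ LocCoh.idealDepth I (N ⧸ LinearMap.range f) := by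
    refine le_trans (le_min hN ?_) (idealDepth_shortExact₃ I f (LinearMap.range f).mkQ hinj
      (Submodule.mkQ_surjective _) (LinearMap.exact_map_mkQ_range f))
    calc (1 : ℕ∞) = 2 - 1 := rfl
      _ ≤ _ := tsub_le_tsub_right hM 1
  have h2 := subsingleton_of_one_le_idealDepth I _ h1 fun p hp => notMem_support_coker f p (h p hp).2
  rw [← LinearMap.range_eq_top]
  exact Submodule.Quotient.subsingleton_iff.mp h2

/-- The reflexivity criterion. -/
theorem isReflexive_of_idealDepth_two (I : Ideal R) (hA : 1 ≤ LocCoh.idealDepth I R)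
    (G : Type u) [AddCommGroup G] [Module R G] [Module.Finite R G]
    (hU : ∀ p : PrimeSpectrum R, ¬ I ≤ p.asIdeal →
      Module.IsReflexive (Localization.AtPrime p.asIdeal) (LocalizedModule p.asIdeal.primeCompl G))
    (hG : 2 ≤ LocCoh.idealDepth I G) : Module.IsReflexive R G := by
  constructor
  refine bijective_of_idealDepth I (Module.Dual.eval R G) hG
    (one_le_idealDepth_dual (Module.Dual R G) I hA) fun p hp => ?_
  have := hU p hp
  exact Groth.Agent.S2054.bijective_map_eval p.asIdeal

end K966.BijOff
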