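import Groth.Agent.QGor.K966.FibFlat
import Groth.Agent.S0393

/-!
# Exact sequences and closed fibres

* `le_idealDepth_tensor_of_nilp` : for `M` flat over `A` and `N` a finite `A`-module killed by a power of `m`,
  `depth_J (M/mM) ≤ depth_J (M ⊗ N)`.
* `exists_smul_eq_zero_of_coker` : elements of the kernel of `K ⊗ A/I → E ⊗ A/I` die locally where the cokernel
  of `K → E` is flat.
* `flat_coker_of_idealDepth` : `0 → K → E → Q → 0`, `E` flat, `Q` flat off `V(J)`, `depth_J (K/mK) ≥ 1` imply
  `Q` flat.
-/

set_option autoImplicit false
universe u v w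

open Groth.Agent.Localalg.Depth Groth.Agent.Localalg.Depth2 Groth.Agent.Localalg.Depth3 K966.DepthLocal
  K966.SerreBasic K966.DualPres K966.BijOff K966.FibFlat TensorProduct IsLocalRing

namespace K966.FibSeq

section Coker

variable {A B : Type u} [CommRing A] [CommRing B] [Algebra A B]
  {K E Q : Type u} [AddCommGroup K] [Module B K] [Module A K] [IsScalarTower A B K]
  [AddCommGroup E] [Module B E] [Module A E] [IsScalarTower A B E]
  [AddCommGroup Q] [Module B Q] [Module A Q] [IsScalarTower A B Q]

/-- Elements of the kernel of `K ⊗ A/I → E ⊗ A/I` die locally where the cokernel is flat. -/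
theorem exists_smul_eq_zero_of_coker (i : K →ₗ[B] E) (p : E →ₗ[B] Q) (hi : Function.Injective i)
    (hip : Function.Exact i p) (hp : Function.Surjective p) (q : Ideal B) [q.IsPrime]
    (hQ : FlatCA.FlatAt A q Q) (I : Ideal A) (y : K ⊗[A] (A ⧸ I))
    (hy : AlgebraTensorModule.rTensor A (A ⧸ I) i y = 0) : ∃ t ∉ q, t • y = 0 := by
  -- lift `y`
  obtain ⟨y0, rfl⟩ : ∃ y0 : K ⊗[A] A, AlgebraTensorModule.lTensor B K I.mkQ y0 = y :=
    LinearMap.lTensor_surjective K (Submodule.mkQ_surjective I) y
  have hexE := lTensor_exact E (LinearMap.exact_subtype_mkQ I) (Submodule.mkQ_surjective I)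
  have hexK := lTensor_exact K (LinearMap.exact_subtype_mkQ I) (Submodule.mkQ_surjective I)
  -- naturality
  have nat1 : ∀ z : K ⊗[A] A, AlgebraTensorModule.rTensor A (A ⧸ I) i
      (AlgebraTensorModule.lTensor B K I.mkQ z) =
      AlgebraTensorModule.lTensor B E I.mkQ (AlgebraTensorModule.rTensor A A i z) := by
    intro z
    induction z using TensorProduct.induction_on with
    | zero => simp
    | tmul a b => simp
    | add a b ha hb => simp only [map_add, ha, hb]
  have nat2 : ∀ z : K ⊗[A] I, AlgebraTensorModule.rTensor A A i
      (AlgebraTensorModule.lTensor B K I.subtype z) =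
      AlgebraTensorModule.lTensor B E I.subtype (AlgebraTensorModule.rTensor A I i z) := by
    intro z
    induction z using TensorProduct.induction_on with
    | zero => simp
    | tmul a b => simp
    | add a b ha hb => simp only [map_add, ha, hb]
  have nat3 : ∀ z : E ⊗[A] I, AlgebraTensorModule.rTensor A A p
      (AlgebraTensorModule.lTensor B E I.subtype z) =
      AlgebraTensorModule.lTensor B Q I.subtype (AlgebraTensorModule.rTensor A I p z) := by
    intro z
    induction z using TensorProduct.induction_on with
    | zero => simp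
    | tmul a b => simp
    | add a b ha hb => simp only [map_add, ha, hb]
  have hpi : ∀ z : K ⊗[A] A, AlgebraTensorModule.rTensor A A p (AlgebraTensorModule.rTensor A A i z) = 0 := by
    intro z
    induction z using TensorProduct.induction_on with
    | zero => simp
    | tmul a b => simp [hip.apply_apply_eq_zero]
    | add a b ha hb => simp only [map_add, ha, hb, add_zero]
  rw [nat1] at hy
  obtain ⟨z, hz⟩ := (hexE _).mp hy
  have hz' : AlgebraTensorModule.lTensor B E I.subtype z = AlgebraTensorModule.rTensor A A i y0 := hz
  have h1 : AlgebraTensorModule.lTensor B Q I.subtype (AlgebraTensorModule.rTensor A I p z) = 0 := by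
    rw [← nat3, hz', hpi]
  obtain ⟨t, ht, htz⟩ := (Groth.Agent.Flat2B.FlatCrit.flatAt_iff_forall_exists q Q).mp hQ I _ h1
  rw [← map_smul] at htz
  have hexI := rTensor_exact I (f := i.restrictScalars A) (g := p.restrictScalars A) hip hp
  obtain ⟨w, hw⟩ := (hexI (t • z)).mp htz
  have hw' : AlgebraTensorModule.rTensor A I i w = t • z := hw
  have hinj : Function.Injective (AlgebraTensorModule.rTensor A A i) := by
    have : Function.Injective (LinearMap.rTensor A (i.restrictScalars A)) :=
      Module.Flat.rTensor_preserves_injective_linearMap _ hi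
    exact this
  have h2 : AlgebraTensorModule.lTensor B K I.subtype w = t • y0 := by
    apply hinj
    rw [nat2, hw', map_smul, map_smul, hz']
  refine ⟨t, ht, ?_⟩
  rw [← map_smul, ← h2]
  exact (hexK _).mpr ⟨w, rfl⟩

end Coker

section Nilp

variable {A B : Type u} [CommRing A] [CommRing B] [IsNoetherianRing A] [IsNoetherianRing B] [IsLocalRing A]
  [Algebra A B] (J : Ideal B)
  (M : Type u) [AddCommGroup M] [Module B M] [Module A M] [IsScalarTower A B M] [Module.Finite B M]
  [Module.Flat A M]

theorem le_idealDepth_tensor_of_nilp (k : ℕ) : ∀ (N : Type u) [AddCommGroup N] [Module A N]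
    [Module.Finite A N] (_ : maximalIdeal A ^ k ≤ Module.annihilator A N),
    LocCoh.idealDepth J (EGA4.FibMod A B M) ≤ LocCoh.idealDepth J (M ⊗[A] N) := by
  induction k with
  | zero =>
    intro N _ _ _ h
    have h1 : Subsingleton N := by
      rw [pow_zero, Ideal.one_eq_top, top_le_iff, Module.annihilator_eq_top_iff] at h
      exact h
    have : Subsingleton (M ⊗[A] N) := inferInstance
    rw [idealDepth_eq_top_of_subsingleton J (M ⊗[A] N)]
    exact le_top
  | succ k ih =>
    intro N _ _ _ h
    have h2 := le_idealDepth_tensor (A := A) J M (N ⧸ (maximalIdeal A • (⊤ : Submodule A N)))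
    have h3 := ih (maximalIdeal A • (⊤ : Submodule A N) : Submodule A N) (by
      intro r hr
      rw [Module.mem_annihilator]
      rintro ⟨x, hx⟩
      apply Subtype.ext
      change r • x = 0
      induction hx using Submodule.smul_induction_on' with
      | smul s hs n hn =>
        rw [smul_smul]
        have : r * s ∈ maximalIdeal A ^ (k + 1) := by
          rw [pow_succ]; exact Ideal.mul_mem_mul hr hs
        exact Module.mem_annihilator.mp (h this) n
      | add x hx y hy ihx ihy => rw [smul_add, ihx, ihy, add_zero])
    have hi : Function.Injective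
        (AlgebraTensorModule.lTensor B M (maximalIdeal A • (⊤ : Submodule A N)).subtype) := by
      have : Function.Injective (LinearMap.lTensor M (maximalIdeal A • (⊤ : Submodule A N)).subtype) :=
        Module.Flat.lTensor_preserves_injective_linearMap _ (Submodule.subtype_injective _)
      exact this
    have hs : Function.Surjective
        (AlgebraTensorModule.lTensor B M (maximalIdeal A • (⊤ : Submodule A N)).mkQ) :=
      LinearMap.lTensor_surjective M (Submodule.mkQ_surjective _)
    have hex := lTensor_exact M (LinearMap.exact_subtype_mkQ (maximalIdeal A • (⊤ : Submodule A N)))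
      (Submodule.mkQ_surjective _)
    exact le_trans (le_min h3 h2) (idealDepth_shortExact₂ J _ _ hi hs hex)

/-- `M/m^n M` as a tensor product. -/
noncomputable def quotPowEquiv (n : ℕ) :
    (M ⧸ ((EGA4.mB A B) ^ n • (⊤ : Submodule B M))) ≃ₗ[B] M ⊗[A] (A ⧸ (maximalIdeal A) ^ n) :=
  (Submodule.quotEquivOfEq _ _ (by rw [Ideal.map_pow])) ≪≫ₗ
    Groth.Agent.S2498.quotEquiv (A := A) (B := B) M (maximalIdeal A ^ n)

theorem le_idealDepth_quot_pow (n : ℕ) : LocCoh.idealDepth J (EGA4.FibMod A B M) ≤
    LocCoh.idealDepth J (M ⧸ ((EGA4.mB A B) ^ n • (⊤ : Submodule B M))) := by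
  rw [idealDepth_congr_equiv J (quotPowEquiv M n)]
  exact le_idealDepth_tensor_of_nilp J M n _ (by rw [Ideal.annihilator_quotient])

end Nilp

section Loc

variable {A B : Type u} [CommRing A] [CommRing B]
    [IsNoetherianRing A] [IsNoetherianRing B] [IsLocalRing A] [IsLocalRing B] [Algebra A B]
    [IsLocalHom (algebraMap A B)] (J : Ideal B)
  {K E Q : Type u} [AddCommGroup K] [Module B K] [Module A K] [IsScalarTower A B K] [Module.Finite B K]
  [AddCommGroup E] [Module B E] [Module A E] [IsScalarTower A B E]
  [AddCommGroup Q] [Module B Q] [Module A Q] [IsScalarTower A B Q]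

omit [IsNoetherianRing A] [IsLocalRing B] [IsLocalHom (algebraMap A B)] in
/-- Injectivity of `K ⊗ k → E ⊗ k`. -/
theorem injective_fib (i : K →ₗ[B] E) (p : E →ₗ[B] Q) (hi : Function.Injective i)
    (hip : Function.Exact i p) (hp : Function.Surjective p)
    (hU : ∀ q : PrimeSpectrum B, ¬ J ≤ q.asIdeal → FlatCA.FlatAt A q.asIdeal Q)
    (h1 : 1 ≤ LocCoh.idealDepth J (EGA4.FibMod A B K)) :
    Function.Injective (AlgebraTensorModule.rTensor A (A ⧸ maximalIdeal A) i) := by
  rw [injective_iff_map_eq_zero]
  intro y hy
  have h2 := h1.trans (le_idealDepth_tensor J K (A ⧸ maximalIdeal A))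
  have h3 : Subsingleton (Submodule.span B {y}) := by
    refine subsingleton_of_one_le_idealDepth J _
      (one_le_idealDepth_of_injective J (Submodule.span B {y}).subtype (Submodule.subtype_injective _) h2)
      fun q hq => ?_
    rw [Module.notMem_support_iff']
    intro w
    obtain ⟨t, ht, htx⟩ := exists_smul_eq_zero_of_coker i p hi hip hp q.asIdeal (hU q hq) _ y hy
    refine ⟨t, ht, ?_⟩
    obtain ⟨w, hw⟩ := w
    obtain ⟨b, rfl⟩ := Submodule.mem_span_singleton.mp hw
    apply Subtype.ext
    change t • b • y = 0
    rw [smul_comm, htx, smul_zero]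
  have h4 : (⟨y, Submodule.mem_span_singleton_self y⟩ : Submodule.span B {y}) = 0 := Subsingleton.elim _ _
  exact congrArg Subtype.val h4

omit [IsNoetherianRing A] in
/-- `0 → K → E → Q → 0` with `E` flat, `Q` flat off `V(J)` and `depth_J (K/mK) ≥ 1`: then `Q` is flat. -/
theorem flat_coker_of_idealDepth [Module.Flat A E] (i : K →ₗ[B] E) (p : E →ₗ[B] Q)
    (hi : Function.Injective i)
    (hip : Function.Exact i p) (hp : Function.Surjective p)
    (hU : ∀ q : PrimeSpectrum B, ¬ J ≤ q.asIdeal → FlatCA.FlatAt A q.asIdeal Q)
    (h1 : 1 ≤ LocCoh.idealDepth J (EGA4.FibMod A B K)) : Module.Flat A Q := by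
  have h2 := injective_fib J i p hi hip hp hU h1
  have h3 : Function.Injective (LinearMap.lTensor (IsLocalRing.ResidueField A) (i.restrictScalars A)) := by
    rw [LinearMap.lTensor_inj_iff_rTensor_inj]
    exact h2
  have h4 := (Groth.Agent.S0393.result (R := A) (S := B) (i.restrictScalars A) h3).2
  have e : (E ⧸ LinearMap.range (i.restrictScalars A)) ≃ₗ[A] Q := by
    have h5 : LinearMap.range (i.restrictScalars A) = LinearMap.ker (p.restrictScalars A) := by
      ext x
      exact (hip x).symm
    exact (Submodule.quotEquivOfEq _ _ h5).trans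
      (LinearMap.quotKerEquivOfSurjective (p.restrictScalars A) hp)
  exact Module.Flat.of_linearEquiv e.symm

end Loc

section FlatKer

variable {A B : Type u} [CommRing A] [CommRing B] [Algebra A B]

/-- The kernel of a surjection of flat modules is flat. -/
theorem flat_ker {K E Q : Type u} [AddCommGroup K] [Module A K] [AddCommGroup E] [Module A E]
    [AddCommGroup Q] [Module A Q] (i : K →ₗ[A] E) (p : E →ₗ[A] Q) (hi : Function.Injective i)
    (hip : Function.Exact i p) (hp : Function.Surjective p) (hE : Module.Flat A E)
    (hQ : Module.Flat A Q) : Module.Flat A K := by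
  rw [Module.Flat.iff_rTensor_preserves_injective_linearMap]
  intro N N' _ _ _ _ g hg
  have h1 : Function.Injective (i.lTensor N) := LinearMap.lTensor_injective_of_exact_of_flat p hp i hi hip N
  have h2 : Function.Injective (g.rTensor E) := Module.Flat.rTensor_preserves_injective_linearMap g hg
  have h3 : (g.rTensor E) ∘ₗ (i.lTensor N) = (i.lTensor N') ∘ₗ (g.rTensor K) := by
    rw [LinearMap.rTensor_comp_lTensor, LinearMap.lTensor_comp_rTensor]
  have h4 : Function.Injective ((i.lTensor N') ∘ₗ (g.rTensor K)) := by
    rw [← h3]
    exact h2.comp h1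
  exact Function.Injective.of_comp h4

variable {K E Q : Type u} [AddCommGroup K] [Module B K] [Module A K] [IsScalarTower A B K]
  [AddCommGroup E] [Module B E] [Module A E] [IsScalarTower A B E]
  [AddCommGroup Q] [Module B Q] [Module A Q] [IsScalarTower A B Q]

/-- The same at a prime of `B`. -/
theorem flatAt_ker (i : K →ₗ[B] E) (p : E →ₗ[B] Q) (hi : Function.Injective i)
    (hip : Function.Exact i p) (hp : Function.Surjective p) (q : Ideal B) [q.IsPrime]
    (hE : FlatCA.FlatAt A q E) (hQ : FlatCA.FlatAt A q Q) : FlatCA.FlatAt A q K :=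
  flat_ker ((LocalizedModule.map q.primeCompl i).restrictScalars A)
    ((LocalizedModule.map q.primeCompl p).restrictScalars A)
    (injective_localized q.primeCompl i hi) (exact_localized q.primeCompl i p hip)
    (surjective_localized q.primeCompl p hp) hE hQ

end FlatKer

section Four

variable {A B : Type u} [CommRing A] [CommRing B] [Algebra A B]
    {F E0 E1 G : Type u} [AddCommGroup F] [Module B F] [Module A F] [IsScalarTower A B F]
    [AddCommGroup E0] [Module B E0] [Module A E0] [IsScalarTower A B E0]
    [AddCommGroup E1] [Module B E1] [Module A E1] [IsScalarTower A B E1]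
    [AddCommGroup G] [Module B G] [Module A G] [IsScalarTower A B G]
    (f : F →ₗ[B] E0) (u : E0 →ₗ[B] E1) (v : E1 →ₗ[B] G)
    (hf : Function.Injective f) (hfu : Function.Exact f u) (huv : Function.Exact u v) (hv : Function.Surjective v)

include hfu in
theorem exact_rangeRestrict : Function.Exact f u.rangeRestrict := by
  intro x
  rw [← hfu x]
  constructor
  · intro h; simpa using congrArg Subtype.val h
  · intro h; exact Subtype.ext h

include huv in
theorem exact_range_subtype : Function.Exact (LinearMap.range u).subtype v := by
  intro x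
  rw [huv x]
  constructor
  · rintro ⟨y, rfl⟩; exact ⟨⟨u y, y, rfl⟩, rfl⟩
  · rintro ⟨⟨_, y, rfl⟩, rfl⟩; exact ⟨y, rfl⟩

omit [Module A E0] [IsScalarTower A B E0] in
include huv hv in
/-- The image of `u` is flat if `E1` and `G` are. -/
theorem flat_range [Module.Flat A E1] (hG : Module.Flat A G) : Module.Flat A (LinearMap.range u) :=
  flat_ker ((LinearMap.range u).subtype.restrictScalars A) (v.restrictScalars A)
    (Submodule.subtype_injective _) (exact_range_subtype u v huv) hv inferInstance hG

omit [Module A E0] [IsScalarTower A B E0] in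
include huv hv in
theorem flatAt_range (q : Ideal B) [q.IsPrime] (hE1 : FlatCA.FlatAt A q E1) (hG : FlatCA.FlatAt A q G) :
    FlatCA.FlatAt A q (LinearMap.range u) :=
  flatAt_ker (LinearMap.range u).subtype v (Submodule.subtype_injective _) (exact_range_subtype u v huv)
    hv q hE1 hG

include hf hfu huv hv in
theorem flat_left [Module.Flat A E0] [Module.Flat A E1] (hG : Module.Flat A G) : Module.Flat A F :=
  flat_ker (f.restrictScalars A) (u.rangeRestrict.restrictScalars A) hf (exact_rangeRestrict f u hfu)
    u.surjective_rangeRestrict inferInstance (flat_range u v huv hv hG)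

include hf hfu huv hv in
/-- After tensoring with any `N`, `F ⊗ N` is the kernel of `E0 ⊗ N → E1 ⊗ N`, if `E1` and `G` are flat. -/
theorem tensor_exact [Module.Flat A E1] (hG : Module.Flat A G) (N : Type u) [AddCommGroup N] [Module A N] :
    Function.Injective (AlgebraTensorModule.rTensor A N f) ∧
      Function.Exact (AlgebraTensorModule.rTensor A N f) (AlgebraTensorModule.rTensor A N u) := by
  have h1 := flat_range u v huv hv hG
  have h2 : Function.Injective (AlgebraTensorModule.rTensor A N f) := by
    have : Function.Injective ((f.restrictScalars A).rTensor N) := by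
      rw [← LinearMap.lTensor_inj_iff_rTensor_inj]
      exact LinearMap.lTensor_injective_of_exact_of_flat (u.rangeRestrict.restrictScalars A)
        u.surjective_rangeRestrict (f.restrictScalars A) hf (exact_rangeRestrict f u hfu) N
    exact this
  refine ⟨h2, ?_⟩
  have h3 : Function.Injective (AlgebraTensorModule.rTensor A N (LinearMap.range u).subtype) := by
    have : Function.Injective (((LinearMap.range u).subtype.restrictScalars A).rTensor N) := by
      rw [← LinearMap.lTensor_inj_iff_rTensor_inj]
      exact LinearMap.lTensor_injective_of_exact_of_flat (v.restrictScalars A) hv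
        ((LinearMap.range u).subtype.restrictScalars A)
        (Submodule.subtype_injective (LinearMap.range u)) (exact_range_subtype u v huv) N
    exact this
  have h4 : Function.Exact (AlgebraTensorModule.rTensor A N f) (AlgebraTensorModule.rTensor A N u.rangeRestrict) :=
    rTensor_exact N (f := f.restrictScalars A) (g := u.rangeRestrict.restrictScalars A)
      (exact_rangeRestrict f u hfu) u.surjective_rangeRestrict
  have h5 : ∀ x, AlgebraTensorModule.rTensor A N u x = AlgebraTensorModule.rTensor A N
      (LinearMap.range u).subtype (AlgebraTensorModule.rTensor A N u.rangeRestrict x) := by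
    intro x
    induction x using TensorProduct.induction_on with
    | zero => simp
    | tmul a b => simp
    | add a b ha hb => simp only [map_add, ha, hb]
  intro x
  rw [h5, ← h4 x]
  constructor
  · intro h; exact h3 (by rw [h, map_zero])
  · intro h; rw [h, map_zero]

end Four

end K966.FibSeq
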