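import Groth.Agent.QGor.K966.RegMap
import Groth.Agent.Divis.ReflexAlg

/-!
# Presentations of reflexive modules which are free at given primes
-/

set_option autoImplicit false
universe u v w

open K966.DualPres K966.SerreBasic K966.RegMap

namespace K966.ReflFree

variable {B : Type u} [CommRing B] [IsNoetherianRing B]

/-- Localization of the dual. -/
noncomputable def dualLocEquiv (q : Ideal B) [q.IsPrime] (F : Type u) [AddCommGroup F] [Module B F]
    [Module.Finite B F] :
    LocalizedModule q.primeCompl (Module.Dual B F) ≃ₗ[Localization.AtPrime q]
      Module.Dual (Localization.AtPrime q) (LocalizedModule q.primeCompl F) :=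
  have := Groth.Agent.Divis.ReflexAlg.isLocalizedModule_dualMap q.primeCompl (Localization.AtPrime q)
    (LocalizedModule.mkLinearMap q.primeCompl F)
  LinearEquiv.extendScalarsOfIsLocalization q.primeCompl (Localization.AtPrime q)
    (IsLocalizedModule.linearEquiv q.primeCompl (LocalizedModule.mkLinearMap q.primeCompl (Module.Dual B F))
      (Groth.Agent.Divis.ReflexAlg.dualMap q.primeCompl (Localization.AtPrime q)
        (LocalizedModule.mkLinearMap q.primeCompl F)))

theorem projective_dual_localized (q : Ideal B) [q.IsPrime] (F : Type u) [AddCommGroup F] [Module B F]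
    [Module.Finite B F] (hF : Module.Free (Localization.AtPrime q) (LocalizedModule q.primeCompl F)) :
    Module.Projective (Localization.AtPrime q) (LocalizedModule q.primeCompl (Module.Dual B F)) := by
  have : Module.Finite (Localization.AtPrime q) (LocalizedModule q.primeCompl F) :=
    Module.Finite.of_isLocalizedModule q.primeCompl (LocalizedModule.mkLinearMap q.primeCompl F)
  have h1 : Module.Projective (Localization.AtPrime q)
    (Module.Dual (Localization.AtPrime q) (LocalizedModule q.primeCompl F)) := inferInstance
  exact Module.Projective.of_equiv (dualLocEquiv q F).symm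

/-- The presentation of a reflexive module `F`: `0 → F → Bⁿ → Bᵐ⁺¹` with cokernel projective wherever the dual of
`F` is. -/
theorem exists_presentation_free (F : Type u) [AddCommGroup F] [Module B F] [Module.Finite B F]
    [Module.IsReflexive B F] :
    ∃ (n m : ℕ) (g : F →ₗ[B] (Fin n → B)) (h : (Fin n → B) →ₗ[B] (Fin (m + 1) → B)),
      Function.Injective g ∧ Function.Exact g h ∧
      ∀ (q : Ideal B) [q.IsPrime], Module.Free (Localization.AtPrime q) (LocalizedModule q.primeCompl F) →
        Module.Free (Localization.AtPrime q)
          (LocalizedModule q.primeCompl ((Fin (m + 1) → B) ⧸ LinearMap.range h)) := by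
  have := Module.finitePresentation_of_finite B (Module.Dual B F)
  obtain ⟨n, m, f, g, hf, hgf⟩ := exists_presentation (A := B) (Module.Dual B F)
  refine ⟨n, m, dualPi f ∘ₗ Module.Dual.eval B F, transp g,
    (dualPi_injective f hf).comp (Module.bijective_dual_eval B F).1, ?_, ?_⟩
  · intro x
    rw [dualPi_exact f g hf hgf x]
    constructor
    · rintro ⟨y, rfl⟩
      obtain ⟨z, rfl⟩ := (Module.bijective_dual_eval B F).2 y
      exact ⟨z, rfl⟩
    · rintro ⟨z, rfl⟩
      exact ⟨_, rfl⟩
  · intro q _ hq
    exact free_coker_transp q g f hf hgf (projective_dual_localized q F hq)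

end K966.ReflFree
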