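import Groth.Agent.QGor.K966.BijOff
import Groth.Agent.Flat2B.FlatCrit
import Groth.Agent.S0390
import Groth.Agent.S2498
import Groth.Prelude.Def_EGA4b
import Mathlib.LinearAlgebra.TensorProduct.Pi
import Mathlib.RingTheory.Filtration

/-!
# A criterion of flatness over a local ring by depth of the closed fibre

`A → B` a local homomorphism of Noetherian local rings, `J` an ideal of `B`, `M` a finite `B`-module, flat
over `A` off `V(J)`. If `depth_J (M/mM) ≥ 1` then `M` is flat over `A`.
-/

set_option autoImplicit false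
universe u v w

open Groth.Agent.Localalg.Depth Groth.Agent.Localalg.Depth2 Groth.Agent.Localalg.Depth3 K966.DepthLocal
  K966.SerreBasic K966.DualPres K966.BijOff TensorProduct IsLocalRing

namespace K966.FibFlat

section Gen

variable {A B : Type u} [CommRing A] [CommRing B] [Algebra A B]
  (M : Type u) [AddCommGroup M] [Module B M] [Module A M] [IsScalarTower A B M] [Module.Finite B M]

/-- `M ⊗_A V` is a finite `B`-module. -/
instance finite_tensor (V : Type u) [AddCommGroup V] [Module A V] [Module.Finite A V] :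
    Module.Finite B (M ⊗[A] V) := by
  obtain ⟨n, f, hf⟩ := Module.Finite.exists_fin' A V
  have h : Function.Surjective (AlgebraTensorModule.lTensor B M f) := LinearMap.lTensor_surjective M hf
  have e : M ⊗[A] (Fin n → A) ≃ₗ[B] (Fin n → M) := TensorProduct.piScalarRight A B M (Fin n)
  have : Module.Finite B (M ⊗[A] (Fin n → A)) := Module.Finite.equiv e.symm
  exact Module.Finite.of_surjective _ h

end Gen

section Local

variable {A B : Type u} [CommRing A] [CommRing B] [IsNoetherianRing B] [IsLocalRing A] [Algebra A B]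
  (J : Ideal B)
  (M : Type u) [AddCommGroup M] [Module B M] [Module A M] [IsScalarTower A B M] [Module.Finite B M]

/-- The depth of `M ⊗ V` along `J`, `V` a finite `A`-module killed by `m`, is at least that of `M/mM`. -/
theorem le_idealDepth_tensor (V : Type u) [AddCommGroup V] [Module A V] [Module.Finite A V]
    [Module (A ⧸ maximalIdeal A) V] [IsScalarTower A (A ⧸ maximalIdeal A) V] :
    LocCoh.idealDepth J (EGA4.FibMod A B M) ≤ LocCoh.idealDepth J (M ⊗[A] V) := by
  let _ : Field (A ⧸ maximalIdeal A) := Ideal.Quotient.field _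
  have : Module.Finite (A ⧸ maximalIdeal A) V := Module.Finite.of_restrictScalars_finite A _ _
  let e : V ≃ₗ[A ⧸ maximalIdeal A] (Fin (Module.finrank (A ⧸ maximalIdeal A) V) → (A ⧸ maximalIdeal A)) :=
    (Module.finBasis (A ⧸ maximalIdeal A) V).equivFun
  let e1 : M ⊗[A] V ≃ₗ[B] M ⊗[A] (Fin (Module.finrank (A ⧸ maximalIdeal A) V) → (A ⧸ maximalIdeal A)) :=
    AlgebraTensorModule.congr (LinearEquiv.refl B M) (e.restrictScalars A)
  let e2 : M ⊗[A] (Fin (Module.finrank (A ⧸ maximalIdeal A) V) → (A ⧸ maximalIdeal A)) ≃ₗ[B]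
      (Fin (Module.finrank (A ⧸ maximalIdeal A) V) → M ⊗[A] (A ⧸ maximalIdeal A)) :=
    TensorProduct.piRight A B M _
  let e3 := Groth.Agent.S2498.quotEquiv (A := A) (B := B) M (maximalIdeal A)
  rw [idealDepth_congr_equiv J (e1 ≪≫ₗ e2), idealDepth_congr_equiv J e3]
  have : Module.Finite B (M ⊗[A] (A ⧸ maximalIdeal A)) := inferInstance
  exact le_idealDepth_pi J (M ⊗[A] (A ⧸ maximalIdeal A)) _

end Local

section Main

variable {A B : Type u} [CommRing A] [CommRing B]
    [IsNoetherianRing A] [IsNoetherianRing B] [IsLocalRing A] [IsLocalRing B] [Algebra A B]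
    [IsLocalHom (algebraMap A B)] (J : Ideal B)
    (M : Type u) [AddCommGroup M] [Module B M] [Module A M] [IsScalarTower A B M] [Module.Finite B M]

omit [IsNoetherianRing A] [IsNoetherianRing B] [IsLocalRing A] [IsLocalRing B] [IsLocalHom (algebraMap A B)]
  [Module.Finite B M] in
/-- An element of the kernel of `M ⊗ I → M ⊗ A` is killed, locally off `V(J)`. -/
theorem exists_smul_eq_zero
    (hU : ∀ q : PrimeSpectrum B, ¬ J ≤ q.asIdeal → FlatCA.FlatAt A q.asIdeal M)
    (I : Ideal A) (x : M ⊗[A] I) (hx : AlgebraTensorModule.lTensor B M I.subtype x = 0)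
    (q : PrimeSpectrum B) (hq : ¬ J ≤ q.asIdeal) : ∃ t ∉ q.asIdeal, t • x = 0 :=
  (Groth.Agent.Flat2B.FlatCrit.flatAt_iff_forall_exists q.asIdeal M).mp (hU q hq) I x hx

omit [IsNoetherianRing A] [IsLocalRing B] [IsLocalHom (algebraMap A B)] in
/-- The elements of the kernel of `M ⊗ N → M ⊗ A`, `N` an ideal, are in the image of `M ⊗ mN`. -/
theorem mem_range_of_ker (h1 : 1 ≤ LocCoh.idealDepth J (EGA4.FibMod A B M)) (N : Type u) [AddCommGroup N]
    [Module A N] [Module.Finite A N] (x : M ⊗[A] N)
    (hx : ∀ q : PrimeSpectrum B, ¬ J ≤ q.asIdeal → ∃ t ∉ q.asIdeal, t • x = 0) :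
    ∃ y : M ⊗[A] (maximalIdeal A • (⊤ : Submodule A N) : Submodule A N),
      AlgebraTensorModule.lTensor B M (maximalIdeal A • (⊤ : Submodule A N)).subtype y = x := by
  have h2 := h1.trans (le_idealDepth_tensor J M (N ⧸ (maximalIdeal A • (⊤ : Submodule A N))))
  have hex := lTensor_exact M (LinearMap.exact_subtype_mkQ (maximalIdeal A • (⊤ : Submodule A N)))
    (Submodule.mkQ_surjective _)
  let z : M ⊗[A] (N ⧸ (maximalIdeal A • (⊤ : Submodule A N))) :=
    AlgebraTensorModule.lTensor B M (maximalIdeal A • (⊤ : Submodule A N)).mkQ x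
  suffices hz : z = 0 from (hex x).mp hz
  have h3 : Subsingleton (Submodule.span B {z}) := by
    refine subsingleton_of_one_le_idealDepth J _
      (one_le_idealDepth_of_injective J (Submodule.span B {z}).subtype (Submodule.subtype_injective _) h2)
      fun q hq => ?_
    rw [Module.notMem_support_iff']
    intro w
    obtain ⟨t, ht, htx⟩ := hx q hq
    refine ⟨t, ht, ?_⟩
    obtain ⟨w, hw⟩ := w
    obtain ⟨b, rfl⟩ := Submodule.mem_span_singleton.mp hw
    apply Subtype.ext
    change t • b • z = 0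
    rw [smul_comm, ← map_smul, htx, map_zero, smul_zero]
  have h4 : (⟨z, Submodule.mem_span_singleton_self z⟩ : Submodule.span B {z}) = 0 := Subsingleton.elim _ _
  exact congrArg Subtype.val h4

/-- Induction step. -/
theorem step (hU : ∀ q : PrimeSpectrum B, ¬ J ≤ q.asIdeal → FlatCA.FlatAt A q.asIdeal M)
    (h1 : 1 ≤ LocCoh.idealDepth J (EGA4.FibMod A B M)) (n : ℕ)
    (x : M ⊗[A] (maximalIdeal A ^ n : Ideal A))
    (hx : AlgebraTensorModule.lTensor B M (maximalIdeal A ^ n : Ideal A).subtype x = 0) :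
    ∃ y : M ⊗[A] (maximalIdeal A ^ (n + 1) : Ideal A),
      AlgebraTensorModule.lTensor B M (maximalIdeal A ^ (n + 1) : Ideal A).subtype y = 0 ∧
      AlgebraTensorModule.lTensor B M (Submodule.inclusion (Ideal.pow_le_pow_right (Nat.le_succ n))) y = x := by
  obtain ⟨y, hy⟩ := mem_range_of_ker J M h1 (maximalIdeal A ^ n : Ideal A) x
    (exists_smul_eq_zero J M hU _ x hx)
  have hmem : ∀ y : (maximalIdeal A • (⊤ : Submodule A (maximalIdeal A ^ n : Ideal A)) :
      Submodule A (maximalIdeal A ^ n : Ideal A)), (y.1.1 : A) ∈ maximalIdeal A ^ (n + 1) := by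
    rintro ⟨y, hy⟩
    rw [pow_succ']
    change (maximalIdeal A ^ n : Ideal A).subtype y ∈ _
    have : Submodule.map (maximalIdeal A ^ n : Ideal A).subtype
      (maximalIdeal A • (⊤ : Submodule A (maximalIdeal A ^ n : Ideal A))) ≤
        maximalIdeal A * maximalIdeal A ^ n := by
      rw [Submodule.map_smul'', Submodule.map_top, Submodule.range_subtype]
      exact le_rfl
    exact this ⟨y, hy, rfl⟩
  let j : (maximalIdeal A • (⊤ : Submodule A (maximalIdeal A ^ n : Ideal A)) :
      Submodule A (maximalIdeal A ^ n : Ideal A)) →ₗ[A] (maximalIdeal A ^ (n + 1) : Ideal A) :=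
    LinearMap.codRestrict _ ((maximalIdeal A ^ n : Ideal A).subtype ∘ₗ Submodule.subtype _)
      fun y => hmem y
  have hj : (Submodule.inclusion (Ideal.pow_le_pow_right (Nat.le_succ n))) ∘ₗ j =
      (maximalIdeal A • (⊤ : Submodule A (maximalIdeal A ^ n : Ideal A))).subtype := by
    apply LinearMap.ext
    intro y
    apply Subtype.ext
    rfl
  have h2 : AlgebraTensorModule.lTensor B M (Submodule.inclusion (Ideal.pow_le_pow_right (Nat.le_succ n)))
      (AlgebraTensorModule.lTensor B M j y) = x := by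
    rw [← hy, ← hj]
    exact (LinearMap.lTensor_comp_apply M _ j y).symm
  refine ⟨AlgebraTensorModule.lTensor B M j y, ?_, h2⟩
  rw [← hx, ← h2]
  have h3 : (maximalIdeal A ^ n : Ideal A).subtype ∘ₗ
      (Submodule.inclusion (Ideal.pow_le_pow_right (I := maximalIdeal A) (Nat.le_succ n))) =
      (maximalIdeal A ^ (n + 1) : Ideal A).subtype := by
    apply LinearMap.ext
    intro y
    rfl
  rw [← h3]
  exact LinearMap.lTensor_comp_apply M _ _ _

omit [IsNoetherianRing A] [IsNoetherianRing B] [IsLocalRing B] [IsLocalHom (algebraMap A B)]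
  [Module.Finite B M] in
/-- The image of `M ⊗ m^(n+1) → M ⊗ m` is in `m^n (M ⊗ m)`. -/
theorem image_mem (n : ℕ) (hle : maximalIdeal A ^ (n + 1) ≤ maximalIdeal A ^ 1)
    (y : M ⊗[A] (maximalIdeal A ^ (n + 1) : Ideal A)) :
    AlgebraTensorModule.lTensor B M (Submodule.inclusion hle) y ∈
      (EGA4.mB A B) ^ n • (⊤ : Submodule B (M ⊗[A] (maximalIdeal A ^ 1 : Ideal A))) := by
  induction y using TensorProduct.induction_on with
  | zero => simp
  | add x y hx hy => rw [map_add]; exact Submodule.add_mem _ hx hy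
  | tmul a b =>
    obtain ⟨b, hb⟩ := b
    have hb' : b ∈ maximalIdeal A ^ n * maximalIdeal A ^ 1 := by rw [pow_one, ← pow_succ]; exact hb
    rw [AlgebraTensorModule.lTensor_tmul]
    change a ⊗ₜ[A] (⟨b, hle hb⟩ : (maximalIdeal A ^ 1 : Ideal A)) ∈ _
    have key : ∀ b ∈ maximalIdeal A ^ n * maximalIdeal A ^ 1, ∀ h : b ∈ maximalIdeal A ^ 1,
        a ⊗ₜ[A] (⟨b, h⟩ : (maximalIdeal A ^ 1 : Ideal A)) ∈
        (EGA4.mB A B) ^ n • (⊤ : Submodule B (M ⊗[A] (maximalIdeal A ^ 1 : Ideal A))) := by
      intro b hb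
      induction hb using Submodule.mul_induction_on' with
      | mem_mul_mem r hr s hs =>
        intro h
        have e : (⟨r * s, h⟩ : (maximalIdeal A ^ 1 : Ideal A)) = r • ⟨s, hs⟩ := rfl
        rw [e, TensorProduct.tmul_smul, ← algebraMap_smul B r]
        refine Submodule.smul_mem_smul ?_ trivial
        rw [← Ideal.map_pow]
        exact Ideal.mem_map_of_mem _ hr
      | add x hx y hy ihx ihy =>
        intro h
        have hx' : x ∈ maximalIdeal A ^ 1 := Ideal.mul_le_right hx
        have hy' : y ∈ maximalIdeal A ^ 1 := Ideal.mul_le_right hy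
        have e : (⟨x + y, h⟩ : (maximalIdeal A ^ 1 : Ideal A)) = ⟨x, hx'⟩ + ⟨y, hy'⟩ := rfl
        rw [e, TensorProduct.tmul_add]
        exact Submodule.add_mem _ (ihx hx') (ihy hy')
    exact key b hb' (hle hb)

/-- The main criterion. -/
theorem flat_of_one_le_idealDepth
    (hU : ∀ q : PrimeSpectrum B, ¬ J ≤ q.asIdeal → FlatCA.FlatAt A q.asIdeal M)
    (h1 : 1 ≤ LocCoh.idealDepth J (EGA4.FibMod A B M)) : Module.Flat A M := by
  apply Groth.Agent.S0390.result (R := A) (S := B)
  rw [← LinearMap.lTensor_inj_iff_rTensor_inj]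
  have key : ∀ I : Ideal A, I = maximalIdeal A ^ 1 → Function.Injective (LinearMap.lTensor M I.subtype) := by
    rintro _ rfl
    rw [injective_iff_map_eq_zero]
    intro x hx
    have h2 : ∀ n : ℕ, ∃ y : M ⊗[A] (maximalIdeal A ^ (n + 1) : Ideal A),
        AlgebraTensorModule.lTensor B M (maximalIdeal A ^ (n + 1) : Ideal A).subtype y = 0 ∧
        AlgebraTensorModule.lTensor B M (Submodule.inclusion
          (Ideal.pow_le_pow_right (Nat.le_add_left 1 n))) y = x := by
      intro n
      induction n with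
      | zero =>
        refine ⟨x, hx, ?_⟩
        have e : (Submodule.inclusion (Ideal.pow_le_pow_right (I := maximalIdeal A) (Nat.le_add_left 1 0))) =
          LinearMap.id := by
          apply LinearMap.ext
          intro y
          rfl
        rw [e]
        exact LinearMap.lTensor_id_apply M _ x
      | succ n ih =>
        obtain ⟨y, hy0, hy⟩ := ih
        obtain ⟨z, hz0, hz⟩ := step J M hU h1 (n + 1) y hy0
        refine ⟨z, hz0, ?_⟩
        rw [← hy, ← hz]
        exact LinearMap.lTensor_comp_apply M (Submodule.inclusion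
          (Ideal.pow_le_pow_right (I := maximalIdeal A) (Nat.le_add_left 1 n)))
          (Submodule.inclusion (Ideal.pow_le_pow_right (Nat.le_succ (n + 1)))) z
    have h3 : x ∈ (⨅ n : ℕ, (EGA4.mB A B) ^ n • (⊤ : Submodule B (M ⊗[A] (maximalIdeal A ^ 1 : Ideal A)))) := by
      rw [Submodule.mem_iInf]
      intro n
      obtain ⟨y, -, hy⟩ := h2 n
      rw [← hy]
      exact image_mem M n _ y
    have hne : EGA4.mB A B ≠ ⊤ := by
      intro h
      have hle : EGA4.mB A B ≤ maximalIdeal B := IsLocalRing.map_maximalIdeal_le (algebraMap A B)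
      exact (maximalIdeal.isMaximal B).ne_top (top_le_iff.mp (h ▸ hle))
    rw [Ideal.iInf_pow_smul_eq_bot_of_isLocalRing _ hne] at h3
    exact h3
  exact key _ (pow_one _).symm

end Main

end K966.FibFlat
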