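import Groth.Agent.QGor.K966.DepthLocal
import Groth.Agent.Ega4A.FlatAtPrime

/-!
# Depth of fibre stalks

For `A → B` Noetherian and `F` a finite `B`-module, flat over `A`, `q` a prime of `B` over `p`:
`depth F_q = depth A_p + depth (F_q / p F_q)`.
-/

set_option autoImplicit false
universe u v w

open Groth.Agent.Localalg.Depth Groth.Agent.Localalg.Depth2 Groth.Agent.Localalg.Depth3 K966.DepthLocal
  TensorProduct IsLocalRing

namespace K966.FibLoc

section Ring

variable (A B : Type u) [CommRing A] [CommRing B] [Algebra A B] (q : Ideal B) [q.IsPrime]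
  (F : Type u) [AddCommGroup F] [Module B F]

/-- Depth of the fibre stalk along an ideal `J` of `B`, over the fibre local ring or over `B_q`. -/
theorem idealDepth_fibLocMod (J : Ideal B) :
    LocCoh.idealDepth (J.map (algebraMap B (EGA4.FibLocRing A B q))) (EGA4.FibLocMod A B q F) =
      LocCoh.idealDepth (J.map (algebraMap B (Localization.AtPrime q))) (EGA4.FibLocMod A B q F) := by
  have h := Groth.Agent.Ega4A.DepthBasic.idealDepth_congr_of_surjective
    (algebraMap (Localization.AtPrime q) (EGA4.FibLocRing A B q)) Ideal.Quotient.mk_surjective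
    (J.map (algebraMap B (Localization.AtPrime q))) (EGA4.FibLocMod A B q F) (EGA4.FibLocMod A B q F)
    (AddEquiv.refl _) (fun r m => (algebraMap_smul (EGA4.FibLocRing A B q) r m).symm)
  rw [h, Ideal.map_map, ← IsScalarTower.algebraMap_eq]

/-- Depth of the fibre stalk, over the fibre local ring or over `B_q`. -/
theorem idealDepth_fibLocMod_self :
    LocCoh.idealDepth (q.map (algebraMap B (EGA4.FibLocRing A B q))) (EGA4.FibLocMod A B q F) =
      LocCoh.depth (Localization.AtPrime q) (EGA4.FibLocMod A B q F) := by
  rw [idealDepth_fibLocMod, Localization.AtPrime.map_eq_maximalIdeal]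
  rfl

/-- The same for the fibre local ring itself. -/
theorem idealDepth_fibLocRing (J : Ideal B) :
    LocCoh.idealDepth (J.map (algebraMap B (EGA4.FibLocRing A B q))) (EGA4.FibLocRing A B q) =
      LocCoh.idealDepth (J.map (algebraMap B (Localization.AtPrime q))) (EGA4.FibLocRing A B q) := by
  have h := Groth.Agent.Ega4A.DepthBasic.idealDepth_congr_of_surjective
    (algebraMap (Localization.AtPrime q) (EGA4.FibLocRing A B q)) Ideal.Quotient.mk_surjective
    (J.map (algebraMap B (Localization.AtPrime q))) (EGA4.FibLocRing A B q) (EGA4.FibLocRing A B q)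
    (AddEquiv.refl _) (fun r m => (algebraMap_smul (EGA4.FibLocRing A B q) r m).symm)
  rw [h, Ideal.map_map, ← IsScalarTower.algebraMap_eq]

/-- The fibre stalk of `B` is the fibre local ring. -/
theorem idealDepth_fibLocMod_ring (J : Ideal B) :
    LocCoh.idealDepth (J.map (algebraMap B (EGA4.FibLocRing A B q))) (EGA4.FibLocMod A B q B) =
      LocCoh.idealDepth (J.map (algebraMap B (EGA4.FibLocRing A B q))) (EGA4.FibLocRing A B q) := by
  rw [idealDepth_fibLocMod, idealDepth_fibLocRing]
  let e : LocalizedModule q.primeCompl B ≃ₗ[Localization.AtPrime q] Localization.AtPrime q :=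
    LinearEquiv.extendScalarsOfIsLocalization q.primeCompl (Localization.AtPrime q)
      (IsLocalizedModule.linearEquiv q.primeCompl (LocalizedModule.mkLinearMap q.primeCompl B)
        (Algebra.linearMap B (Localization.AtPrime q)))
  refine idealDepth_congr_equiv _ (Submodule.Quotient.equiv _ _ e ?_)
  rw [Submodule.map_smul'', Submodule.map_top, LinearEquiv.range]
  simp

end Ring

section Flat

variable (A B : Type u) [CommRing A] [CommRing B] [IsNoetherianRing A]
    [IsNoetherianRing B] [Algebra A B]
    (F : Type u) [AddCommGroup F] [Module B F] [Module A F] [IsScalarTower A B F]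
    [Module.Finite B F] [Module.Flat A F] (q : Ideal B) [q.IsPrime]

/-- Depth formula. -/
theorem depth_eq_add :
    LocCoh.depth (Localization.AtPrime q) (LocalizedModule q.primeCompl F) =
      LocCoh.depth (Localization.AtPrime (q.comap (algebraMap A B)))
        (LocalizedModule (q.comap (algebraMap A B)).primeCompl A) +
      LocCoh.depth (Localization.AtPrime q) (EGA4.FibLocMod A B q F) := by
  rw [← Groth.Agent.Ega4A.FlatAtPrime.depth_tensor_atPrime A B A F q]
  let e : F ⊗[A] A ≃ₗ[B] F := TensorProduct.AlgebraTensorModule.rid A B F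
  let e' : LocalizedModule q.primeCompl (F ⊗[A] A) ≃ₗ[Localization.AtPrime q]
      LocalizedModule q.primeCompl F :=
    LinearEquiv.ofBijective (LocalizedModule.map q.primeCompl e.toLinearMap)
      ⟨LocalizedModule.map_injective q.primeCompl _ e.injective,
        LocalizedModule.map_surjective q.primeCompl _ e.surjective⟩
  exact (idealDepth_congr_equiv _ e').symm

/-- The depth of the fibre stalk is at most the depth of the stalk. -/
theorem depth_fib_le :
    LocCoh.idealDepth (q.map (algebraMap B (EGA4.FibLocRing A B q))) (EGA4.FibLocMod A B q F) ≤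
      LocCoh.depth (Localization.AtPrime q) (LocalizedModule q.primeCompl F) := by
  rw [idealDepth_fibLocMod_self, depth_eq_add A B F q]
  exact le_add_self

/-- `J`-depth from the depths of the fibre stalks at the primes containing `J`. -/
theorem le_idealDepth_of_fib (J : Ideal B) (n : ℕ)
    (h : ∀ q : PrimeSpectrum B, J ≤ q.asIdeal →
      (n : ℕ∞) ≤ LocCoh.idealDepth (q.asIdeal.map (algebraMap B (EGA4.FibLocRing A B q.asIdeal)))
        (EGA4.FibLocMod A B q.asIdeal F)) :
    (n : ℕ∞) ≤ LocCoh.idealDepth J F :=
  le_idealDepth_of_forall J n F fun q _ hq =>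
    (h ⟨q, inferInstance⟩ hq).trans (depth_fib_le A B F q)

end Flat

end K966.FibLoc
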