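import Groth.Agent.QGor.K966.FourTerm
import Groth.Agent.QGor.K966.FibLoc

/-!
# The key proposition at a point of a global situation
-/

set_option autoImplicit false
set_option linter.style.haveILetI false
set_option linter.unusedSectionVars false
universe u v w

open Groth.Agent.Localalg.Depth Groth.Agent.Localalg.Depth2 Groth.Agent.Localalg.Depth3 K966.DepthLocal
  K966.SerreBasic K966.DualPres K966.BijOff K966.FibFlat K966.FibSeq TensorProduct IsLocalRing

namespace K966.FibPoint

section Transfer

variable {A B : Type u} [CommRing A] [CommRing B] [Algebra A B]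

/-- Flatness at a point of a localization. -/
theorem flat_localized_localized (q : Ideal B) [q.IsPrime] (Q : Ideal (Localization.AtPrime q)) [Q.IsPrime]
    (X : Type u) [AddCommGroup X] [Module B X] [Module A X] [IsScalarTower A B X]
    (h : FlatCA.FlatAt A (Q.comap (algebraMap B (Localization.AtPrime q))) X) :
    Module.Flat A (LocalizedModule Q.primeCompl (LocalizedModule q.primeCompl X)) := by
  have hq : ∀ s ∉ q, algebraMap B (Localization.AtPrime q) s ∉ Q := by
    intro s hs hsQ
    have hu : IsUnit (algebraMap B (Localization.AtPrime q) s) :=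
      IsLocalization.map_units (Localization.AtPrime q) (⟨s, hs⟩ : q.primeCompl)
    exact ‹Q.IsPrime›.ne_top (Ideal.eq_top_of_isUnit_mem _ hsQ hu)
  let g := LocalizedModule.mkLinearMap q.primeCompl X
  let l := LocalizedModule.mkLinearMap Q.primeCompl (LocalizedModule q.primeCompl X)
  have H := Groth.Agent.Ega4B.LocTransfer.isLocalizedModule_comp g Q (fun a => by
      obtain ⟨⟨r, s⟩, h⟩ := IsLocalization.surj q.primeCompl a
      exact ⟨s, r, hq s s.2, h⟩) (fun m' => by
      obtain ⟨⟨m, s⟩, h⟩ := IsLocalizedModule.surj q.primeCompl g m'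
      exact ⟨s, hq s s.2, m, h.symm⟩) (fun m hm => by
      rw [IsLocalizedModule.eq_zero_iff q.primeCompl g] at hm
      obtain ⟨s, hs⟩ := hm
      exact ⟨s, hq s s.2, hs⟩) l
  let e := IsLocalizedModule.linearEquiv (Q.comap (algebraMap B (Localization.AtPrime q))).primeCompl
    (LocalizedModule.mkLinearMap (Q.comap (algebraMap B (Localization.AtPrime q))).primeCompl X)
    ((l.restrictScalars B).comp g)
  have h' : Module.Flat A (LocalizedModule (Q.comap (algebraMap B (Localization.AtPrime q))).primeCompl X) := h
  exact Module.Flat.of_linearEquiv (e.restrictScalars A).symm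

end Transfer

section Point

variable (A B : Type u) [CommRing A] [CommRing B] [IsNoetherianRing A] [IsNoetherianRing B] [Algebra A B]
    (J : Ideal B) (q : Ideal B) [q.IsPrime]
    (F E0 E1 G : Type u) [AddCommGroup F] [Module B F] [Module A F] [IsScalarTower A B F] [Module.Finite B F]
    [AddCommGroup E0] [Module B E0] [Module A E0] [IsScalarTower A B E0] [Module.Finite B E0]
    [AddCommGroup E1] [Module B E1] [Module A E1] [IsScalarTower A B E1] [Module.Finite B E1]
    [AddCommGroup G] [Module B G] [Module A G] [IsScalarTower A B G] [Module.Finite B G]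

/-- The key proposition at a point. -/
theorem fourTerm_at
    (hE0 : FlatCA.FlatAt A q E0) (hE1 : FlatCA.FlatAt A q E1)
    (f : F →ₗ[B] E0) (u : E0 →ₗ[B] E1) (v : E1 →ₗ[B] G)
    (hf : Function.Injective f) (hfu : Function.Exact f u) (huv : Function.Exact u v) (hv : Function.Surjective v)
    (hGU : ∀ Q : PrimeSpectrum B, ¬ J ≤ Q.asIdeal → FlatCA.FlatAt A Q.asIdeal G)
    (h0 : 2 ≤ LocCoh.idealDepth (J.map (algebraMap B (Localization.AtPrime q))) (EGA4.FibLocMod A B q E0))
    (h1 : 1 ≤ LocCoh.idealDepth (J.map (algebraMap B (Localization.AtPrime q))) (EGA4.FibLocMod A B q E1)) :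
    (2 ≤ LocCoh.idealDepth (J.map (algebraMap B (Localization.AtPrime q))) (EGA4.FibLocMod A B q F) ↔
      FlatCA.FlatAt A q G) ∧ (FlatCA.FlatAt A q G → FlatCA.FlatAt A q F) := by
  let p := q.comap (algebraMap A B)
  let Ap := Localization.AtPrime p
  let Bq := Localization.AtPrime q
  letI alg : Algebra Ap Bq := (Localization.localRingHom p q (algebraMap A B) rfl).toAlgebra
  have halg : algebraMap Ap Bq = Localization.localRingHom p q (algebraMap A B) rfl := rfl
  haveI tow0 : IsScalarTower A Ap Bq := IsScalarTower.of_algebraMap_eq (fun x => by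
    rw [halg, Localization.localRingHom_to_map, ← IsScalarTower.algebraMap_apply])
  haveI : IsLocalHom (algebraMap Ap Bq) := by
    rw [halg]; exact Localization.isLocalHom_localRingHom _ _ _ _
  have hm : EGA4.mB Ap Bq = p.map (algebraMap A Bq) := by
    change (maximalIdeal Ap).map (algebraMap Ap Bq) = p.map (algebraMap A Bq)
    rw [← Localization.AtPrime.map_eq_maximalIdeal, Ideal.map_map, ← IsScalarTower.algebraMap_eq]
  letI mF : Module Ap (LocalizedModule q.primeCompl F) := Module.compHom _ (algebraMap Ap Bq)
  letI mE0 : Module Ap (LocalizedModule q.primeCompl E0) := Module.compHom _ (algebraMap Ap Bq)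
  letI mE1 : Module Ap (LocalizedModule q.primeCompl E1) := Module.compHom _ (algebraMap Ap Bq)
  letI mG : Module Ap (LocalizedModule q.primeCompl G) := Module.compHom _ (algebraMap Ap Bq)
  haveI tF : IsScalarTower Ap Bq (LocalizedModule q.primeCompl F) := ⟨fun a b m => by
    change (algebraMap Ap Bq a * b) • m = algebraMap Ap Bq a • (b • m)
    rw [mul_smul]⟩
  haveI tE0 : IsScalarTower Ap Bq (LocalizedModule q.primeCompl E0) := ⟨fun a b m => by
    change (algebraMap Ap Bq a * b) • m = algebraMap Ap Bq a • (b • m)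
    rw [mul_smul]⟩
  haveI tE1 : IsScalarTower Ap Bq (LocalizedModule q.primeCompl E1) := ⟨fun a b m => by
    change (algebraMap Ap Bq a * b) • m = algebraMap Ap Bq a • (b • m)
    rw [mul_smul]⟩
  haveI tG : IsScalarTower Ap Bq (LocalizedModule q.primeCompl G) := ⟨fun a b m => by
    change (algebraMap Ap Bq a * b) • m = algebraMap Ap Bq a • (b • m)
    rw [mul_smul]⟩
  haveI sF : IsScalarTower A Ap (LocalizedModule q.primeCompl F) := ⟨fun a b m => by
    change algebraMap Ap Bq (a • b) • m = a • (algebraMap Ap Bq b • m)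
    rw [Algebra.smul_def, map_mul, mul_smul, ← IsScalarTower.algebraMap_apply, algebraMap_smul]⟩
  haveI sE0 : IsScalarTower A Ap (LocalizedModule q.primeCompl E0) := ⟨fun a b m => by
    change algebraMap Ap Bq (a • b) • m = a • (algebraMap Ap Bq b • m)
    rw [Algebra.smul_def, map_mul, mul_smul, ← IsScalarTower.algebraMap_apply, algebraMap_smul]⟩
  haveI sE1 : IsScalarTower A Ap (LocalizedModule q.primeCompl E1) := ⟨fun a b m => by
    change algebraMap Ap Bq (a • b) • m = a • (algebraMap Ap Bq b • m)
    rw [Algebra.smul_def, map_mul, mul_smul, ← IsScalarTower.algebraMap_apply, algebraMap_smul]⟩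
  haveI sG : IsScalarTower A Ap (LocalizedModule q.primeCompl G) := ⟨fun a b m => by
    change algebraMap Ap Bq (a • b) • m = a • (algebraMap Ap Bq b • m)
    rw [Algebra.smul_def, map_mul, mul_smul, ← IsScalarTower.algebraMap_apply, algebraMap_smul]⟩
  haveI fE0 : Module.Flat Ap (LocalizedModule q.primeCompl E0) :=
    (Module.flat_iff_of_isLocalization Ap p.primeCompl _).mpr hE0
  haveI fE1 : Module.Flat Ap (LocalizedModule q.primeCompl E1) :=
    (Module.flat_iff_of_isLocalization Ap p.primeCompl _).mpr hE1
  have key : (2 ≤ LocCoh.idealDepth (J.map (algebraMap B Bq)) (EGA4.FibMod Ap Bq (LocalizedModule q.primeCompl F)) ↔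
      Module.Flat Ap (LocalizedModule q.primeCompl G)) ∧
      (Module.Flat Ap (LocalizedModule q.primeCompl G) → Module.Flat Ap (LocalizedModule q.primeCompl F)) := by
    have hf' : Function.Injective (LocalizedModule.map q.primeCompl f) := injective_localized q.primeCompl f hf
    have hfu' : Function.Exact (LocalizedModule.map q.primeCompl f) (LocalizedModule.map q.primeCompl u) :=
      exact_localized q.primeCompl f u hfu
    have huv' : Function.Exact (LocalizedModule.map q.primeCompl u) (LocalizedModule.map q.primeCompl v) :=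
      exact_localized q.primeCompl u v huv
    have hv' : Function.Surjective (LocalizedModule.map q.primeCompl v) := surjective_localized q.primeCompl v hv
    have h0' : 2 ≤ LocCoh.idealDepth (J.map (algebraMap B Bq)) (EGA4.FibMod Ap Bq (LocalizedModule q.primeCompl E0)) := by
      change 2 ≤ LocCoh.idealDepth (J.map (algebraMap B Bq)) (_ ⧸ (EGA4.mB Ap Bq • _))
      rw [hm]
      exact h0
    have h1' : 1 ≤ LocCoh.idealDepth (J.map (algebraMap B Bq)) (EGA4.FibMod Ap Bq (LocalizedModule q.primeCompl E1)) := by
      change 1 ≤ LocCoh.idealDepth (J.map (algebraMap B Bq)) (_ ⧸ (EGA4.mB Ap Bq • _))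
      rw [hm]
      exact h1
    have hG' : ∀ Q : PrimeSpectrum Bq, ¬ J.map (algebraMap B Bq) ≤ Q.asIdeal →
        FlatCA.FlatAt Ap Q.asIdeal (LocalizedModule q.primeCompl G) := by
      intro Q hQ
      have h2 : FlatCA.FlatAt A (Q.asIdeal.comap (algebraMap B Bq)) G :=
        hGU ⟨Q.asIdeal.comap (algebraMap B Bq), inferInstance⟩ (fun h => hQ (Ideal.map_le_iff_le_comap.mpr h))
      have h3 := flat_localized_localized q Q.asIdeal G h2
      exact (Module.flat_iff_of_isLocalization Ap p.primeCompl _).mpr h3
    refine ⟨⟨?_, ?_⟩, ?_⟩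
    · exact K966.FourTerm.flat_of_two_le (J.map (algebraMap B Bq)) _ _ _ hf' hfu' huv' hv' hG' h0'
    · intro h
      have := K966.FourTerm.two_le_of_flat (J.map (algebraMap B Bq)) _ _ _ hf' hfu' huv' hv' h0' h1' h 1
      rw [pow_one] at this
      exact this
    · exact K966.FibSeq.flat_left _ _ _ hf' hfu' huv' hv'
  have e1 : Module.Flat Ap (LocalizedModule q.primeCompl G) ↔ FlatCA.FlatAt A q G :=
    Module.flat_iff_of_isLocalization Ap p.primeCompl _
  have e2 : Module.Flat Ap (LocalizedModule q.primeCompl F) ↔ FlatCA.FlatAt A q F :=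
    Module.flat_iff_of_isLocalization Ap p.primeCompl _
  rw [e1, e2] at key
  refine ⟨?_, key.2⟩
  rw [← key.1]
  change _ ↔ 2 ≤ LocCoh.idealDepth (J.map (algebraMap B Bq)) (_ ⧸ (EGA4.mB Ap Bq • _))
  rw [hm]

end Point

end K966.FibPoint
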