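import Groth.Agent.QGor.K966.RegMap

/-!
# Kernels and cokernels which are free at a prime: base change

`0 → K → X → Y → N → 0` with `X`, `Y` finite projective over a Noetherian ring `B`, `N` projective at `q`. For
every ring map `B → B'` and prime `q'` over `q` the kernel and the cokernel of `B' ⊗ X → B' ⊗ Y` are free
at `q'`.
-/

set_option autoImplicit false
universe u v w

open K966.DualPres K966.SerreBasic K966.RegMap TensorProduct

namespace K966.RegBC

section Ker

variable {B : Type u} [CommRing B]

/-- The kernel of a regular map is projective at `q`. -/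
theorem projective_ker_of_regular (q : Ideal B) [q.IsPrime] {K X Y : Type u} [AddCommGroup K] [Module B K]
    [AddCommGroup X] [Module B X]
    [AddCommGroup Y] [Module B Y] [Module.Projective B X] (f : K →ₗ[B] X) (g : X →ₗ[B] Y)
    (hf : Function.Injective f) (hfg : Function.Exact f g) (c : Y →ₗ[B] X)
    (t : B) (ht : t ∉ q) (hc : g ∘ₗ c ∘ₗ g = t • g) :
    Module.Projective (Localization.AtPrime q) (LocalizedModule q.primeCompl K) := by
  let ψ : X →ₗ[B] X := t • LinearMap.id - c ∘ₗ g
  have hψ : ∀ x, ψ x ∈ LinearMap.range f := by
    intro x
    have := LinearMap.congr_fun hc x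
    simp only [LinearMap.comp_apply, LinearMap.smul_apply] at this
    have h : g (ψ x) = 0 := by simp [ψ, this]
    exact (hfg _).mp h
  let e := LinearEquiv.ofInjective f hf
  let r : X →ₗ[B] K := e.symm.toLinearMap ∘ₗ ψ.codRestrict (LinearMap.range f) hψ
  have hr : ∀ k, r (f k) = t • k := by
    intro k
    apply hf
    have h1 : f (r (f k)) = ψ (f k) := by
      have : e (r (f k)) = ψ.codRestrict (LinearMap.range f) hψ (f k) := by simp [r]
      exact congrArg Subtype.val this
    rw [h1, map_smul]
    simp [ψ, hfg.apply_apply_eq_zero k]
  have hXq : Module.Projective (Localization.AtPrime q) (LocalizedModule q.primeCompl X) := inferInstance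
  have hu : IsUnit (algebraMap B (Localization.AtPrime q) t) :=
    IsLocalization.map_units (Localization.AtPrime q) (⟨t, ht⟩ : q.primeCompl)
  obtain ⟨v, hv⟩ := hu.exists_left_inv
  refine Module.Projective.of_split (LocalizedModule.map q.primeCompl f)
    (v • LocalizedModule.map q.primeCompl r) ?_
  apply LinearMap.ext
  intro y
  induction y using LocalizedModule.induction_on with
  | h m s =>
    have h1 := hr m
    simp only [LinearMap.comp_apply, LinearMap.smul_apply, LocalizedModule.map_mk, h1,
      LinearMap.id_apply]
    rw [← LocalizedModule.smul'_mk, ← algebraMap_smul (Localization.AtPrime q) t, smul_smul, hv, one_smul]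

/-- The cokernel of a regular map is projective at `q`. -/
theorem projective_coker_of_regular (q : Ideal B) [q.IsPrime] {X Y N : Type u} [AddCommGroup X] [Module B X]
    [AddCommGroup Y] [Module B Y] [AddCommGroup N] [Module B N] [Module.Projective B Y] (h : X →ₗ[B] Y)
    (v : Y →ₗ[B] N) (hv : Function.Surjective v) (hhv : Function.Exact h v) (c : Y →ₗ[B] X)
    (t : B) (ht : t ∉ q) (hc : h ∘ₗ c ∘ₗ h = t • h) :
    Module.Projective (Localization.AtPrime q) (LocalizedModule q.primeCompl N) := by
  have h1 := projective_of_regular q h c t ht hc
  let e : (Y ⧸ LinearMap.range h) ≃ₗ[B] N :=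
    (Submodule.quotEquivOfEq _ _ hhv.linearMap_ker_eq.symm).trans (v.quotKerEquivOfSurjective hv)
  let e' : LocalizedModule q.primeCompl (Y ⧸ LinearMap.range h) ≃ₗ[Localization.AtPrime q]
      LocalizedModule q.primeCompl N :=
    LinearEquiv.ofBijective (LocalizedModule.map q.primeCompl e.toLinearMap)
      ⟨injective_localized q.primeCompl _ e.injective, surjective_localized q.primeCompl _ e.surjective⟩
  exact Module.Projective.of_equiv e'

end Ker

section BC

variable {B B' : Type u} [CommRing B] [CommRing B'] [Algebra B B']

/-- Regularity is stable under base change. -/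
theorem regular_baseChange {X Y : Type u} [AddCommGroup X] [Module B X]
    [AddCommGroup Y] [Module B Y] (g : X →ₗ[B] Y) (c : Y →ₗ[B] X) (t : B) (hc : g ∘ₗ c ∘ₗ g = t • g) :
    (g.baseChange B') ∘ₗ (c.baseChange B') ∘ₗ (g.baseChange B') =
      (algebraMap B B' t) • (g.baseChange B') := by
  rw [← LinearMap.baseChange_comp, ← LinearMap.baseChange_comp, hc, LinearMap.baseChange_smul]
  apply LinearMap.ext
  intro x
  simp

/-- The kernel of the base change is free at every prime over a prime where the cokernel is free. -/
theorem free_ker_baseChange [IsNoetherianRing B'] {X Y N : Type u} [AddCommGroup X] [Module B X]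
    [Module.Finite B X] [Module.Projective B X]
    [AddCommGroup Y] [Module B Y] [AddCommGroup N] [Module B N] [Module.Finite B Y]
    [Module.Projective B Y] (g : X →ₗ[B] Y) (f : Y →ₗ[B] N)
    (hf : Function.Surjective f) (hgf : Function.Exact g f) (q' : Ideal B') [q'.IsPrime]
    (q : Ideal B) [q.IsPrime] (hq : q'.comap (algebraMap B B') = q)
    (hN : Module.Projective (Localization.AtPrime q) (LocalizedModule q.primeCompl N)) :
    Module.Free (Localization.AtPrime q') (LocalizedModule q'.primeCompl (LinearMap.ker (g.baseChange B'))) ∧
    Module.Free (Localization.AtPrime q') (LocalizedModule q'.primeCompl (B' ⊗[B] N)) := by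
  have : Module.FinitePresentation B Y := Module.finitePresentation_of_projective B Y
  obtain ⟨c, t, ht, hc⟩ := exists_regular q g f hf hgf hN
  have ht' : algebraMap B B' t ∉ q' := fun h => ht (by rw [← hq]; exact h)
  have hc' := regular_baseChange (B' := B') g c t hc
  have : Module.Finite B N := Module.Finite.of_surjective f hf
  constructor
  · refine free_of_projective (B := B') q' (↥(LinearMap.ker (g.baseChange B'))) ?_
    exact projective_ker_of_regular q' (LinearMap.ker (g.baseChange B')).subtype (g.baseChange B')
      (Submodule.subtype_injective _) (LinearMap.exact_subtype_ker_map _) (c.baseChange B') _ ht' hc'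
  · refine free_of_projective (B := B') q' (B' ⊗[B] N) ?_
    exact projective_coker_of_regular q' (g.baseChange B') (f.baseChange B')
      (LinearMap.lTensor_surjective B' hf) (lTensor_exact B' hgf hf) (c.baseChange B') _ ht' hc'

end BC

end K966.RegBC
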