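import Groth.Agent.QGor.K966.FibBC
import Groth.Agent.QGor.K966.RegBC
import Groth.Agent.QGor.K966.FibPoint

/-!
# Base change of a four term sequence (S18711)
-/

set_option autoImplicit false
set_option linter.style.haveILetI false
set_option linter.unusedSectionVars false
universe u v w

open Groth.Agent.Localalg.Depth Groth.Agent.Localalg.Depth2 Groth.Agent.Localalg.Depth3 K966.DepthLocal
  K966.SerreBasic K966.DualPres K966.BijOff K966.FibFlat K966.FibSeq TensorProduct IsLocalRing K966.FibLoc
  K966.FibGen K966.FibBC K966.RegBC K966.FibPoint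

namespace K966.BaseChange

section Proj

variable {B : Type u} [CommRing B] [IsNoetherianRing B]

/-- The depth of a finite projective module. -/
theorem le_idealDepth_of_projective (I : Ideal B) (n : ℕ) (E : Type u) [AddCommGroup E] [Module B E]
    [Module.Finite B E] [Module.Projective B E] (h : (n : ℕ∞) ≤ LocCoh.idealDepth I B) :
    (n : ℕ∞) ≤ LocCoh.idealDepth I E := by
  refine le_idealDepth_of_forall I n E (fun p hp hIp => ?_)
  have h1 := (le_idealDepth_iff_forall I B n).mp h p hIp
  have e : LocalizedModule p.primeCompl B ≃ₗ[Localization.AtPrime p] Localization.AtPrime p :=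
    LinearEquiv.extendScalarsOfIsLocalization p.primeCompl (Localization.AtPrime p)
      (IsLocalizedModule.linearEquiv p.primeCompl (LocalizedModule.mkLinearMap p.primeCompl B)
        (Algebra.linearMap B (Localization.AtPrime p)))
  rw [LocCoh.depth, idealDepth_congr_equiv _ e] at h1
  have : Module.Finite (Localization.AtPrime p) (LocalizedModule p.primeCompl E) :=
    Module.Finite.of_isLocalizedModule p.primeCompl (LocalizedModule.mkLinearMap p.primeCompl E)
  have : Module.Free (Localization.AtPrime p) (LocalizedModule p.primeCompl E) :=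
    Module.free_of_flat_of_isLocalRing
  let b := Module.Free.chooseBasis (Localization.AtPrime p) (LocalizedModule p.primeCompl E)
  let ι := Module.Free.ChooseBasisIndex (Localization.AtPrime p) (LocalizedModule p.primeCompl E)
  let : Fintype ι := Module.Free.ChooseBasisIndex.fintype _ _
  let e0 : LocalizedModule p.primeCompl E ≃ₗ[Localization.AtPrime p] (Fin (Fintype.card ι) → Localization.AtPrime p) :=
    (b.reindex (Fintype.equivFin ι)).equivFun
  rw [LocCoh.depth, idealDepth_congr_equiv _ e0]
  exact h1.trans (le_idealDepth_pi _ _ _)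

end Proj

section Flat

variable (A B : Type u) [CommRing A] [CommRing B] [IsNoetherianRing A] [IsNoetherianRing B] [Algebra A B]
    [Module.Flat A B] (J : Ideal B) (n : ℕ)
    (hZ : ∀ q : PrimeSpectrum B, J ≤ q.asIdeal →
      (n : ℕ∞) ≤ LocCoh.idealDepth (q.asIdeal.map (algebraMap B (EGA4.FibLocRing A B q.asIdeal))) (EGA4.FibLocRing A B q.asIdeal))

include hZ

theorem le_idealDepth_ring : (n : ℕ∞) ≤ LocCoh.idealDepth J B :=
  le_idealDepth_of_fib A B B J n fun q hq => by
    rw [idealDepth_fibLocMod_ring]
    exact hZ q hq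

theorem le_idealDepth_fibLocMod_of_projective (E : Type u) [AddCommGroup E] [Module B E]
    [Module.Finite B E] [Module.Projective B E] (q : Ideal B) [q.IsPrime] :
    (n : ℕ∞) ≤ LocCoh.idealDepth (J.map (algebraMap B (Localization.AtPrime q))) (EGA4.FibLocMod A B q E) := by
  refine le_idealDepth_fibLocMod A B E J q n (fun Q hJQ _ _ => ?_)
  refine le_idealDepth_fibLocMod_of_free A B E Q.asIdeal (maximalIdeal _) n ?_ ?_
  · exact K966.RegMap.free_of_projective Q.asIdeal E inferInstance
  · have h := hZ Q hJQ
    rw [idealDepth_fibLocRing, Localization.AtPrime.map_eq_maximalIdeal] at h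
    exact h

end Flat

section Four

variable (A B : Type u) [CommRing A] [CommRing B] [IsNoetherianRing A] [IsNoetherianRing B] [Algebra A B]
    [Module.Flat A B] (J : Ideal B)
    (hZ : ∀ q : PrimeSpectrum B, J ≤ q.asIdeal →
      2 ≤ LocCoh.idealDepth (q.asIdeal.map (algebraMap B (EGA4.FibLocRing A B q.asIdeal))) (EGA4.FibLocRing A B q.asIdeal))
    (F E0 E1 G : Type u) [AddCommGroup F] [Module B F] [Module.Finite B F]
    [AddCommGroup E0] [Module B E0] [Module.Finite B E0] [Module.Projective B E0]
    [AddCommGroup E1] [Module B E1] [Module.Finite B E1] [Module.Projective B E1]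
    [AddCommGroup G] [Module B G] [Module.Finite B G]
    (f : F →ₗ[B] E0) (u : E0 →ₗ[B] E1) (v : E1 →ₗ[B] G)
    (hf : Function.Injective f) (hfu : Function.Exact f u) (huv : Function.Exact u v) (hv : Function.Surjective v)
    (hFU : ∀ q : PrimeSpectrum B, ¬ J ≤ q.asIdeal → Module.Free (Localization.AtPrime q.asIdeal) (LocalizedModule q.asIdeal.primeCompl F))
    (hGU : ∀ q : PrimeSpectrum B, ¬ J ≤ q.asIdeal → Module.Free (Localization.AtPrime q.asIdeal) (LocalizedModule q.asIdeal.primeCompl G))

include f u hf hfu hZ in
theorem two_le_idealDepth : 2 ≤ LocCoh.idealDepth J F :=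
  two_le_idealDepth_of_exact J f u hf hfu
    (le_idealDepth_of_projective J 2 E0 (le_idealDepth_ring A B J 2 hZ))
    (le_trans (by norm_num) (le_idealDepth_of_projective J 2 E1 (le_idealDepth_ring A B J 2 hZ)))

include f u hf hfu hZ hFU in
theorem isReflexive : Module.IsReflexive B F := by
  refine isReflexive_of_idealDepth_two J
    (le_trans (by norm_num) (le_idealDepth_ring A B J 2 hZ)) F (fun p hp => ?_)
    (two_le_idealDepth A B J hZ F E0 E1 f u hf hfu)
  have := hFU p hp
  have : Module.Finite (Localization.AtPrime p.asIdeal) (LocalizedModule p.asIdeal.primeCompl F) :=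
    Module.Finite.of_isLocalizedModule p.asIdeal.primeCompl (LocalizedModule.mkLinearMap p.asIdeal.primeCompl F)
  infer_instance

/-- A finite module which is free at `Q` is flat over the base at `Q`. -/
theorem flatAt_of_free (Q : Ideal B) [Q.IsPrime] (X : Type u) [AddCommGroup X] [Module B X] [Module A X]
    [IsScalarTower A B X]
    (h : Module.Free (Localization.AtPrime Q) (LocalizedModule Q.primeCompl X)) : FlatCA.FlatAt A Q X := by
  have h1 : Module.Flat A (Localization.AtPrime Q) := Module.Flat.trans A B (Localization.AtPrime Q)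
  exact Module.Flat.trans A (Localization.AtPrime Q) (LocalizedModule Q.primeCompl X)

include f u v hf hfu huv hv hZ hGU in
/-- The equivalence at each point. -/
theorem iff_at [Module A F] [IsScalarTower A B F] [Module A E0] [IsScalarTower A B E0]
    [Module A E1] [IsScalarTower A B E1] [Module A G] [IsScalarTower A B G] (q : Ideal B) [q.IsPrime] :
    (FlatCA.FlatAt A q F ∧
      2 ≤ LocCoh.idealDepth (J.map (algebraMap B (EGA4.FibLocRing A B q))) (EGA4.FibLocMod A B q F)) ↔
      FlatCA.FlatAt A q G := by
  have hE0 : Module.Flat A E0 := Module.Flat.trans A B E0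
  have hE1 : Module.Flat A E1 := Module.Flat.trans A B E1
  have key := fourTerm_at A B J q F E0 E1 G
    (Groth.Agent.Flat2B.FlatCrit.flatAt_of_flat q E0) (Groth.Agent.Flat2B.FlatCrit.flatAt_of_flat q E1)
    f u v hf hfu huv hv (fun Q hQ => flatAt_of_free A B Q.asIdeal G (hGU Q hQ))
    (le_idealDepth_fibLocMod_of_projective A B J 2 hZ E0 q)
    (le_trans (by norm_num) (le_idealDepth_fibLocMod_of_projective A B J 2 hZ E1 q))
  rw [idealDepth_fibLocMod, key.1]
  exact ⟨fun h => h.2, fun h => ⟨key.2 h, h⟩⟩

end Four

end K966.BaseChange
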