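import Groth.Agent.QGor.K966.CritOmega
import Groth.Agent.QGor.K66.Main
import Groth.Agent.QGor.K967.FibIndex
import Groth.Agent.QGor.K969.BCIso
import Groth.Agent.QGor.K969.UnitLoc

/-!
# The comparison of reflexive powers after base change
-/

set_option autoImplicit false
universe u

open CategoryTheory CategoryTheory.Limits AlgebraicGeometry RefHull

namespace K966.CmpRef

open Groth.Agent

variable (A : Type u) [CommRing A] [IsNoetherianRing A] (Y : Scheme.{u}) [Y.Over (Spec (CommRingCat.of A))]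
    [IsProper (Y ↘ Spec (CommRingCat.of A))] (d : ℕ)
    (hS : RelCanon.IsSkMor (Y ↘ Spec (CommRingCat.of A)) 2) (hd : Cyc.HasRelDim (Y ↘ Spec (CommRingCat.of A)) d)
    (ω : Y.Modules) (hω : RelCanon.IsDualizingSheaf A Y d ω)
    (hG : ∀ y : Y, y ∉ RelCanon.gorLocus (Y ↘ Spec (CommRingCat.of A)) →
      (2 : WithBot ℕ∞) ≤ ringKrullDim (((Y ↘ Spec (CommRingCat.of A)).fiber ((Y ↘ Spec (CommRingCat.of A)) y)).presheaf.stalk ((Y ↘ Spec (CommRingCat.of A)).asFiber y)))

include hS hd hω in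
/-- The comparison over the Gorenstein locus. -/
theorem nonempty_restrict_iso (B : Type u) [CommRing B] [IsNoetherianRing B] (φ : A →+* B)
    (Y' : Scheme.{u}) [Y'.Over (Spec (CommRingCat.of B))] (p : Y' ⟶ Y)
    (hp : IsPullback p (Y' ↘ Spec (CommRingCat.of B)) (Y ↘ Spec (CommRingCat.of A)) (Spec.map (CommRingCat.ofHom φ)))
    (ω' : Y'.Modules) (hω' : RelCanon.IsDualizingSheaf B Y' d ω') :
    Nonempty (((Scheme.Modules.pullback p).obj ω).restrict (p ⁻¹ᵁ K967.FibIndex.gorOpens A Y hS).ι ≅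
      ω'.restrict (p ⁻¹ᵁ K967.FibIndex.gorOpens A Y hS).ι) := by
  have hfl : Flat (Y ↘ Spec (CommRingCat.of A)) := hS.1
  obtain ⟨e⟩ := K968.Compare4.nonempty_restrict_iso A hd hω B hp hω'
    (isPullback_morphismRestrict p (K967.FibIndex.gorOpens A Y hS))
    (fun x => K969.BCIso.isCMAt_of_mem_gorLocus x.2)
  obtain ⟨e'⟩ := K969.FibRef.nonempty_pullback_restrict p (K967.FibIndex.gorOpens A Y hS) ω
  exact ⟨e' ≪≫ e.symm⟩

include hS hd hω hG in
theorem cmp (m : ℤ) : K966.CritOmega.Cmp A Y d ω m := by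
  intro B _ _ φ Y' _ p hp ω' hω'
  have hA : IsNoetherianRing (CommRingCat.of A) := inferInstanceAs (IsNoetherianRing A)
  have hB : IsNoetherianRing (CommRingCat.of B) := inferInstanceAs (IsNoetherianRing B)
  have hlN : IsLocallyNoetherian Y := LocallyOfFiniteType.isLocallyNoetherian (Y ↘ Spec (CommRingCat.of A))
  have hpr : IsProper (Y' ↘ Spec (CommRingCat.of B)) := MorphismProperty.of_isPullback (P := @IsProper) hp inferInstance
  have hlN' : IsLocallyNoetherian Y' := LocallyOfFiniteType.isLocallyNoetherian (Y' ↘ Spec (CommRingCat.of B))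
  have hfl : Flat (Y ↘ Spec (CommRingCat.of A)) := hS.1
  let U := K967.FibIndex.gorOpens A Y hS
  obtain ⟨e0⟩ := nonempty_restrict_iso A Y d hS hd ω hω B φ Y' p hp ω' hω'
  have hU : ∀ z ∈ U, RelCanon.InvertibleAt ω z := K967.FibIndex.invertibleAt_of_mem A Y d hS hd ω hω
  obtain ⟨e1⟩ := K66.Main.nonempty_pullback_refPowZ p ω U hU ω' e0 m
  have hO : IsIso ((Scheme.Modules.restrictAdjunction (p ⁻¹ᵁ U).ι).unit.app (Coh.structureModule Y')) := by
    refine K967.FibDepth.isIso_unit_structure (Y' ↘ Spec (CommRingCat.of B))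
      (K970.BCHyp.isSkMor_cat (CommRingCat.ofHom φ) hp 2 hS) (p ⁻¹ᵁ U) fun x hx => ?_
    refine (hG (p x) hx).trans (K970.BCHyp.ringKrullDim_fibre_le_cat (CommRingCat.ofHom φ) hp x)
  have hinv : PicF.IsInvertible (((Scheme.Modules.pullback p).obj (RelCanon.refPowZ ω m)).restrict (p ⁻¹ᵁ U).ι) :=
    (K970.InvAt.isInvertible_restrict_iff _ _).mpr fun w =>
      K970.InvAt.invertibleAt_pullback p _ _ (K66.Main.invertibleAt_refPowZ ω U hU m _ w.2)
  obtain ⟨e2⟩ := K66.RefZ.nonempty_ddual_iso hinv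
  exact K969.RefU.nonempty_iso_of_unit (p ⁻¹ᵁ U) (K967.HomUnit.isIso_unit_ddual _ _ hO)
    (K967.HomUnit.isIso_unit_refPowZ ω' _ hO m)
    (K476.HomSh5.restrictDDual (p ⁻¹ᵁ U).ι _ ≪≫ e2 ≪≫ e1)

end K966.CmpRef
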