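import Groth.Agent.QGor.K966.RelS2
import Groth.Agent.QGor.K966.FibSeq

/-!
# Base change of the kernel of a map with cokernel flat at a point
-/

set_option autoImplicit false
set_option linter.unusedSectionVars false
universe u

open TensorProduct K966.SerreBasic K966.FibSeq K966.OffMap K966.OffPoint K966.RelS2

namespace K966.ExactAt

section Elem

variable {A B : Type u} [CommRing A] [CommRing B] [Algebra A B]
    {F E0 E1 G : Type u} [AddCommGroup F] [Module B F] [Module A F] [IsScalarTower A B F]
    [AddCommGroup E0] [Module B E0] [Module A E0] [IsScalarTower A B E0]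
    [AddCommGroup E1] [Module B E1] [Module A E1] [IsScalarTower A B E1]
    [AddCommGroup G] [Module B G] [Module A G] [IsScalarTower A B G]
    (f : F →ₗ[B] E0) (u : E0 →ₗ[B] E1) (v : E1 →ₗ[B] G)
    (hf : Function.Injective f) (hfu : Function.Exact f u) (huv : Function.Exact u v) (hv : Function.Surjective v)
    (n : Ideal B) [n.IsPrime] (hE1 : FlatCA.FlatAt A n E1) (hG : FlatCA.FlatAt A n G)
    (N : Type u) [AddCommGroup N] [Module A N]

/-- The localization map of `F ⊗ N`. -/
noncomputable def loc (F : Type u) [AddCommGroup F] [Module B F] [Module A F] [IsScalarTower A B F] :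
    F ⊗[A] N →ₗ[B] (LocalizedModule n.primeCompl F) ⊗[A] N :=
  AlgebraTensorModule.rTensor A N (LocalizedModule.mkLinearMap n.primeCompl F)

instance (F : Type u) [AddCommGroup F] [Module B F] [Module A F] [IsScalarTower A B F] :
    IsLocalizedModule n.primeCompl (loc (A := A) n N F) :=
  inferInstanceAs (IsLocalizedModule n.primeCompl
      (AlgebraTensorModule.rTensor A N (LocalizedModule.mkLinearMap n.primeCompl F)))

theorem loc_naturality (x : F ⊗[A] N) :
    AlgebraTensorModule.rTensor A N (LocalizedModule.map n.primeCompl f) (loc n N F x) =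
      loc n N E0 (AlgebraTensorModule.rTensor A N f x) := by
  induction x using TensorProduct.induction_on with
  | zero => simp
  | tmul a b =>
    simp only [loc, AlgebraTensorModule.rTensor_tmul]
    congr 1
    exact LocalizedModule.map_mk n.primeCompl f a 1
  | add a b ha hb => simp only [map_add, ha, hb]

include hf hfu huv hv hE1 hG in
theorem exact_at :
    (∀ x : F ⊗[A] N, AlgebraTensorModule.rTensor A N f x = 0 → ∃ s : B, s ∉ n ∧ s • x = 0) ∧
      (∀ z : E0 ⊗[A] N, AlgebraTensorModule.rTensor A N u z = 0 →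
        ∃ (s : B) (w : F ⊗[A] N), s ∉ n ∧ s • z = AlgebraTensorModule.rTensor A N f w) := by
  have hE1' : Module.Flat A (LocalizedModule n.primeCompl E1) := hE1
  have hG' : Module.Flat A (LocalizedModule n.primeCompl G) := hG
  obtain ⟨h1, h2⟩ := tensor_exact (LocalizedModule.map n.primeCompl f) (LocalizedModule.map n.primeCompl u)
    (LocalizedModule.map n.primeCompl v) (injective_localized n.primeCompl f hf)
    (exact_localized n.primeCompl f u hfu) (exact_localized n.primeCompl u v huv)
    (surjective_localized n.primeCompl v hv) hG' N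
  constructor
  · intro x hx
    have h3 : loc n N F x = 0 := by
      apply h1
      rw [loc_naturality, hx, map_zero, map_zero]
    obtain ⟨s, hs⟩ := (IsLocalizedModule.eq_zero_iff n.primeCompl (loc n N F)).mp h3
    exact ⟨s, s.2, hs⟩
  · intro z hz
    have h3 : AlgebraTensorModule.rTensor A N (LocalizedModule.map n.primeCompl u) (loc n N E0 z) = 0 := by
      rw [loc_naturality, hz, map_zero]
    obtain ⟨w', hw'⟩ := (h2 _).mp h3
    obtain ⟨⟨w, s⟩, hw⟩ := IsLocalizedModule.surj n.primeCompl (loc n N F) w'
    have h4 : loc n N E0 ((s : B) • z) = loc n N E0 (AlgebraTensorModule.rTensor A N f w) := by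
      rw [map_smul, ← hw', ← loc_naturality, ← hw]
      exact (LinearMap.map_smul_of_tower
        (AlgebraTensorModule.rTensor A N (LocalizedModule.map n.primeCompl f)) (s : B) w').symm
    obtain ⟨s', hs'⟩ := IsLocalizedModule.exists_of_eq (S := n.primeCompl) h4
    refine ⟨s' * s, (s' : B) • w, (s' * s).2, ?_⟩
    rw [mul_smul, map_smul]
    exact hs'

end Elem

section Push

variable {A B A' B' : Type u} [CommRing A] [CommRing B] [CommRing A'] [CommRing B'] [Algebra A B]
    [Algebra A A'] [Algebra B B'] [Algebra A' B'] [Algebra A B'] [IsScalarTower A B B'] [IsScalarTower A A' B']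
    [hpo : Algebra.IsPushout A B A' B']

variable (A A' B') in
/-- `B' ⊗_B F = F ⊗_A A'`. -/
noncomputable def pushEquiv (F : Type u) [AddCommGroup F] [Module B F] [Module A F] [IsScalarTower A B F] :
    F ⊗[A] A' ≃ₗ[B] B' ⊗[B] F :=
  (AlgebraTensorModule.cancelBaseChange A B B F A').symm ≪≫ₗ
    TensorProduct.congr (LinearEquiv.refl B F) (Algebra.IsPushout.equiv A B A' B').toLinearEquiv ≪≫ₗ
    TensorProduct.comm B F B'

theorem pushEquiv_tmul {F : Type u} [AddCommGroup F] [Module B F] [Module A F] [IsScalarTower A B F] (x : F) (a : A') :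
    pushEquiv A A' B' F (x ⊗ₜ[A] a) = (algebraMap A' B' a) ⊗ₜ[B] x := by
  simp [pushEquiv, Algebra.IsPushout.equiv_tmul]

theorem pushEquiv_naturality {F E : Type u} [AddCommGroup F] [Module B F] [Module A F] [IsScalarTower A B F]
    [AddCommGroup E] [Module B E] [Module A E] [IsScalarTower A B E] (f : F →ₗ[B] E) (x : F ⊗[A] A') :
    pushEquiv A A' B' E (AlgebraTensorModule.rTensor A A' f x) = f.baseChange B' (pushEquiv A A' B' F x) := by
  induction x using TensorProduct.induction_on with
  | zero => simp
  | tmul a b => simp [pushEquiv_tmul]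
  | add a b ha hb => simp only [map_add, ha, hb]

end Push

section Bij

variable {R M K : Type u} [CommRing R] [AddCommGroup M] [Module R M] [AddCommGroup K] [Module R K]

theorem bijective_localized_of_elem (S : Submonoid R) (α : M →ₗ[R] K)
    (h1 : ∀ x, α x = 0 → ∃ s ∈ S, s • x = 0) (h2 : ∀ z, ∃ s ∈ S, ∃ w, s • z = α w) :
    Function.Bijective (LocalizedModule.map S α) := by
  constructor
  · rw [injective_iff_map_eq_zero]
    intro x hx
    induction x using LocalizedModule.induction_on with
    | h a s =>
      rw [LocalizedModule.map_mk, ← LocalizedModule.zero_mk s, LocalizedModule.mk_eq] at hx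
      obtain ⟨t, ht⟩ := hx
      rw [smul_zero, smul_zero, smul_smul] at ht
      obtain ⟨t', ht', h⟩ := h1 (((t * s : S) : R) • a) (by rw [map_smul]; exact ht)
      rw [← LocalizedModule.zero_mk s, LocalizedModule.mk_eq]
      refine ⟨⟨t', ht'⟩ * t, ?_⟩
      rw [smul_zero, smul_zero, smul_smul, mul_assoc, mul_smul]
      exact h
  · intro z
    induction z using LocalizedModule.induction_on with
    | h a s =>
      obtain ⟨t, ht, w, hw⟩ := h2 a
      refine ⟨LocalizedModule.mk w (⟨t, ht⟩ * s), ?_⟩
      rw [LocalizedModule.map_mk, ← hw]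
      exact LocalizedModule.mk_cancel_common_left ⟨t, ht⟩ s a

theorem nonempty_equiv_of_elem (q : Ideal R) [q.IsPrime] (α : M →ₗ[R] K)
    (h1 : ∀ x, α x = 0 → ∃ s, s ∉ q ∧ s • x = 0) (h2 : ∀ z, ∃ s w, s ∉ q ∧ s • z = α w) :
    Nonempty (LocalizedModule q.primeCompl M ≃ₗ[Localization.AtPrime q] LocalizedModule q.primeCompl K) :=
  ⟨LinearEquiv.ofBijective _ (bijective_localized_of_elem q.primeCompl α h1 fun z => by
    obtain ⟨s, w, hs, h⟩ := h2 z
    exact ⟨s, hs, w, h⟩)⟩

end Bij

section Main

variable (A B : Type u) [CommRing A] [CommRing B] [IsNoetherianRing A] [IsNoetherianRing B] [Algebra A B]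
    [Module.Flat A B] (J : Ideal B)
    (F X Y G : Type u) [AddCommGroup F] [Module B F] [Module.Finite B F] [Module A F] [IsScalarTower A B F]
    [AddCommGroup X] [Module B X] [Module.Finite B X] [Module.Projective B X] [Module A X] [IsScalarTower A B X]
    [AddCommGroup Y] [Module B Y] [Module.Finite B Y] [Module.Projective B Y] [Module A Y] [IsScalarTower A B Y]
    [AddCommGroup G] [Module B G] [Module.Finite B G] [Module A G] [IsScalarTower A B G]
    (f : F →ₗ[B] X) (g : X →ₗ[B] Y) (v : Y →ₗ[B] G)
    (hf : Function.Injective f) (hfg : Function.Exact f g) (hgv : Function.Exact g v) (hv : Function.Surjective v)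
    (A' B' : Type u) [CommRing A'] [CommRing B'] [IsNoetherianRing A'] [IsNoetherianRing B']
    [Algebra A A'] [Algebra B B'] [Algebra A' B'] [Algebra A B'] [IsScalarTower A B B'] [IsScalarTower A A' B']
    [hpo : Algebra.IsPushout A B A' B'] (q' : Ideal B') [q'.IsPrime]

include f g v hf hfg hgv hv hpo in
/-- If `G` is flat at the point below, then `B' ⊗ F` is the kernel of `B' ⊗ X → B' ⊗ Y` at `q'`. -/
theorem nonempty_ker_equiv (hG : FlatCA.FlatAt A (q'.comap (algebraMap B B')) G) :
    Nonempty (LocalizedModule q'.primeCompl (B' ⊗[B] F) ≃ₗ[Localization.AtPrime q']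
      LocalizedModule q'.primeCompl (LinearMap.ker (g.baseChange B'))) := by
  have hY : Module.Flat A Y := Module.Flat.trans A B Y
  obtain ⟨h1, h2⟩ := exact_at f g v hf hfg hgv hv (q'.comap (algebraMap B B'))
    (Groth.Agent.Flat2B.FlatCrit.flatAt_of_flat _ Y) hG A'
  have hz : ∀ x : B' ⊗[B] F, g.baseChange B' (f.baseChange B' x) = 0 := fun x => by
    induction x using TensorProduct.induction_on with
    | zero => rw [map_zero, map_zero]
    | tmul a b => rw [LinearMap.baseChange_tmul, LinearMap.baseChange_tmul, hfg.apply_apply_eq_zero, tmul_zero]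
    | add a b ha hb => rw [map_add, map_add, ha, hb, add_zero]
  let α : B' ⊗[B] F →ₗ[B'] LinearMap.ker (g.baseChange B') :=
    LinearMap.codRestrict _ (f.baseChange B') (fun x => LinearMap.mem_ker.mpr (hz x))
  have k1 : ∀ x, α x = 0 → ∃ s, s ∉ q' ∧ s • x = 0 := by
    intro x hx
    have hx1 : f.baseChange B' x = 0 := congrArg Subtype.val hx
    obtain ⟨y, rfl⟩ := (pushEquiv A A' B' F).surjective x
    rw [← pushEquiv_naturality, EmbeddingLike.map_eq_zero_iff] at hx1
    obtain ⟨s, hs, hsy⟩ := h1 y hx1
    refine ⟨algebraMap B B' s, hs, ?_⟩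
    rw [algebraMap_smul, ← map_smul, hsy, map_zero]
  have k2 : ∀ z, ∃ s w, s ∉ q' ∧ s • z = α w := by
    rintro ⟨z, hz⟩
    rw [LinearMap.mem_ker] at hz
    obtain ⟨y, rfl⟩ := (pushEquiv A A' B' X).surjective z
    rw [← pushEquiv_naturality, EmbeddingLike.map_eq_zero_iff] at hz
    obtain ⟨s, w, hs, hsw⟩ := h2 y hz
    refine ⟨algebraMap B B' s, pushEquiv A A' B' F w, hs, ?_⟩
    apply Subtype.ext
    change algebraMap B B' s • pushEquiv A A' B' X y = f.baseChange B' (pushEquiv A A' B' F w)
    rw [← pushEquiv_naturality, ← hsw, algebraMap_smul, map_smul]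
  exact nonempty_equiv_of_elem (M := B' ⊗[B] F) (K := LinearMap.ker (g.baseChange B')) q' α k1 k2

omit [Module A F] [IsScalarTower A B F] [Module A X] [IsScalarTower A B X] [Module A Y] [IsScalarTower A B Y] in
include f g v hf hfg hgv hv hpo in
/-- If `G` is flat at the point below, then `B' ⊗ F` is reflexive at `q'`. -/
theorem exists_bidual_baseChange (hZ : ∀ Q : PrimeSpectrum B, J ≤ Q.asIdeal → Q.asIdeal ≤ q'.comap (algebraMap B B') →
      2 ≤ LocCoh.idealDepth (Q.asIdeal.map (algebraMap B (EGA4.FibLocRing A B Q.asIdeal))) (EGA4.FibLocRing A B Q.asIdeal))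
    (hg : RegOff J g) (hG : FlatCA.FlatAt A (q'.comap (algebraMap B B')) G) :
    Nonempty (LocalizedModule q'.primeCompl (Module.Dual B' (Module.Dual B' (B' ⊗[B] F)))
      ≃ₗ[Localization.AtPrime q'] LocalizedModule q'.primeCompl (B' ⊗[B] F)) := by
  let : Module A F := Module.compHom F (algebraMap A B)
  have : IsScalarTower A B F := IsScalarTower.of_algebraMap_smul fun _ _ => rfl
  let : Module A X := Module.compHom X (algebraMap A B)
  have : IsScalarTower A B X := IsScalarTower.of_algebraMap_smul fun _ _ => rfl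
  let : Module A Y := Module.compHom Y (algebraMap A B)
  have : IsScalarTower A B Y := IsScalarTower.of_algebraMap_smul fun _ _ => rfl
  obtain ⟨e1⟩ := nonempty_ker_equiv A B F X Y G f g v hf hfg hgv hv A' B' q' hG
  have : Module.Flat A' B' :=
    Module.Flat.isBaseChange A A' B B' (Algebra.IsPushout.symm hpo).out
  have hZ' := fib_baseChange A B J _ hZ A' B' q' le_rfl
  obtain ⟨α, -, hα⟩ := isoOff_ker f g hf hfg B' hg
  have k1 : Function.Exact (LinearMap.ker (g.baseChange B')).subtype (g.baseChange B') :=
    LinearMap.exact_subtype_ker_map _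
  have k0 : Function.Injective (LinearMap.ker (g.baseChange B')).subtype := Submodule.subtype_injective _
  have hg' : RegOff (J.map (algebraMap B B')) (g.baseChange B') := hg.baseChange
  obtain ⟨e⟩ := exists_bidual_equiv_at (R := B') (M := B' ⊗[B] F) (K := LinearMap.ker (g.baseChange B'))
    (J.map (algebraMap B B')) q'
    (two_le_depth_localized A' B' _ q' hZ') (LinearMap.ker (g.baseChange B')).subtype (g.baseChange B')
    k0 k1 hg' α hα
  exact ⟨e.trans e1.symm⟩

end Main

end K966.ExactAt
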