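import Groth.Agent.QGor.K966.RelS2
import Groth.Agent.Ega43.FibAff

/-!
# The fibres near a point where the fibre satisfies `(S₂)`
-/

set_option autoImplicit false
set_option linter.unusedSectionVars false
universe u v w

open K966.DualPres K966.SerreBasic K966.RegMap K966.RegBC K966.BijOff K966.DepthLocal K966.OffMap TensorProduct
  K966.ReflFree K966.BaseChange K966.FibGen K966.FibLoc K966.FibBC K966.FibSk K966.OffPoint K966.FibPoint
  Groth.Agent.Localalg.Depth Groth.Agent.Localalg.Depth2 IsLocalRing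

namespace K966.OpenS2

variable (A B : Type u) [CommRing A] [CommRing B] [Algebra A B]

/-- `(S_k)` at `n` in the fibre implies `(S_k)` at all generizations, in all fibres. -/
theorem hasSk_of_le [IsNoetherianRing A] [Algebra.FiniteType A B] [Module.Flat A B] (k : ℕ) (n Q : PrimeSpectrum B)
    (hQ : Q ≤ n) (h : LocCoh.HasSk k (EGA4.FibLocRing A B n.asIdeal) (EGA4.FibLocRing A B n.asIdeal)) :
    LocCoh.HasSk k (EGA4.FibLocRing A B Q.asIdeal) (EGA4.FibLocRing A B Q.asIdeal) := by
  have : Algebra.FinitePresentation A B := Algebra.FinitePresentation.of_finiteType.mp inferInstance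
  have hopen := Groth.Agent.Ega43.FibAff.isOpen_hasSk (A := A) (B := B) k
  have hs : Q ⤳ n := (PrimeSpectrum.le_iff_specializes Q n).mp hQ
  exact hs.mem_open hopen h

/-- Depth at least two from `(S₂)` and dimension at least two. -/
theorem two_le_of_hasSk_of_dim (Q : Ideal B) [Q.IsPrime]
    (h : LocCoh.HasSk 2 (EGA4.FibLocRing A B Q) (EGA4.FibLocRing A B Q))
    (hdim : (2 : WithBot ℕ∞) ≤ ringKrullDim (EGA4.FibLocRing A B Q)) :
    2 ≤ LocCoh.idealDepth (Q.map (algebraMap B (EGA4.FibLocRing A B Q))) (EGA4.FibLocRing A B Q) := by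
  have := Groth.Agent.Ega4C.SkFlat.isLocalRing_fibLocRing (B := A) Q
  rw [idealDepth_fibLocRing_self]
  have h1 := Groth.Agent.Ega4A.FlatAtPrime.le_depth_of_hasSk _ 2 h
  rw [Module.supportDim_self_eq_ringKrullDim, min_eq_left (by exact hdim)] at h1
  exact WithBot.coe_le_coe.mp h1

end K966.OpenS2
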