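import Groth.Agent.QGor.K966.OpenS2
import Groth.Agent.Ega4C.SkField

/-!
# Base change of `(S_k)` for the local rings of the fibres
-/

set_option autoImplicit false
set_option linter.unusedSectionVars false
universe u v w

open TensorProduct IsLocalRing

namespace K966.SkBC

section Fiber

variable {A₁ A₂ : Type u} (B₁ B₂ : Type u) [CommRing A₁] [CommRing A₂] [CommRing B₁] [CommRing B₂]
  [Algebra A₁ A₂] [Algebra A₁ B₁] [Algebra A₂ B₂] [Algebra B₁ B₂] [Algebra A₁ B₂]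
  [IsScalarTower A₁ A₂ B₂] [IsScalarTower A₁ B₁ B₂] [hpo : Algebra.IsPushout A₁ B₁ A₂ B₂]
  (t₁ : Ideal A₁) (t₂ : Ideal A₂) [t₁.IsPrime] [t₂.IsPrime] [ht : t₂.LiesOver t₁]

include hpo ht in
/-- `(S_k)` of a fibre ring passes to the fibre rings of a base change. -/
theorem hasSk_fiber_baseChange [Algebra.FiniteType A₁ B₁] [IsNoetherianRing B₁] [IsNoetherianRing B₂] (k : ℕ)
    (h : LocCoh.HasSk k (t₁.Fiber B₁) (t₁.Fiber B₁)) : LocCoh.HasSk k (t₂.Fiber B₂) (t₂.Fiber B₂) := by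
  let : Algebra t₁.ResidueField t₂.ResidueField :=
    (Ideal.ResidueField.mapₐ t₁ t₂ (Algebra.ofId A₁ A₂) ht.over).toRingHom.toAlgebra
  have : IsScalarTower A₁ t₁.ResidueField t₂.ResidueField := IsScalarTower.of_algebraMap_eq' (by
    exact ((Ideal.ResidueField.mapₐ t₁ t₂ (Algebra.ofId A₁ A₂) ht.over).comp_algebraMap).symm)
  have hpo' : Algebra.IsPushout A₁ A₂ B₁ B₂ := Algebra.IsPushout.symm hpo
  let e1 : t₂.ResidueField ⊗[t₁.ResidueField] (t₁.ResidueField ⊗[A₁] B₁) ≃ₐ[t₂.ResidueField]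
      t₂.ResidueField ⊗[A₁] B₁ :=
    Algebra.TensorProduct.cancelBaseChange A₁ t₁.ResidueField t₂.ResidueField t₂.ResidueField B₁
  let e2 : t₂.ResidueField ⊗[A₂] (A₂ ⊗[A₁] B₁) ≃ₐ[t₂.ResidueField] t₂.ResidueField ⊗[A₁] B₁ :=
    Algebra.TensorProduct.cancelBaseChange A₁ A₂ t₂.ResidueField t₂.ResidueField B₁
  let e3 : A₂ ⊗[A₁] B₁ ≃ₐ[A₂] B₂ := Algebra.IsPushout.equiv A₁ A₂ B₁ B₂
  let e4 : t₂.ResidueField ⊗[A₂] (A₂ ⊗[A₁] B₁) ≃ₐ[t₂.ResidueField] t₂.Fiber B₂ :=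
    Algebra.TensorProduct.congr AlgEquiv.refl e3
  let e : t₁.Fiber B₁ ⊗[t₁.ResidueField] t₂.ResidueField ≃+* t₂.Fiber B₂ :=
    (Algebra.TensorProduct.comm t₁.ResidueField (t₁.Fiber B₁) t₂.ResidueField).toRingEquiv.trans
      ((e1.toRingEquiv.trans e2.symm.toRingEquiv).trans e4.toRingEquiv)
  have h1 : IsNoetherianRing (t₁.Fiber B₁) := Groth.Agent.Ega4C.FibreTower.isNoetherianRing_fiber t₁
  have h2 : IsNoetherianRing (t₂.Fiber B₂) := Groth.Agent.Ega4C.FibreTower.isNoetherianRing_fiber t₂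
  have h3 : IsNoetherianRing (t₁.Fiber B₁ ⊗[t₁.ResidueField] t₂.ResidueField) :=
    isNoetherianRing_of_ringEquiv _ e.symm
  have h4 : Algebra.FiniteType t₁.ResidueField (t₁.Fiber B₁) := inferInstance
  exact Groth.Agent.Ega4C.SkField.hasSk_of_ringEquiv k e
    (Groth.Agent.Ega4C.SkField.hasSk_tensor_field t₁.ResidueField (t₁.Fiber B₁) t₂.ResidueField
      (Or.inl inferInstance) k h)

end Fiber

section FibLoc

variable (A B A' B' : Type u) [CommRing A] [CommRing B] [CommRing A'] [CommRing B'] [Algebra A B]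
    [Algebra A A'] [Algebra B B'] [Algebra A' B'] [Algebra A B'] [IsScalarTower A B B'] [IsScalarTower A A' B']
    [hpo : Algebra.IsPushout A B A' B'] [IsNoetherianRing A] [IsNoetherianRing A'] [IsNoetherianRing B] [IsNoetherianRing B']
    [Algebra.FiniteType A B]

include hpo in
/-- `(S_k)` of the fibre over `q' ∩ A` passes to the local ring of the fibre at `q'`. -/
theorem hasSk_fibLocRing_baseChange (k : ℕ) (q' : PrimeSpectrum B')
    (h : ∀ q : PrimeSpectrum B,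
      q.asIdeal.comap (algebraMap A B) = (q'.asIdeal.comap (algebraMap A' B')).comap (algebraMap A A') →
      LocCoh.HasSk k (EGA4.FibLocRing A B q.asIdeal) (EGA4.FibLocRing A B q.asIdeal)) :
    LocCoh.HasSk k (EGA4.FibLocRing A' B' q'.asIdeal) (EGA4.FibLocRing A' B' q'.asIdeal) := by
  let p' := q'.asIdeal.comap (algebraMap A' B')
  let p := p'.comap (algebraMap A A')
  have hl : p'.LiesOver p := ⟨rfl⟩
  have h1 : LocCoh.HasSk k (p.Fiber B) (p.Fiber B) := by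
    rw [Groth.Agent.Ega4C.SkFlat.fiber_hasSk_iff]
    intro r hr _ hrp
    have h2 := h ⟨r, hr⟩ hrp
    have h3 := Groth.Agent.Ega4A.FlatAtPrime.le_depth_of_hasSk _ k h2
    rw [Module.supportDim_self_eq_ringKrullDim] at h3
    exact h3
  have h2 := hasSk_fiber_baseChange (A₁ := A) (A₂ := A') B B' p p' k h1
  rw [Groth.Agent.Ega43.FibAff.hasSk_iff]
  intro r _ hr
  have := Groth.Agent.Ega4C.SkFlat.isLocalRing_fibLocRing (B := A') r.asIdeal
  rw [Groth.Agent.Ega4C.SkFlat.fiber_hasSk_iff] at h2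
  exact h2 r.asIdeal (congrArg PrimeSpectrum.asIdeal hr)

end FibLoc

end K966.SkBC
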