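import Groth.Agent.QGor.K970.Chart

/-!
# Stalks in a chart
-/

set_option autoImplicit false
universe u

open TensorProduct CategoryTheory AlgebraicGeometry

namespace K966.StalkChart

open Groth.Agent K970.RelSk1 K970.RelSk2 K970.TildeDual K970.Chart

section Tilde

variable {C : Type u} [CommRing C]

/-- Localizations and stalks. -/
theorem nonempty_stalk_equiv_tilde (M N : Type u) [AddCommGroup M] [Module C M] [AddCommGroup N] [Module C N]
    (q : PrimeSpectrum C) (x : Spec (CommRingCat.of C)) (hx : x = q)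
    (h : Nonempty (LocalizedModule q.asIdeal.primeCompl M ≃ₗ[Localization.AtPrime q.asIdeal]
      LocalizedModule q.asIdeal.primeCompl N)) :
    Nonempty ((tilde (R := CommRingCat.of C) (ModuleCat.of C M)).presheaf.stalk x
      ≃ₗ[(Spec (CommRingCat.of C)).presheaf.stalk x]
      (tilde (R := CommRingCat.of C) (ModuleCat.of C N)).presheaf.stalk x) := by
  obtain ⟨e⟩ := h
  obtain ⟨σ, e1, hσ, he1⟩ := exists_stalk_equiv M q x hx
  obtain ⟨τ, e2, hτ, he2⟩ := exists_stalk_equiv N q x hx
  have hστ : ∀ r, σ r = τ r := by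
    have h1 : (σ : Localization.AtPrime q.asIdeal →+* (Spec (CommRingCat.of C)).presheaf.stalk x) =
        (τ : Localization.AtPrime q.asIdeal →+* (Spec (CommRingCat.of C)).presheaf.stalk x) := by
      apply IsLocalization.ringHom_ext q.asIdeal.primeCompl
      ext c
      exact (hσ c).trans (hτ c).symm
    exact fun r => RingHom.congr_fun h1 r
  refine ⟨{ (e1.symm.trans (e.toAddEquiv.trans e2)) with map_smul' := fun r s => ?_ }⟩
  change e2 (e (e1.symm (r • s))) = r • e2 (e (e1.symm s))
  obtain ⟨r, rfl⟩ := σ.surjective r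
  obtain ⟨s, rfl⟩ := e1.surjective s
  rw [← he1, e1.symm_apply_apply, e1.symm_apply_apply, map_smul, he2, hστ]

/-- The converse. -/
theorem nonempty_localized_equiv_tilde (M N : Type u) [AddCommGroup M] [Module C M] [AddCommGroup N] [Module C N]
    (q : PrimeSpectrum C) (x : Spec (CommRingCat.of C)) (hx : x = q)
    (h : Nonempty ((tilde (R := CommRingCat.of C) (ModuleCat.of C M)).presheaf.stalk x
      ≃ₗ[(Spec (CommRingCat.of C)).presheaf.stalk x]
      (tilde (R := CommRingCat.of C) (ModuleCat.of C N)).presheaf.stalk x)) :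
    Nonempty (LocalizedModule q.asIdeal.primeCompl M ≃ₗ[Localization.AtPrime q.asIdeal]
      LocalizedModule q.asIdeal.primeCompl N) := by
  obtain ⟨e⟩ := h
  obtain ⟨σ, e1, hσ, he1⟩ := exists_stalk_equiv M q x hx
  obtain ⟨τ, e2, hτ, he2⟩ := exists_stalk_equiv N q x hx
  have hστ : ∀ r, σ r = τ r := by
    have h1 : (σ : Localization.AtPrime q.asIdeal →+* (Spec (CommRingCat.of C)).presheaf.stalk x) =
        (τ : Localization.AtPrime q.asIdeal →+* (Spec (CommRingCat.of C)).presheaf.stalk x) := by
      apply IsLocalization.ringHom_ext q.asIdeal.primeCompl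
      ext c
      exact (hσ c).trans (hτ c).symm
    exact fun r => RingHom.congr_fun h1 r
  refine ⟨{ (e1.trans (e.toAddEquiv.trans e2.symm)) with map_smul' := fun r s => ?_ }⟩
  change e2.symm (e (e1 (r • s))) = r • e2.symm (e (e1 s))
  apply e2.injective
  rw [he2, e2.apply_symm_apply, e2.apply_symm_apply, he1, map_smul, hστ]

end Tilde

section Restrict

variable {U Y : Scheme.{u}} (j : U ⟶ Y) [IsOpenImmersion j] {F G : Y.Modules} (x : U)

theorem nonempty_stalk_equiv_of_restrict
    (h : Nonempty ((F.restrict j).presheaf.stalk x ≃ₗ[U.presheaf.stalk x] (G.restrict j).presheaf.stalk x)) :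
    Nonempty (F.presheaf.stalk (j x) ≃ₗ[Y.presheaf.stalk (j x)] G.presheaf.stalk (j x)) := by
  obtain ⟨e⟩ := h
  let a := Ega3B.FlatRestrict.stalkEquiv j F x
  let b := Ega3B.FlatRestrict.stalkEquiv j G x
  let σ := (asIso (j.stalkMap x)).commRingCatIsoToRingEquiv
  have ha : ∀ r m, a (σ r • m) = r • a m := fun r m => Ega3B.FlatRestrict.stalkEquiv_smul j F x r m
  have hb : ∀ r m, b (σ r • m) = r • b m := fun r m => Ega3B.FlatRestrict.stalkEquiv_smul j G x r m
  refine ⟨{ (a.symm.trans (e.toAddEquiv.trans b)) with map_smul' := fun r s => ?_ }⟩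
  change b (e (a.symm (r • s))) = r • b (e (a.symm s))
  obtain ⟨s, rfl⟩ := a.surjective s
  rw [← ha, a.symm_apply_apply, a.symm_apply_apply, map_smul, hb]

theorem nonempty_stalk_equiv_restrict
    (h : Nonempty (F.presheaf.stalk (j x) ≃ₗ[Y.presheaf.stalk (j x)] G.presheaf.stalk (j x))) :
    Nonempty ((F.restrict j).presheaf.stalk x ≃ₗ[U.presheaf.stalk x] (G.restrict j).presheaf.stalk x) := by
  obtain ⟨e⟩ := h
  let a := Ega3B.FlatRestrict.stalkEquiv j F x
  let b := Ega3B.FlatRestrict.stalkEquiv j G x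
  let σ := (asIso (j.stalkMap x)).commRingCatIsoToRingEquiv
  have ha : ∀ r m, a (σ r • m) = r • a m := fun r m => Ega3B.FlatRestrict.stalkEquiv_smul j F x r m
  have hb : ∀ r m, b (σ r • m) = r • b m := fun r m => Ega3B.FlatRestrict.stalkEquiv_smul j G x r m
  refine ⟨{ (a.trans (e.toAddEquiv.trans b.symm)) with map_smul' := fun r s => ?_ }⟩
  change b.symm (e (a (r • s))) = r • b.symm (e (a s))
  apply b.injective
  obtain ⟨r, rfl⟩ := σ.surjective r
  rw [hb, b.apply_symm_apply, b.apply_symm_apply, ha, map_smul]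

end Restrict

section Chart

variable {C : Type u} [CommRing C] {Y : Scheme.{u}} {j : Spec (CommRingCat.of C) ⟶ Y} [IsOpenImmersion j]
  {F G : Y.Modules} {M N : Type u} [AddCommGroup M] [Module C M] [AddCommGroup N] [Module C N]
  (eF : F.restrict j ≅ tilde (R := CommRingCat.of C) (ModuleCat.of C M))
  (eG : G.restrict j ≅ tilde (R := CommRingCat.of C) (ModuleCat.of C N))
  (q : PrimeSpectrum C) (x : Spec (CommRingCat.of C)) (hx : x = q)

include eF eG hx in
/-- Equivalences of stalks in a chart. -/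
theorem nonempty_stalk_equiv_iff :
    Nonempty (F.presheaf.stalk (j x) ≃ₗ[Y.presheaf.stalk (j x)] G.presheaf.stalk (j x)) ↔
    Nonempty (LocalizedModule q.asIdeal.primeCompl M ≃ₗ[Localization.AtPrime q.asIdeal]
      LocalizedModule q.asIdeal.primeCompl N) := by
  constructor
  · intro h
    obtain ⟨e⟩ := nonempty_stalk_equiv_restrict j x h
    exact nonempty_localized_equiv_tilde M N q x hx
      ⟨(Fdesc.Skyscraper.stalkIso eF x).symm.trans (e.trans (Fdesc.Skyscraper.stalkIso eG x))⟩
  · intro h
    obtain ⟨e⟩ := nonempty_stalk_equiv_tilde M N q x hx h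
    exact nonempty_stalk_equiv_of_restrict j x
      ⟨(Fdesc.Skyscraper.stalkIso eF x).trans (e.trans (Fdesc.Skyscraper.stalkIso eG x).symm)⟩

end Chart

end K966.StalkChart
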