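import Groth.Agent.QGor.K966.RelS2
import Groth.Agent.QGor.K966.ReflFree
import Groth.Agent.QGor.K966.OpenS2
import Groth.Agent.QGor.K966.SkBC
import Groth.Agent.QGor.K966.ExactAt
import Groth.Agent.QGor.K966.StalkChart
import Groth.Agent.QGor.K970.BCHyp
import Groth.Agent.QGor.K970.InvAt

/-!
# The criterion for relative `(S₂)` in a chart
-/

set_option autoImplicit false
universe u

open TensorProduct CategoryTheory AlgebraicGeometry K966.DualPres K966.SerreBasic K966.RegMap K966.OffMap

namespace K966.Crit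

open Groth.Agent K970.RelSk1 K970.RelSk2 K970.TildeDual K970.Chart

section Pres

variable {B : Type u} [CommRing B] [IsNoetherianRing B]

/-- The presentation of a dual: `0 → F^* → Bⁿ → Bᵐ⁺¹` with cokernel projective wherever `F` is. -/
theorem exists_presentation_dual (F : Type u) [AddCommGroup F] [Module B F] [Module.Finite B F] :
    ∃ (n m : ℕ) (g : Module.Dual B F →ₗ[B] (Fin n → B)) (h : (Fin n → B) →ₗ[B] (Fin (m + 1) → B)),
      Function.Injective g ∧ Function.Exact g h ∧
      ∀ (q : Ideal B) [q.IsPrime], Module.Projective (Localization.AtPrime q) (LocalizedModule q.primeCompl F) →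
        Module.Free (Localization.AtPrime q)
          (LocalizedModule q.primeCompl ((Fin (m + 1) → B) ⧸ LinearMap.range h)) := by
  have := Module.finitePresentation_of_finite B F
  obtain ⟨n, m, f, g, hf, hgf⟩ := exists_presentation (A := B) F
  refine ⟨n, m, dualPi f, transp g, dualPi_injective f hf, ?_, ?_⟩
  · intro x
    exact dualPi_exact f g hf hgf x
  · intro q _ hq
    exact free_coker_transp q g f hf hgf hq

end Pres

section Stalk

variable {C : Type u} [CommRing C]

/-- The localization of `M` at a point where `M~` is invertible. -/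
theorem nonempty_localized_equiv (M : Type u) [AddCommGroup M] [Module C M]
    (q : PrimeSpectrum C) (x : Spec (CommRingCat.of C)) (hx : x = q)
    (h : RelCanon.InvertibleAt (tilde (R := CommRingCat.of C) (ModuleCat.of C M)) x) :
    Nonempty (Localization.AtPrime q.asIdeal ≃ₗ[Localization.AtPrime q.asIdeal]
      LocalizedModule q.asIdeal.primeCompl M) := by
  obtain ⟨σ, e, -, he⟩ := exists_stalk_equiv M q x hx
  obtain ⟨g⟩ := K970.InvAt.nonempty_stalk_equiv x h
  refine ⟨{ (σ.toAddEquiv.trans (g.toAddEquiv.trans e.symm)) with map_smul' := fun r s => ?_ }⟩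
  change e.symm (g (σ (r • s))) = r • e.symm (g (σ s))
  apply e.injective
  rw [he, e.apply_symm_apply, e.apply_symm_apply, smul_eq_mul, map_mul, ← smul_eq_mul, map_smul]

end Stalk

section Chart

variable {A C : Type u} [CommRing A] [CommRing C] [Algebra A C] {Y : Scheme.{u}}
  {f : Y ⟶ Spec (CommRingCat.of A)} {j : Spec (CommRingCat.of C) ⟶ Y} [IsOpenImmersion j]
  (hj : j ≫ f = Spec.map (CommRingCat.ofHom (algebraMap A C)))

include hj

theorem flat_chart [Flat f] : Module.Flat A C := by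
  have h : Flat (Spec.map (CommRingCat.ofHom (algebraMap A C))) := hj ▸ inferInstance
  rw [Flat.SpecMap_iff] at h
  exact RingHom.flat_algebraMap_iff.mp h

/-- The condition `(S_k)` of the fibres in a chart. -/
theorem hasSk_fibLocRing (k : ℕ)
    (h : ∀ y : Y, RelCanon.SkAt k (Coh.structureModule (f.fiber (f y))) (f.asFiber y)) (q : PrimeSpectrum C) :
    LocCoh.HasSk k (EGA4.FibLocRing A C q.asIdeal) (EGA4.FibLocRing A C q.asIdeal) := by
  have h1 := (K970.BCHyp.skAt_structureModule_fibre_iff f k (j (q : Spec (CommRingCat.of C)))).mp (h _)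
  rw [skFib_chart_iff hj (Coh.structureModule Y) C (Scheme.Modules.restrictUnitIso j ≪≫ tildeSelf.symm) k q q rfl] at h1
  have hs : Function.Surjective (algebraMap (Localization.AtPrime q.asIdeal) (EGA4.FibLocRing A C q.asIdeal)) :=
    Ideal.Quotient.mk_surjective
  exact Groth.Agent.Ega4B.SkLift.hasSk_surjective_of_hasSk _ hs _ k
    (Groth.Agent.Ega4B.DepthBasic.hasSk_of_equiv k (K966.FibSk.fibLocModSelf A C q.asIdeal)
    (Groth.Agent.Ega4B.SkLift.hasSk_of_surjective _ hs _ k h1))

omit [IsOpenImmersion j] in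
omit hj in
/-- The ideal of a closed subset in a chart. -/
theorem exists_ideal (Z : Set Y) (hZ : IsClosed Z) :
    ∃ J : Ideal C, ∀ (q : PrimeSpectrum C) (x : Spec (CommRingCat.of C)), x = q → (J ≤ q.asIdeal ↔ j x ∈ Z) := by
  have h : IsClosed (X := PrimeSpectrum C) (j ⁻¹' Z) := hZ.preimage j.continuous
  refine ⟨PrimeSpectrum.vanishingIdeal (j ⁻¹' Z), ?_⟩
  intro q x hx
  have h1 := PrimeSpectrum.zeroLocus_vanishingIdeal_eq_closure (R := C) (j ⁻¹' Z)
  rw [h.closure_eq] at h1
  have h2 := Set.ext_iff.mp h1 q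
  rw [PrimeSpectrum.mem_zeroLocus] at h2
  subst hx
  exact h2

/-- The chart form of the criterion for relative `(S₂)` of `(p^* T^∨∨)^∨∨`. -/
theorem exists_crit [IsNoetherianRing A] [IsNoetherianRing C] [Algebra.FiniteType A C] [Flat f]
    (hSk : ∀ y : Y, RelCanon.SkAt 2 (Coh.structureModule (f.fiber (f y))) (f.asFiber y))
    (Z : Set Y) (hZ : IsClosed Z)
    (hdim : ∀ y ∈ Z, (2 : WithBot ℕ∞) ≤ ringKrullDim ((f.fiber (f y)).presheaf.stalk (f.asFiber y)))
    (T : Y.Modules) (hT : Coh.IsCoh T) (hTZ : ∀ y : Y, y ∉ Z → RelCanon.InvertibleAt T y) :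
    ∃ (G : Type u) (_ : AddCommGroup G) (_ : Module C G) (_ : Module.Finite C G) (_ : Module A G)
      (_ : IsScalarTower A C G),
      (∀ (q : PrimeSpectrum C) (x : Spec (CommRingCat.of C)), x = q →
        (RelCanon.RelSkAt f 2 (RefHull.ddual T) (j x) ↔ FlatCA.FlatAt A q.asIdeal G)) ∧
      (∀ (B : Type u) [CommRing B] [IsNoetherianRing B] [Algebra A B] (C' : Type u) [CommRing C']
        [IsNoetherianRing C'] [Algebra B C'] [Algebra C C'] [Algebra A C'] [IsScalarTower A B C']
        [IsScalarTower A C C'] [Algebra.IsPushout A C B C']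
        (Y' : Scheme.{u}) (f' : Y' ⟶ Spec (CommRingCat.of B)) (p : Y' ⟶ Y)
        (j' : Spec (CommRingCat.of C') ⟶ Y') [IsOpenImmersion j'],
        j' ≫ f' = Spec.map (CommRingCat.ofHom (algebraMap B C')) →
        j' ≫ p = Spec.map (CommRingCat.ofHom (algebraMap C C')) ≫ j →
        ∀ (F' : Y'.Modules),
        Nonempty (RefHull.ddual ((Scheme.Modules.pullback p).obj (RefHull.ddual T)) ≅ F') →
        ∀ (q' : PrimeSpectrum C') (x' : Spec (CommRingCat.of C')), x' = q' →
        (RelCanon.RelSkAt f' 2 F' (j' x') ↔ FlatCA.FlatAt B q'.asIdeal (C' ⊗[C] G))) ∧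
      (∀ (B : Type u) [CommRing B] [IsNoetherianRing B] [Algebra A B] (C' : Type u) [CommRing C']
        [IsNoetherianRing C'] [Algebra B C'] [Algebra C C'] [Algebra A C'] [IsScalarTower A B C']
        [IsScalarTower A C C'] [Algebra.IsPushout A C B C']
        (Y' : Scheme.{u}) (p : Y' ⟶ Y)
        (j' : Spec (CommRingCat.of C') ⟶ Y') [IsOpenImmersion j'],
        j' ≫ p = Spec.map (CommRingCat.ofHom (algebraMap C C')) ≫ j →
        ∀ (q' : PrimeSpectrum C') (x' : Spec (CommRingCat.of C')), x' = q' →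
        FlatCA.FlatAt A (q'.asIdeal.comap (algebraMap C C')) G →
        Nonempty ((RefHull.ddual ((Scheme.Modules.pullback p).obj (RefHull.ddual T))).presheaf.stalk (j' x')
          ≃ₗ[Y'.presheaf.stalk (j' x')]
          ((Scheme.Modules.pullback p).obj (RefHull.ddual T)).presheaf.stalk (j' x'))) := by
  have hfl : Module.Flat A C := flat_chart hj
  -- the chart
  obtain ⟨N, _, _, hN, ⟨eN⟩⟩ := exists_restrict_iso j T hT
  obtain ⟨J, hJ⟩ := exists_ideal (j := j) Z hZ
  have hS2 : ∀ Q : PrimeSpectrum C,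
      LocCoh.HasSk 2 (EGA4.FibLocRing A C Q.asIdeal) (EGA4.FibLocRing A C Q.asIdeal) :=
    hasSk_fibLocRing hj 2 hSk
  have hcodim : ∀ Q : PrimeSpectrum C, J ≤ Q.asIdeal →
      (2 : WithBot ℕ∞) ≤ ringKrullDim (EGA4.FibLocRing A C Q.asIdeal) := fun Q hQ => by
    rw [K970.BCHyp.ringKrullDim_fibre_chart hj Q Q rfl]
    exact hdim _ ((hJ Q Q rfl).mp hQ)
  have hdep : ∀ Q : PrimeSpectrum C, J ≤ Q.asIdeal →
      2 ≤ LocCoh.idealDepth (Q.asIdeal.map (algebraMap C (EGA4.FibLocRing A C Q.asIdeal)))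
        (EGA4.FibLocRing A C Q.asIdeal) :=
    fun Q hJQ => K966.OpenS2.two_le_of_hasSk_of_dim A C Q.asIdeal (hS2 Q) (hcodim Q hJQ)
  have hfree : ∀ Q : PrimeSpectrum C, ¬ J ≤ Q.asIdeal →
      Module.Free (Localization.AtPrime Q.asIdeal) (LocalizedModule Q.asIdeal.primeCompl N) := fun Q hQ => by
    have h1 := hTZ (j (Q : Spec (CommRingCat.of C))) (fun h => hQ ((hJ Q Q rfl).mpr h))
    rw [← K970.InvAt.invertibleAt_restrict_iff, K970.InvAt.invertibleAt_iff_of_iso eN] at h1
    obtain ⟨e⟩ := nonempty_localized_equiv N Q Q rfl h1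
    exact Module.Free.of_equiv e
  -- the presentation
  have hfin1 : Module.Finite C (Module.Dual C N) := finite_dual C N
  obtain ⟨a, b, u, g, hu, hug, hgfree⟩ := exists_presentation_dual (B := C) (Module.Dual C N)
  have hgv : Function.Exact g (LinearMap.range g).mkQ := LinearMap.exact_map_mkQ_range g
  have hv : Function.Surjective (LinearMap.range g).mkQ := Submodule.mkQ_surjective _
  have hg : K966.OffMap.RegOff J g := K966.OffMap.regOff_of_free g (LinearMap.range g).mkQ hv hgv
    (fun q hq => hgfree q.asIdeal (K966.ReflFree.projective_dual_localized q.asIdeal N (hfree q hq)))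
  have hfin2 : Module.Finite C (Module.Dual C (Module.Dual C N)) := finite_dual C _
  obtain ⟨eF⟩ := nonempty_restrict_ddual_iso T N eN
  refine ⟨(Fin (b + 1) → C) ⧸ LinearMap.range g, inferInstance, inferInstance, inferInstance, inferInstance,
    inferInstance, ?_, ?_, ?_⟩
  · rintro q x hx
    rw [relSkAt_chart_iff f j hj (RefHull.ddual T) (Module.Dual C (Module.Dual C N)) eF 2 q x hx]
    have h5 := K966.RelS2.iff_flatAt A C J q.asIdeal (fun Q hJQ _ => hdep Q hJQ) (Module.Dual C (Module.Dual C N))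
      (Fin a → C) (Fin (b + 1) → C) _ u g (LinearMap.range g).mkQ hu hug hgv hv hg
    rw [← h5]
    refine and_congr_right fun _ => ⟨fun h => ?_, fun h => ?_⟩
    · exact K966.RelS2.two_le_of_hasSk A C J q.asIdeal (fun Q hJQ _ => hdep Q hJQ) _ (Fin a → C)
        (Fin (b + 1) → C) u g hu hug hg (fun Q hJQ _ => hcodim Q hJQ) h
    · exact K966.RelS2.hasSk_of_two_le A C J q.asIdeal _ (Fin a → C) (Fin (b + 1) → C) u g hu hug hg (hS2 q) h
  · intro B _ _ _ C' _ _ _ _ _ _ _ _ Y' f' p j' _ hj' hp F' hF' q' x' hx'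
    obtain ⟨e⟩ := hF'
    obtain ⟨e1⟩ := nonempty_restrict_pullback_iso j' hp (RefHull.ddual T) (Module.Dual C (Module.Dual C N)) eF
    obtain ⟨e2⟩ := nonempty_restrict_ddual_iso _ _ e1
    rw [relSkAt_chart_iff f' j' hj' F' _ ((Scheme.Modules.restrictFunctor j').mapIso e.symm ≪≫ e2) 2 q' x' hx']
    constructor
    · intro h
      exact K966.RelS2.flatAt_of_relS2 A C J (q'.asIdeal.comap (algebraMap C C')) (fun Q hJQ _ => hdep Q hJQ) _
        (Fin a → C) (Fin (b + 1) → C) _ u g
        (LinearMap.range g).mkQ hu hug hgv hv hg B C' q'.asIdeal le_rfl (fun Q hJQ _ => hcodim Q hJQ) h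
    · intro h
      exact K966.RelS2.relS2_of_flatAt A C J (q'.asIdeal.comap (algebraMap C C')) (fun Q hJQ _ => hdep Q hJQ) _
        (Fin a → C) (Fin (b + 1) → C) _ u g
        (LinearMap.range g).mkQ hu hug hgv hv hg B C' q'.asIdeal le_rfl
        (K966.SkBC.hasSk_fibLocRing_baseChange A C B C' 2 q' (fun q _ => hS2 q)) h
  · intro B _ _ _ C' _ _ _ _ _ _ _ _ Y' p j' _ hp q' x' hx' h
    obtain ⟨e1⟩ := nonempty_restrict_pullback_iso j' hp (RefHull.ddual T) (Module.Dual C (Module.Dual C N)) eF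
    obtain ⟨e2⟩ := nonempty_restrict_ddual_iso _ _ e1
    rw [K966.StalkChart.nonempty_stalk_equiv_iff e2 e1 q' x' hx']
    exact K966.ExactAt.exists_bidual_baseChange A C J _
      (Fin a → C) (Fin (b + 1) → C) _ u g
      (LinearMap.range g).mkQ hu hug hgv hv B C' q'.asIdeal (fun Q hJQ _ => hdep Q hJQ) hg h

end Chart

end K966.Crit
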