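import Groth.Agent.QGor.K970.RelSk2
import Groth.Agent.QGor.K970.InvAt
import Groth.Agent.S0394

/-!
# Invertibility can be tested on the fibre, for flat modules
-/

set_option autoImplicit false
universe u

open TensorProduct CategoryTheory AlgebraicGeometry IsLocalRing

namespace K966.FibInv

open Groth.Agent K970.RelSk1 K970.RelSk2 Groth.Agent.Flat2D.FiberStalk

section Algebra

variable {R S M : Type u} [CommRing R] [CommRing S] [IsLocalRing R] [IsLocalRing S] [IsNoetherianRing R]
    [IsNoetherianRing S] [Algebra R S] [IsLocalHom (algebraMap R S)]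
    [AddCommGroup M] [Module R M] [Module S M] [IsScalarTower R S M] [Module.Finite S M] [Module.Flat R M]

/-- A finite module, flat over the base, whose fibre is free of rank one, is free of rank one. -/
theorem nonempty_equiv_of_fibre (I : Ideal S) (hI : (maximalIdeal R).map (algebraMap R S) = I)
    (e : (S ⧸ I) ≃ₗ[S] (M ⧸ (I • (⊤ : Submodule S M)))) :
    Nonempty (S ≃ₗ[S] M) := by
  subst hI
  set I := (maximalIdeal R).map (algebraMap R S) with hI
  have hI1 : I ≤ maximalIdeal S := by
    rw [hI]
    exact ((local_hom_TFAE (algebraMap R S)).out 0 2 :).mp inferInstance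
  have hI2 : Nontrivial (S ⧸ I) := Ideal.Quotient.nontrivial_iff.mpr (fun h => by
    rw [h, top_le_iff] at hI1
    exact (IsLocalRing.maximalIdeal.isMaximal S).ne_top hI1)
  have hM : Nontrivial M := by
    have h1 : Nontrivial (M ⧸ (I • (⊤ : Submodule S M))) := e.symm.toEquiv.nontrivial
    exact (Submodule.mkQ_surjective (I • (⊤ : Submodule S M))).nontrivial
  let e2 : (S ⧸ I) ≃ₗ[S] (S ⧸ I) ⊗[S] M := e.trans (TensorProduct.quotTensorEquivQuotSMul M I).symm
  let e3 : (S ⧸ I) ≃ₗ[S ⧸ I] (S ⧸ I) ⊗[S] M := e2.extendScalarsOfSurjective Ideal.Quotient.mk_surjective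
  have h1 : Module.Free (S ⧸ I) ((S ⧸ I) ⊗[S] M) := Module.Free.of_equiv e3
  obtain ⟨h2, -⟩ := Groth.Agent.S0394.result (R := R) (S := S) (M := M) h1
  have h3 : Module.finrank S M = 1 := by
    rw [← Module.finrank_baseChange (R := S ⧸ I) (S := S) (M' := M), ← e3.finrank_eq, Module.finrank_self]
  exact ⟨(LinearEquiv.ofFinrankEq M S (by rw [h3, Module.finrank_self])).symm⟩

end Algebra

section Scheme

variable {X Y : Scheme.{u}} [IsLocallyNoetherian X] [IsLocallyNoetherian Y] (f : X ⟶ Y) (F : X.Modules)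
  (hF : Coh.IsCoh F)

include hF in
theorem invertibleAt_of_fiber (y : Y) (z : f.fiber y)
    (hflat : FlatMod.IsFlatOverAt f F (f.fiberι y z))
    (h : RelCanon.InvertibleAt ((Scheme.Modules.pullback (f.fiberι y)).obj F) z) :
    RelCanon.InvertibleAt F (f.fiberι y z) := by
  obtain ⟨σ, e, he⟩ := exists_stalk_equiv_of_surjective (f.fiberι y) F z (stalkMap_fiberι_surjective f y z) _
    (ker_stalkMap_fiberι f y z)
  obtain ⟨g⟩ := K970.InvAt.nonempty_stalk_equiv z h
  let x := f.fiberι y z
  let _ : Algebra (Y.presheaf.stalk (f x)) (X.presheaf.stalk x) := (f.stalkMap x).hom.toAlgebra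
  let _ := FlatMod.moduleStalkOver f F x
  have _ : IsScalarTower (Y.presheaf.stalk (f x)) (X.presheaf.stalk x) (F.presheaf.stalk x) :=
    IsScalarTower.of_algebraMap_smul fun r m => rfl
  have _ : Module.Finite (X.presheaf.stalk x) (F.presheaf.stalk x) := Divis.StalkMod.finite_stalk hF x
  have _ : IsLocalHom (algebraMap (Y.presheaf.stalk (f x)) (X.presheaf.stalk x)) :=
    inferInstanceAs (IsLocalHom (f.stalkMap x).hom)
  have _ : Module.Flat (Y.presheaf.stalk (f x)) (F.presheaf.stalk x) := hflat
  have e0 : (X.presheaf.stalk x ⧸ fibreIdeal f x) ≃ₗ[X.presheaf.stalk x ⧸ fibreIdeal f x]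
      (F.presheaf.stalk x ⧸ (fibreIdeal f x • (⊤ : Submodule (X.presheaf.stalk x) (F.presheaf.stalk x)))) :=
    { (σ.toAddEquiv.trans (g.toAddEquiv.trans e.symm)) with
      map_smul' := fun r s => by
        change e.symm (g (σ (r • s))) = r • e.symm (g (σ s))
        apply e.injective
        rw [he, e.apply_symm_apply, e.apply_symm_apply, smul_eq_mul, map_mul, ← smul_eq_mul, map_smul] }
  have h1 := nonempty_equiv_of_fibre (R := Y.presheaf.stalk (f x)) (S := X.presheaf.stalk x)
    (M := F.presheaf.stalk x) (fibreIdeal f x) rfl (e0.restrictScalars (X.presheaf.stalk x))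
  rw [K970.InvAt.invertibleAt_iff_stalk_equiv hF]
  exact h1

include hF in
/-- A coherent module flat over the base at `x` and invertible at `x` on the fibre is invertible at `x`. -/
theorem invertibleAt_of_asFiber (x : X) (hflat : FlatMod.IsFlatOverAt f F x)
    (h : RelCanon.InvertibleAt ((Scheme.Modules.pullback (f.fiberι (f x))).obj F) (f.asFiber x)) :
    RelCanon.InvertibleAt F x := by
  have key : ∀ x' : X, x' = x → FlatMod.IsFlatOverAt f F x' := by
    rintro _ rfl
    exact hflat
  have h1 := invertibleAt_of_fiber f F hF (f x) (f.asFiber x) (key _ (f.fiberι_asFiber x)) h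
  rwa [f.fiberι_asFiber x] at h1

end Scheme

end K966.FibInv
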