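import Groth.Agent.QGor.K966.CritT
import Groth.Agent.QGor.K967.OmegaBasic
import Groth.Agent.QGor.K970.RefPow
import Groth.Agent.QGor.K966.FibInv
import Groth.Agent.PerfB.StructFlat

/-!
# The criteria for the reflexive powers of the relative canonical sheaf
-/

set_option autoImplicit false
universe u

open TensorProduct CategoryTheory CategoryTheory.Limits AlgebraicGeometry IsLocalRing

namespace K966.CritOmega

open Groth.Agent K970.RelSk1

/-- Reflexive powers are double duals of tensor powers. -/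
theorem exists_eq_ddual {X : Scheme.{u}} [IsLocallyNoetherian X] (F : X.Modules) (m : ℤ) :
    ∃ T : X.Modules, RelCanon.refPowZ F m = RefHull.ddual T ∧ (Coh.IsCoh F → Coh.IsCoh T) ∧
      ∀ x : X, RelCanon.InvertibleAt F x → RelCanon.InvertibleAt T x := by
  cases m with
  | ofNat m =>
    exact ⟨_, rfl, fun h => K970.RefPow.isCoh_tensorPow h m, fun x h => K970.InvAt.invertibleAt_tensorPow x h m⟩
  | negSucc n =>
    exact ⟨_, rfl, fun h => K970.RefPow.isCoh_tensorPow (K476.HomSh4.isCoh_dual h) (n + 1),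
      fun x h => K970.InvAt.invertibleAt_tensorPow x (K970.InvAt.invertibleAt_dual x h) (n + 1)⟩

section Inv

/-- An invertible module on an `S_k`-morphism satisfies relative `(S_k)`. -/
theorem relSkAt_of_invertibleAt {X Y : Scheme.{u}} (f : X ⟶ Y) (k : ℕ) (hS : RelCanon.IsSkMor f k)
    (F : X.Modules) (x : X) (h : RelCanon.InvertibleAt F x) : RelCanon.RelSkAt f k F x := by
  have : Flat f := hS.1
  obtain ⟨e1⟩ := K970.InvAt.nonempty_stalk_equiv x (K970.InvAt.invertibleAt_structure (X := X) x)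
  obtain ⟨e2⟩ := K970.InvAt.nonempty_stalk_equiv x h
  refine relSkAt_of_equiv f k x (e1.symm.trans e2) ?_
  rw [relSkAt_iff]
  exact ⟨PerfB.StructFlat.isFlatOver_structure f x,
    (K970.BCHyp.skAt_structureModule_fibre_iff f k x).mp (hS.2.2 x)⟩

section Fibre

variable {A : Type u} [CommRing A] [IsNoetherianRing A] {Y : Scheme.{u}} {f : Y ⟶ Spec (CommRingCat.of A)}
  {T : Y.Modules} {Z : Set Y} (hyp : K966.CritT.Hyp f Z T)

variable (f) in
/-- The fibre as a scheme over the residue field of the ideal. -/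
theorem isPullback_fiber (t : Spec (CommRingCat.of A)) :
    IsPullback (f.fiberι t) (f.fiberToSpecResidueField t ≫ Spec.map (Scheme.Spec.residueFieldIso (CommRingCat.of A) t).inv) f
      (Spec.map (CommRingCat.ofHom (algebraMap A t.asIdeal.ResidueField))) := by
  refine IsPullback.of_iso (K970.BCHyp.isPullback_fibre f t) (Iso.refl _) (Iso.refl _)
    (Scheme.Spec.mapIso (Scheme.Spec.residueFieldIso (CommRingCat.of A) t).symm.op) (Iso.refl _) ?_ ?_ ?_ ?_
  · simp
  · simp only [Iso.refl_hom, Category.id_comp]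
    rfl
  · simp
  · simp only [Iso.refl_hom, Category.comp_id]
    rw [K970.BCHyp.SpecMap_toRes]
    exact (Scheme.Spec.map_residueFieldIso_inv_eq_fromSpecResidueField (CommRingCat.of A) t).symm

include hyp in
/-- Invertibility of `T^∨∨` can be tested on the fibre. -/
theorem invertibleAt_of_fibre [IsLocallyNoetherian Y] (y : Y) (h : RelCanon.RelSkAt f 2 (RefHull.ddual T) y)
    (hi : RelCanon.InvertibleAt
      (RefHull.ddual ((Scheme.Modules.pullback (f.fiberι (f y))).obj (RefHull.ddual T))) (f.asFiber y)) :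
    RelCanon.InvertibleAt (RefHull.ddual T) y := by
  have hA : IsNoetherianRing (CommRingCat.of A) := inferInstanceAs (IsNoetherianRing A)
  have hlft := hyp.lft
  have hcoh : Coh.IsCoh (RefHull.ddual T) := K476.HomSh4.isCoh_ddual hyp.hT
  refine K966.FibInv.invertibleAt_of_asFiber f (RefHull.ddual T) hcoh y h.1 ?_
  have hlf : LocallyOfFiniteType (f.fiberToSpecResidueField (f y)) :=
    inferInstanceAs (LocallyOfFiniteType (pullback.snd f ((Spec (CommRingCat.of A)).fromSpecResidueField (f y))))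
  have hlN : IsLocallyNoetherian (f.fiber (f y)) :=
    LocallyOfFiniteType.isLocallyNoetherian (f.fiberToSpecResidueField (f y))
  obtain ⟨e⟩ := hyp.nonempty_stalk_equiv (isPullback_fiber f (f y)) (f.asFiber y)
    (by rw [f.fiberι_asFiber y]; exact h)
  have hc2 : Coh.IsCoh ((Scheme.Modules.pullback (f.fiberι (f y))).obj (RefHull.ddual T)) :=
    FormalA.PullbackQC.isCoh_pullback _ _ hcoh
  exact K970.InvAt.invertibleAt_of_stalk_equiv (K476.HomSh4.isCoh_ddual hc2) hc2 _ e hi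

end Fibre

end Inv

section Omega

variable (A : Type u) [CommRing A] [IsNoetherianRing A] (Y : Scheme.{u}) [Y.Over (Spec (CommRingCat.of A))]
    [IsProper (Y ↘ Spec (CommRingCat.of A))] (d : ℕ)
    (hS : RelCanon.IsSkMor (Y ↘ Spec (CommRingCat.of A)) 2) (hd : Cyc.HasRelDim (Y ↘ Spec (CommRingCat.of A)) d)
    (ω : Y.Modules) (hω : RelCanon.IsDualizingSheaf A Y d ω)
    (hG : ∀ y : Y, y ∉ RelCanon.gorLocus (Y ↘ Spec (CommRingCat.of A)) →
      (2 : WithBot ℕ∞) ≤ ringKrullDim (((Y ↘ Spec (CommRingCat.of A)).fiber ((Y ↘ Spec (CommRingCat.of A)) y)).presheaf.stalk ((Y ↘ Spec (CommRingCat.of A)).asFiber y)))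

/-- The comparison of the reflexive powers of the relative canonical sheaf after base change. -/
def Cmp (m : ℤ) : Prop :=
  ∀ (B : Type u) [CommRing B] [IsNoetherianRing B] (φ : A →+* B)
    (Y' : Scheme.{u}) [Y'.Over (Spec (CommRingCat.of B))] (p : Y' ⟶ Y)
    (_ : IsPullback p (Y' ↘ Spec (CommRingCat.of B)) (Y ↘ Spec (CommRingCat.of A)) (Spec.map (CommRingCat.ofHom φ)))
    (ω' : Y'.Modules) (_ : RelCanon.IsDualizingSheaf B Y' d ω'),
    Nonempty (RefHull.ddual ((Scheme.Modules.pullback p).obj (RelCanon.refPowZ ω m)) ≅ RelCanon.refPowZ ω' m)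

include hS hd hω hG in
theorem exists_hyp (m : ℤ) : ∃ T : Y.Modules, RelCanon.refPowZ ω m = RefHull.ddual T ∧
    K966.CritT.Hyp (Y ↘ Spec (CommRingCat.of A)) (RelCanon.gorLocus (Y ↘ Spec (CommRingCat.of A)))ᶜ T := by
  have hA : IsNoetherianRing (CommRingCat.of A) := inferInstanceAs (IsNoetherianRing A)
  have hlN : IsLocallyNoetherian Y := LocallyOfFiniteType.isLocallyNoetherian (Y ↘ Spec (CommRingCat.of A))
  have hfl : Flat (Y ↘ Spec (CommRingCat.of A)) := hS.1
  have hfp : LocallyOfFinitePresentation (Y ↘ Spec (CommRingCat.of A)) :=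
    LoccohB.RightAdj2.locallyOfFinitePresentation_of_isLocallyNoetherian _
  obtain ⟨T, h1, h2, h3⟩ := exists_eq_ddual ω m
  exact ⟨T, h1, ⟨hS.1, hS.2.1, hS.2.2, (S3617.result Y _ (Y ↘ Spec (CommRingCat.of A))).isClosed_compl, hG,
    h2 (K967.OmegaBasic.isCoh A Y d ω hω (K967.ReflUnit.dim_fiber_le hd)),
    fun y hy => h3 y (K967.OmegaBasic.invertibleAt A Y d hd ω hω y (not_not.mp hy))⟩⟩

include hd in
/-- The dualizing sheaf of a base change. -/
theorem exists_isDualizingSheaf_bc (B : Type u) [CommRing B] [IsNoetherianRing B] (φ : A →+* B)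
    (Y' : Scheme.{u}) [Y'.Over (Spec (CommRingCat.of B))] (p : Y' ⟶ Y)
    (hp : IsPullback p (Y' ↘ Spec (CommRingCat.of B)) (Y ↘ Spec (CommRingCat.of A)) (Spec.map (CommRingCat.ofHom φ))) :
    ∃ ω' : Y'.Modules, RelCanon.IsDualizingSheaf B Y' d ω' := by
  have : IsProper (Y' ↘ Spec (CommRingCat.of B)) := MorphismProperty.of_isPullback (P := @IsProper) hp inferInstance
  exact K967.OmegaBasic.exists_isDualizingSheaf B Y' d
    (K967.ReflUnit.dim_fiber_le (K970.BCHyp.hasRelDim_of_isPullback hp hd))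

include hd in
/-- The dualizing sheaf of a base change, and the comparison. -/
theorem exists_cmp (m : ℤ) (hc : Cmp A Y d ω m) (B : Type u) [CommRing B] [IsNoetherianRing B] (φ : A →+* B)
    (Y' : Scheme.{u}) (f' : Y' ⟶ Spec (CommRingCat.of B)) (p : Y' ⟶ Y)
    (hp : IsPullback p f' (Y ↘ Spec (CommRingCat.of A)) (Spec.map (CommRingCat.ofHom φ))) :
    ∃ ω' : Y'.Modules, @RelCanon.IsDualizingSheaf B _ Y' ⟨f'⟩ d ω' ∧
      Nonempty (RefHull.ddual ((Scheme.Modules.pullback p).obj (RelCanon.refPowZ ω m)) ≅ RelCanon.refPowZ ω' m) := by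
  obtain ⟨ω', hω'⟩ := @exists_isDualizingSheaf_bc A _ _ Y _ _ d hd B _ _ φ Y' ⟨f'⟩ p hp
  exact ⟨ω', hω', @hc B _ _ φ Y' ⟨f'⟩ p hp ω' hω'⟩

include hS hd hω hG in
/-- S19841: the infinitesimal criterion. -/
theorem art_iff (m : ℤ) (hc : Cmp A Y d ω m) (y : Y) (t : (Spec (CommRingCat.of A)))
    (ht : (Y ↘ Spec (CommRingCat.of A)) y = t) :
    RelCanon.RelSkAt (Y ↘ Spec (CommRingCat.of A)) 2 (RelCanon.refPowZ ω m) y ↔
    ∀ (A' : Type u) [CommRing A'] [IsArtinianRing A'] [IsLocalRing A']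
      (ψ : Localization.AtPrime t.asIdeal →+* A') (_ : Function.Surjective ψ)
      (Y' : Scheme.{u}) [Y'.Over (Spec (CommRingCat.of A'))] (p : Y' ⟶ Y)
      (_ : IsPullback p (Y' ↘ Spec (CommRingCat.of A')) (Y ↘ Spec (CommRingCat.of A))
        (Spec.map (CommRingCat.ofHom (ψ.comp (algebraMap A (Localization.AtPrime t.asIdeal))))))
      (ω' : Y'.Modules) (_ : RelCanon.IsDualizingSheaf A' Y' d ω') (y' : Y') (_ : p y' = y),
      RelCanon.RelSkAt (Y' ↘ Spec (CommRingCat.of A')) 2 (RelCanon.refPowZ ω' m) y' := by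
  subst ht
  obtain ⟨T, hT, hyp⟩ := exists_hyp A Y d hS hd ω hω hG m
  constructor
  · intro h A' _ _ _ ψ _ Y' _ p hp ω' hω' y' hy'
    let : Algebra A A' := (ψ.comp (algebraMap A (Localization.AtPrime ((Y ↘ Spec (CommRingCat.of A)) y).asIdeal))).toAlgebra
    obtain ⟨e⟩ := hc A' _ Y' p hp ω' hω'
    refine relSkAt_of_iso _ 2 e y' ?_
    rw [hT] at h ⊢
    exact hyp.relSkAt_bc (B := A') hp y' (by rw [hy']; exact h)
  · intro h
    rw [hT]
    refine hyp.relSkAt_of_artinian y fun k hk Y' f' p hP y' hy' => ?_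
    have h1 := K966.SurjTest.isArtinianRing_quot_pow
      (R := Localization.AtPrime ((Y ↘ Spec (CommRingCat.of A)) y).asIdeal) k hk
    have h2 := K966.SurjTest.isLocalRing_quot_pow
      (R := Localization.AtPrime ((Y ↘ Spec (CommRingCat.of A)) y).asIdeal) k hk
    obtain ⟨ω', hω', ⟨e⟩⟩ := exists_cmp A Y d hd ω m hc _ _ Y' f' p hP
    have h3 := @h _ _ _ _ (Ideal.Quotient.mk _) Ideal.Quotient.mk_surjective Y' ⟨f'⟩ p hP ω' hω' y' hy'
    rw [← hT]
    exact relSkAt_of_iso _ 2 e.symm y' h3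

include hS hd hω hG in
/-- S19842: the infinitesimal criterion for invertibility. -/
theorem inv_iff (m : ℤ) (hc : Cmp A Y d ω m) (y : Y) (t : (Spec (CommRingCat.of A)))
    (ht : (Y ↘ Spec (CommRingCat.of A)) y = t) :
    RelCanon.InvertibleAt (RelCanon.refPowZ ω m) y ↔
    ∀ (A' : Type u) [CommRing A'] [IsArtinianRing A'] [IsLocalRing A']
      (ψ : Localization.AtPrime t.asIdeal →+* A') (_ : Function.Surjective ψ)
      (Y' : Scheme.{u}) [Y'.Over (Spec (CommRingCat.of A'))] (p : Y' ⟶ Y)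
      (_ : IsPullback p (Y' ↘ Spec (CommRingCat.of A')) (Y ↘ Spec (CommRingCat.of A))
        (Spec.map (CommRingCat.ofHom (ψ.comp (algebraMap A (Localization.AtPrime t.asIdeal))))))
      (ω' : Y'.Modules) (_ : RelCanon.IsDualizingSheaf A' Y' d ω') (y' : Y') (_ : p y' = y),
      RelCanon.InvertibleAt (RelCanon.refPowZ ω' m) y' := by
  constructor
  · intro h A' _ _ _ ψ _ Y' _ p hp ω' hω' y' hy'
    obtain ⟨e⟩ := hc A' _ Y' p hp ω' hω'
    refine K970.InvAt.invertibleAt_of_iso e y' (K970.InvAt.invertibleAt_ddual y'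
      (K970.InvAt.invertibleAt_pullback p _ y' ?_))
    rw [hy']
    exact h
  · intro h
    have hrel := (art_iff A Y d hS hd ω hω hG m hc y t ht).mpr
      (fun A' _ _ _ ψ hψ Y' _ p hp ω' hω' y' hy' => relSkAt_of_invertibleAt _ 2
        (K970.BCHyp.isSkMor_cat (CommRingCat.ofHom (ψ.comp (algebraMap A (Localization.AtPrime t.asIdeal)))) hp 2 hS)
        _ y' (h A' ψ hψ Y' p hp ω' hω' y' hy'))
    subst ht
    obtain ⟨T, hT, hyp⟩ := exists_hyp A Y d hS hd ω hω hG m
    have hA : IsNoetherianRing (CommRingCat.of A) := inferInstanceAs (IsNoetherianRing A)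
    have hlN : IsLocallyNoetherian Y := LocallyOfFiniteType.isLocallyNoetherian (Y ↘ Spec (CommRingCat.of A))
    rw [hT] at hrel ⊢
    refine invertibleAt_of_fibre hyp y hrel ?_
    rw [← hT]
    have hψ : Function.Surjective (algebraMap (Localization.AtPrime ((Y ↘ Spec (CommRingCat.of A)) y).asIdeal)
      ((Y ↘ Spec (CommRingCat.of A)) y).asIdeal.ResidueField) := Ideal.Quotient.mk_surjective
    have hp := isPullback_fiber (Y ↘ Spec (CommRingCat.of A)) ((Y ↘ Spec (CommRingCat.of A)) y)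
    obtain ⟨ω', hω', ⟨e⟩⟩ := exists_cmp A Y d hd ω m hc _ _ _ _ _ hp
    have h3 := @h ((Y ↘ Spec (CommRingCat.of A)) y).asIdeal.ResidueField _ _ _
      (algebraMap (Localization.AtPrime ((Y ↘ Spec (CommRingCat.of A)) y).asIdeal) _) hψ
      _ ⟨_⟩ _ hp ω' hω' ((Y ↘ Spec (CommRingCat.of A)).asFiber y) ((Y ↘ Spec (CommRingCat.of A)).fiberι_asFiber y)
    exact K970.InvAt.invertibleAt_of_iso e.symm _ h3

include hS hd hω hG in
/-- S19843: the valuative criterion. -/
theorem dvr_iff [_root_.IsReduced A] (hc : ∀ m : ℤ, Cmp A Y d ω m) :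
    RelCanon.IsQGorMorWith (Y ↘ Spec (CommRingCat.of A)) ω ↔
    ∀ (B : Type u) [CommRing B] [IsDomain B] [IsDiscreteValuationRing B] (φ : A →+* B)
      (Y' : Scheme.{u}) [Y'.Over (Spec (CommRingCat.of B))] (p : Y' ⟶ Y)
      (_ : IsPullback p (Y' ↘ Spec (CommRingCat.of B)) (Y ↘ Spec (CommRingCat.of A)) (Spec.map (CommRingCat.ofHom φ)))
      (ω' : Y'.Modules) (_ : RelCanon.IsDualizingSheaf B Y' d ω'),
      RelCanon.IsQGorMorWith (Y' ↘ Spec (CommRingCat.of B)) ω' := by
  constructor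
  · intro h B _ _ _ φ Y' _ p hp ω' hω' m y'
    obtain ⟨T, hT, hyp⟩ := exists_hyp A Y d hS hd ω hω hG m
    let : Algebra A B := φ.toAlgebra
    obtain ⟨e⟩ := hc m B _ Y' p hp ω' hω'
    refine relSkAt_of_iso _ 2 e y' ?_
    have h1 := h m (p y')
    rw [hT] at h1 ⊢
    exact hyp.relSkAt_bc (B := B) hp y' h1
  · intro h m y
    obtain ⟨T, hT, hyp⟩ := exists_hyp A Y d hS hd ω hω hG m
    have hred : _root_.IsReduced (Localization.AtPrime ((Y ↘ Spec (CommRingCat.of A)) y).asIdeal) := inferInstance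
    rw [hT]
    refine hyp.relSkAt_of_dvr y fun V _ _ _ φ hφ Y' f' p hP y' hy' hf' => ?_
    obtain ⟨ω', hω', ⟨e⟩⟩ := exists_cmp A Y d hd ω m (hc m) _ _ Y' f' p hP
    have h3 := @h V _ _ _ _ Y' ⟨f'⟩ p hP ω' hω' m y'
    rw [← hT]
    exact relSkAt_of_iso _ 2 e.symm y' h3

end Omega

end K966.CritOmega
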