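import Groth.Agent.QGor.K966.OpenS2
import Groth.Agent.S0396

/-!
# Base change along surjections of the base
-/

set_option autoImplicit false
set_option linter.unusedSectionVars false
universe u v w

open TensorProduct IsLocalRing

namespace K966.SurjTest

attribute [local instance] Algebra.TensorProduct.rightAlgebra

section Surj

variable {R C A' : Type u} [CommRing R] [CommRing C] [CommRing A'] [Algebra R C] [Algebra R A']
  (hs : Function.Surjective (algebraMap R A')) (n : Ideal C) [n.IsPrime]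
  (N : Type u) [AddCommGroup N] [Module C N] [Module R N] [IsScalarTower R C N]

include hs in
theorem surj_includeLeft : Function.Surjective (algebraMap C (C ⊗[R] A')) := by
  intro x
  induction x with
  | zero => exact ⟨0, map_zero _⟩
  | add x y hx hy =>
    obtain ⟨a, rfl⟩ := hx
    obtain ⟨b, rfl⟩ := hy
    exact ⟨a + b, map_add _ _ _⟩
  | tmul c a =>
    obtain ⟨r, rfl⟩ := hs a
    refine ⟨r • c, ?_⟩
    rw [Algebra.TensorProduct.algebraMap_apply, Algebra.algebraMap_self_apply]
    rw [Algebra.algebraMap_eq_smul_one, ← TensorProduct.smul_tmul]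

include hs in
/-- For a surjection `R → A'`, flatness over `A'` of `C' ⊗ N` at the prime over `n` is flatness over `A'` of
`A' ⊗ N_n`. -/
theorem flat_tensor_localized (q' : Ideal (C ⊗[R] A')) [q'.IsPrime] (hq : q'.comap (algebraMap C (C ⊗[R] A')) = n)
    (h : FlatCA.FlatAt A' q' ((C ⊗[R] A') ⊗[C] N)) :
    Module.Flat A' (A' ⊗[R] (LocalizedModule n.primeCompl N)) := by
  subst hq
  set n := q'.comap (algebraMap C (C ⊗[R] A')) with hn
  have hsurj := surj_includeLeft (C := C) hs
  let L := LocalizedModule q'.primeCompl ((C ⊗[R] A') ⊗[C] N)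
  let l : (C ⊗[R] A') ⊗[C] N →ₗ[C ⊗[R] A'] L := LocalizedModule.mkLinearMap q'.primeCompl _
  have h1 : (1 : C) ∉ n := (Ideal.ne_top_iff_one n).mp (Ideal.IsPrime.ne_top inferInstance)
  have h1' : algebraMap C (C ⊗[R] A') 1 ∉ q' := h1
  have H := Groth.Agent.Ega4B.LocTransfer.isLocalizedModule_comp (R := C) (A := C ⊗[R] A')
    (N' := LocalizedModule q'.primeCompl ((C ⊗[R] A') ⊗[C] N))
    (LinearMap.id : (C ⊗[R] A') ⊗[C] N →ₗ[C] _) q'
      (fun a => by
        obtain ⟨r, rfl⟩ := hsurj a
        exact ⟨1, r, h1', by simp⟩) (fun m => ⟨1, h1', m, by simp⟩) (fun m hm => ⟨1, h1', by simpa using hm⟩) l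
  let e0 : (C ⊗[R] A') ⊗[C] N ≃ₗ[C] N ⊗[R] A' :=
    TensorProduct.comm C (C ⊗[R] A') N ≪≫ₗ AlgebraTensorModule.cancelBaseChange R C C N A'
  have H2 : IsLocalizedModule n.primeCompl
      (AlgebraTensorModule.rTensor R A' (LocalizedModule.mkLinearMap n.primeCompl N)) := inferInstance
  have H3 : IsLocalizedModule n.primeCompl
      ((AlgebraTensorModule.rTensor R A' (LocalizedModule.mkLinearMap n.primeCompl N)) ∘ₗ e0.toLinearMap) :=
    inferInstance
  let e1 : L ≃ₗ[C] (LocalizedModule n.primeCompl N) ⊗[R] A' := IsLocalizedModule.linearEquiv n.primeCompl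
    ((l.restrictScalars C).comp (LinearMap.id : (C ⊗[R] A') ⊗[C] N →ₗ[C] _))
    ((AlgebraTensorModule.rTensor R A' (LocalizedModule.mkLinearMap n.primeCompl N)) ∘ₗ e0.toLinearMap)
  let e2 : L ≃ₗ[R] A' ⊗[R] (LocalizedModule n.primeCompl N) :=
    (e1.restrictScalars R).trans (TensorProduct.comm R _ _)
  let e3 : L ≃ₗ[A'] A' ⊗[R] (LocalizedModule n.primeCompl N) := e2.extendScalarsOfSurjective hs
  have hL : Module.Flat A' L := h
  exact Module.Flat.of_linearEquiv e3.symm

end Surj

section Prime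

/-- A prime of a tensor product from a pair of maps to a domain. -/
theorem exists_prime_tensor {R C A' κ : Type u} [CommRing R] [CommRing C] [CommRing A'] [CommRing κ] [IsDomain κ]
    [Algebra R C] [Algebra R A'] [Algebra R κ] (φ : C →ₐ[R] κ) (ψ : A' →ₐ[R] κ) :
    ∃ q' : Ideal (C ⊗[R] A'), q'.IsPrime ∧ q'.comap (algebraMap C (C ⊗[R] A')) = RingHom.ker φ ∧
      q'.comap (algebraMap A' (C ⊗[R] A')) = RingHom.ker ψ := by
  let L : C ⊗[R] A' →ₐ[R] κ := Algebra.TensorProduct.lift φ ψ (fun _ _ => Commute.all _ _)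
  refine ⟨RingHom.ker L, RingHom.ker_isPrime L, ?_, ?_⟩
  · ext c
    change L (c ⊗ₜ[R] 1) = 0 ↔ φ c = 0
    simp [L]
  · ext c
    change L (1 ⊗ₜ[R] c) = 0 ↔ ψ c = 0
    simp [L]

/-- The prime of `C ⊗ R/I` over a prime `n ⊇ I C` of `C`. -/
theorem exists_prime_quot {R C : Type u} [CommRing R] [CommRing C] [Algebra R C] (I : Ideal R) (n : Ideal C)
    [hn : n.IsPrime] (h : I.map (algebraMap R C) ≤ n) :
    ∃ q' : Ideal (C ⊗[R] (R ⧸ I)), q'.IsPrime ∧ q'.comap (algebraMap C (C ⊗[R] (R ⧸ I))) = n := by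
  obtain ⟨q', h1, h2, -⟩ := exists_prime_tensor (R := R) (C := C) (A' := R ⧸ I) (κ := C ⧸ n)
    (Ideal.Quotient.mkₐ R n) (Ideal.Quotient.liftₐ I (Algebra.ofId R (C ⧸ n)) (fun r hr => by
      rw [Algebra.ofId_apply, IsScalarTower.algebraMap_apply R C (C ⧸ n), Ideal.Quotient.algebraMap_eq,
        Ideal.Quotient.eq_zero_iff_mem]
      exact h (Ideal.mem_map_of_mem _ hr)))
  refine ⟨q', h1, h2.trans ?_⟩
  exact Ideal.mk_ker

end Prime

section Artin

variable {R : Type u} [CommRing R] [IsNoetherianRing R] [IsLocalRing R]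

theorem isArtinianRing_quot_pow (k : ℕ) (hk : 0 < k) : IsArtinianRing (R ⧸ maximalIdeal R ^ k) := by
  apply IsLocalRing.quotient_artinian_of_mem_minimalPrimes_of_isLocalRing
  refine ⟨⟨inferInstance, Ideal.pow_le_self hk.ne'⟩, ?_⟩
  rintro p ⟨hp, hle⟩ _
  exact Ideal.IsPrime.le_of_pow_le hle

theorem isLocalRing_quot_pow (k : ℕ) (hk : 0 < k) : IsLocalRing (R ⧸ maximalIdeal R ^ k) := by
  have : Nontrivial (R ⧸ maximalIdeal R ^ k) := Ideal.Quotient.nontrivial_iff.mpr (by
    intro h
    have := Ideal.pow_le_self (I := maximalIdeal R) hk.ne'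
    rw [h] at this
    exact (IsLocalRing.maximalIdeal.isMaximal R).ne_top (top_le_iff.mp this))
  exact IsLocalRing.of_surjective' (Ideal.Quotient.mk _) Ideal.Quotient.mk_surjective

variable {C : Type u} [CommRing C] [IsNoetherianRing C] [Algebra R C]
  (n : Ideal C) [n.IsPrime] (hn : (maximalIdeal R).map (algebraMap R C) ≤ n)
  (N : Type u) [AddCommGroup N] [Module C N] [Module.Finite C N] [Module R N] [IsScalarTower R C N]

include hn in
/-- The local criterion at `n`. -/
theorem flatAt_of_forall_quot_pow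
    (h : ∀ k : ℕ, 0 < k → Module.Flat (R ⧸ maximalIdeal R ^ k)
      ((R ⧸ maximalIdeal R ^ k) ⊗[R] (LocalizedModule n.primeCompl N))) : FlatCA.FlatAt R n N := by
  have h1 : (maximalIdeal R).map (algebraMap R (Localization.AtPrime n)) ≤ maximalIdeal (Localization.AtPrime n) := by
    rw [IsScalarTower.algebraMap_eq R C (Localization.AtPrime n), ← Ideal.map_map,
      ← Localization.AtPrime.map_eq_maximalIdeal]
    exact Ideal.map_mono hn
  have : Module.Finite (Localization.AtPrime n) (LocalizedModule n.primeCompl N) :=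
    Module.Finite.of_isLocalizedModule n.primeCompl (LocalizedModule.mkLinearMap n.primeCompl N)
  have h2 := Groth.Agent.S0396.result (S := Localization.AtPrime n) (M := LocalizedModule n.primeCompl N)
    (maximalIdeal R) h (maximalIdeal (Localization.AtPrime n)) h1
  have h3 : Module.Flat R (LocalizedModule n.primeCompl N) := by
    refine Groth.Agent.Flat2B.FlatCrit.flat_of_forall_flatAt (R := R) (S := Localization.AtPrime n)
      (LocalizedModule n.primeCompl N) (fun Q hQ => ?_)
    have := IsLocalRing.eq_maximalIdeal hQ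
    subst this
    exact h2
  exact h3

end Artin

end K966.SurjTest
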