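import Groth.Agent.QGor.K966.DvrCrit
import Groth.Agent.QGor.K966.SurjTest

/-!
# The valuative criterion of flatness at a prime of a finitely generated algebra, for modules
-/

set_option autoImplicit false
set_option linter.unusedSectionVars false
universe u v w

open TensorProduct IsLocalRing

namespace K966.DvrTest

attribute [local instance] Algebra.TensorProduct.rightAlgebra

section Loc

variable {V C' W : Type u} [CommRing V] [CommRing C'] [CommRing W] [Algebra V C'] [Algebra V W] [Algebra C' W]
  [IsScalarTower V C' W]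
  {M M' : Type u} [AddCommGroup M] [Module C' M] [Module V M] [IsScalarTower V C' M]
  [AddCommGroup M'] [Module W M'] [Module C' M'] [Module V M'] [IsScalarTower C' W M'] [IsScalarTower V W M']
  [IsScalarTower V C' M']

/-- Flatness at a prime of a localization. -/
theorem flatAt_of_loc (S : Submonoid C') (g : M →ₗ[C'] M') [IsLocalizedModule S g]
    (hW : ∀ a : W, ∃ s ∈ S, ∃ r : C', a * algebraMap C' W s = algebraMap C' W r)
    (Q : Ideal W) [Q.IsPrime] (hS : ∀ s ∈ S, algebraMap C' W s ∉ Q)
    (h : FlatCA.FlatAt V (Q.comap (algebraMap C' W)) M) : FlatCA.FlatAt V Q M' := by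
  let l := LocalizedModule.mkLinearMap Q.primeCompl M'
  have H := Groth.Agent.Ega4B.LocTransfer.isLocalizedModule_comp (R := C') (A := W)
    (N' := LocalizedModule Q.primeCompl M') g Q (fun a => by
      obtain ⟨s, hs, r, hr⟩ := hW a
      exact ⟨s, r, hS s hs, hr⟩) (fun m' => by
      obtain ⟨⟨m, s⟩, h⟩ := IsLocalizedModule.surj S g m'
      exact ⟨s, hS s s.2, m, h.symm⟩) (fun m hm => by
      rw [IsLocalizedModule.eq_zero_iff S g] at hm
      obtain ⟨s, hs⟩ := hm
      exact ⟨s, hS s s.2, hs⟩) l
  let e := IsLocalizedModule.linearEquiv (Q.comap (algebraMap C' W)).primeCompl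
    (LocalizedModule.mkLinearMap (Q.comap (algebraMap C' W)).primeCompl M)
    ((l.restrictScalars C').comp g)
  have h' : Module.Flat V (LocalizedModule (Q.comap (algebraMap C' W)).primeCompl M) := h
  exact Module.Flat.of_linearEquiv (e.restrictScalars V).symm

end Loc

section Main

variable {R C : Type u} [CommRing R] [IsLocalRing R] [IsNoetherianRing R] [IsReduced R] [CommRing C]
  [Algebra R C] [Algebra.FiniteType R C] [Module.Flat R C] (n : Ideal C) [n.IsPrime]
  (hn : (maximalIdeal R).map (algebraMap R C) ≤ n)
  (N : Type u) [AddCommGroup N] [Module C N] [Module.Finite C N] [Module R N] [IsScalarTower R C N]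

include hn in
/-- The valuative criterion of flatness for modules. -/
theorem flatAt_of_forall_dvr
    (H : ∀ (V : Type u) [CommRing V] [IsDomain V] [IsDiscreteValuationRing V] [Algebra R V]
      [IsLocalHom (algebraMap R V)] (q' : Ideal (C ⊗[R] V)) [q'.IsPrime],
      q'.comap (algebraMap C (C ⊗[R] V)) = n →
      q'.comap (algebraMap V (C ⊗[R] V)) = maximalIdeal V →
      FlatCA.FlatAt V q' ((C ⊗[R] V) ⊗[C] N)) : FlatCA.FlatAt R n N := by
  have h1 : IsLocalHom (algebraMap R (Localization.AtPrime n)) := by
    refine ((local_hom_TFAE (algebraMap R (Localization.AtPrime n))).out 0 2 :).mpr ?_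
    rw [IsScalarTower.algebraMap_eq R C (Localization.AtPrime n), ← Ideal.map_map,
      ← Localization.AtPrime.map_eq_maximalIdeal]
    exact Ideal.map_mono hn
  have h2 : Algebra.EssFiniteType C (Localization.AtPrime n) := Algebra.EssFiniteType.of_isLocalization _ n.primeCompl
  have h3 : Algebra.EssFiniteType R (Localization.AtPrime n) := Algebra.EssFiniteType.comp R C _
  have h4 : Module.Flat R (Localization.AtPrime n) := Module.Flat.trans R C _
  have h5 : Module.Finite (Localization.AtPrime n) (LocalizedModule n.primeCompl N) :=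
    Module.Finite.of_isLocalizedModule n.primeCompl (LocalizedModule.mkLinearMap n.primeCompl N)
  have key : Module.Flat R (LocalizedModule n.primeCompl N) := by
    refine K966.DvrCrit.flat_module_of_forall_dvr (A := R) (D := Localization.AtPrime n)
      (LocalizedModule n.primeCompl N) ?_
    intro V _ _ _ _ _ Q _ hQD hQV
    let θ : C ⊗[R] V →ₐ[R] Localization.AtPrime n ⊗[R] V :=
      Algebra.TensorProduct.map (IsScalarTower.toAlgHom R C (Localization.AtPrime n)) (AlgHom.id R V)
    let alg1 : Algebra (C ⊗[R] V) (Localization.AtPrime n ⊗[R] V) := θ.toRingHom.toAlgebra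
    have t1 : IsScalarTower C (C ⊗[R] V) (Localization.AtPrime n ⊗[R] V) :=
      IsScalarTower.of_algebraMap_eq (fun c => by
        change algebraMap C (Localization.AtPrime n) c ⊗ₜ[R] (1 : V) = θ (c ⊗ₜ[R] 1)
        simp [θ])
    have t2 : IsScalarTower V (C ⊗[R] V) (Localization.AtPrime n ⊗[R] V) :=
      IsScalarTower.of_algebraMap_eq (fun v => by
        change (1 : Localization.AtPrime n) ⊗ₜ[R] v = θ (1 ⊗ₜ[R] v)
        simp [θ])
    have hq1 : (Q.comap (algebraMap (C ⊗[R] V) (Localization.AtPrime n ⊗[R] V))).comap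
        (algebraMap C (C ⊗[R] V)) = n := by
      rw [Ideal.comap_comap, ← IsScalarTower.algebraMap_eq,
        IsScalarTower.algebraMap_eq C (Localization.AtPrime n), ← Ideal.comap_comap, hQD]
      exact Localization.AtPrime.under_maximalIdeal
    have hq2 : (Q.comap (algebraMap (C ⊗[R] V) (Localization.AtPrime n ⊗[R] V))).comap
        (algebraMap V (C ⊗[R] V)) = maximalIdeal V := by
      rw [Ideal.comap_comap, ← IsScalarTower.algebraMap_eq]
      exact hQV
    have hpo : Algebra.IsPushout C (Localization.AtPrime n) (C ⊗[R] V) (Localization.AtPrime n ⊗[R] V) :=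
      (Algebra.IsPushout.comp_iff R V (C ⊗[R] V) (S := C) (T := Localization.AtPrime n)
        (T' := Localization.AtPrime n ⊗[R] V)).mp inferInstance
    have hloc : IsLocalization (Algebra.algebraMapSubmonoid (C ⊗[R] V) n.primeCompl)
        (Localization.AtPrime n ⊗[R] V) :=
      (Algebra.isLocalization_iff_isPushout n.primeCompl (Localization.AtPrime n)).mpr (Algebra.IsPushout.symm hpo)
    have h6 := H V _ hq1 hq2
    have hsc : SMulCommClass C V (Localization.AtPrime n ⊗[R] V) := ⟨fun c v w => by
      have k1 : ∀ w : Localization.AtPrime n ⊗[R] V, v • w = ((1 : Localization.AtPrime n) ⊗ₜ[R] v) * w :=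
        fun w => Algebra.smul_def v w
      have k2 : ∀ w : Localization.AtPrime n ⊗[R] V,
          c • w = ((algebraMap C (Localization.AtPrime n) c) ⊗ₜ[R] (1 : V)) * w := by
        intro w
        induction w with
        | zero => simp
        | add x y hx hy => rw [smul_add, hx, hy, mul_add]
        | tmul x y =>
          rw [TensorProduct.smul_tmul', Algebra.TensorProduct.tmul_mul_tmul, one_mul, Algebra.smul_def]
      rw [k1, k1, k2, k2, mul_left_comm]⟩
    have e : (Localization.AtPrime n ⊗[R] V) ⊗[Localization.AtPrime n] LocalizedModule n.primeCompl N ≃ₗ[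
        Localization.AtPrime n ⊗[R] V] (Localization.AtPrime n ⊗[R] V) ⊗[C] N := by
      have e3 : Localization.AtPrime n ⊗[C] N ≃ₗ[Localization.AtPrime n] LocalizedModule n.primeCompl N :=
        (IsLocalizedModule.isBaseChange n.primeCompl (Localization.AtPrime n)
          (LocalizedModule.mkLinearMap n.primeCompl N)).equiv
      exact (TensorProduct.AlgebraTensorModule.congr (LinearEquiv.refl _ _) e3.symm).trans
        (TensorProduct.AlgebraTensorModule.cancelBaseChange C (Localization.AtPrime n)
          (Localization.AtPrime n ⊗[R] V) (Localization.AtPrime n ⊗[R] V) N)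
    rw [Groth.Agent.Flat2C.FlatAtCriterion.flatAt_congr (N' := (Localization.AtPrime n ⊗[R] V) ⊗[C] N) Q e]
    have h7 : IsLocalizedModule (Algebra.algebraMapSubmonoid (C ⊗[R] V) n.primeCompl)
        (Algebra.linearMap (C ⊗[R] V) (Localization.AtPrime n ⊗[R] V)) :=
      (isLocalizedModule_iff_isLocalization' _ _).mpr hloc
    refine flatAt_of_loc (Algebra.algebraMapSubmonoid (C ⊗[R] V) n.primeCompl)
      (AlgebraTensorModule.rTensor C N (Algebra.linearMap (C ⊗[R] V) (Localization.AtPrime n ⊗[R] V)))
      (fun a => ?_) Q ?_ h6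
    · obtain ⟨⟨r, s⟩, hr⟩ := IsLocalization.surj (Algebra.algebraMapSubmonoid (C ⊗[R] V) n.primeCompl) a
      exact ⟨s, s.2, r, hr⟩
    · rintro _ ⟨c, hc, rfl⟩ h8
      have h9 : c ∈ (Q.comap (algebraMap (C ⊗[R] V) (Localization.AtPrime n ⊗[R] V))).comap
        (algebraMap C (C ⊗[R] V)) := h8
      rw [hq1] at h9
      exact hc h9
  exact key

end Main

end K966.DvrTest
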