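import Groth.Agent.QGor.K966.HensTest
import Groth.Agent.QGor.K966.SurjTest

/-!
# Localizing the base
-/

set_option autoImplicit false
set_option linter.unusedSectionVars false
universe u

open TensorProduct IsLocalRing

namespace K966.LocBase

theorem exists_pushout (A C R : Type u) [CommRing A] [CommRing C] [CommRing R] [Algebra A C] [Algebra A R] :
    ∃ (D : Type u) (_ : CommRing D) (_ : Algebra C D) (_ : Algebra R D) (_ : Algebra A D)
      (_ : IsScalarTower A C D) (_ : IsScalarTower A R D), Algebra.IsPushout A C R D := by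
  let : Algebra R (C ⊗[A] R) := Algebra.TensorProduct.rightAlgebra
  exact ⟨C ⊗[A] R, inferInstance, inferInstance, inferInstance, inferInstance, inferInstance, inferInstance,
    TensorProduct.isPushout⟩

section Main

variable {A C : Type u} (R Ct : Type u) [CommRing A] [CommRing C] [CommRing R] [CommRing Ct] [Algebra A C] [Algebra A R]
  [Algebra C Ct] [Algebra R Ct] [Algebra A Ct] [IsScalarTower A C Ct] [IsScalarTower A R Ct]
  [hpo : Algebra.IsPushout A C R Ct] (t : Ideal A) [t.IsPrime] [IsLocalization.AtPrime R t] [IsLocalRing R]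
  (n : Ideal C) [n.IsPrime] (hn : n.comap (algebraMap A C) = t)

include R hpo in
theorem isLocalization_pushout : IsLocalization (Algebra.algebraMapSubmonoid C t.primeCompl) Ct :=
  (Algebra.isLocalization_iff_isPushout t.primeCompl R).mpr hpo

include hn

theorem disjoint_submonoid : Disjoint (Algebra.algebraMapSubmonoid C t.primeCompl : Set C) (n : Set C) := by
  rw [Set.disjoint_left]
  rintro _ ⟨a, ha, rfl⟩ h
  exact ha (by rw [← hn]; exact h)

/-- The prime of `C_t` over `n`. -/
theorem exists_prime : ∃ nt : Ideal Ct, nt.IsPrime ∧ nt.comap (algebraMap C Ct) = n ∧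
    nt.comap (algebraMap R Ct) = maximalIdeal R := by
  have h1 := isLocalization_pushout (C := C) R Ct t
  have h2 := disjoint_submonoid (C := C) t n hn
  have h3 := IsLocalization.isPrime_of_isPrime_disjoint (Algebra.algebraMapSubmonoid C t.primeCompl) Ct n inferInstance h2
  have h4 : (n.map (algebraMap C Ct)).comap (algebraMap C Ct) = n :=
    IsLocalization.under_map_of_isPrime_disjoint (Algebra.algebraMapSubmonoid C t.primeCompl) Ct inferInstance h2
  refine ⟨n.map (algebraMap C Ct), h3, h4, ?_⟩
  have h5 : ((n.map (algebraMap C Ct)).comap (algebraMap R Ct)).comap (algebraMap A R) = t := by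
    rw [Ideal.comap_comap, ← IsScalarTower.algebraMap_eq, IsScalarTower.algebraMap_eq A C Ct, ← Ideal.comap_comap, h4, hn]
  have h6 := IsLocalization.map_under t.primeCompl R ((n.map (algebraMap C Ct)).comap (algebraMap R Ct))
  change Ideal.map _ (((n.map (algebraMap C Ct)).comap (algebraMap R Ct)).comap (algebraMap A R)) = _ at h6
  rw [h5, IsLocalization.AtPrime.map_eq_maximalIdeal t R] at h6
  exact h6.symm

/-- Flatness over the local ring of the base. -/
theorem flatAt_of_local (G : Type u) [AddCommGroup G] [Module C G] [Module A G] [IsScalarTower A C G]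
    (nt : Ideal Ct) [nt.IsPrime] (hnt : nt.comap (algebraMap C Ct) = n)
    (h : FlatCA.FlatAt R nt (Ct ⊗[C] G)) : FlatCA.FlatAt A n G := by
  subst hnt
  have h1 := isLocalization_pushout (C := C) R Ct t
  have h2 : IsLocalizedModule (Algebra.algebraMapSubmonoid C t.primeCompl) (TensorProduct.mk C Ct G 1) :=
    (isLocalizedModule_iff_isBaseChange (Algebra.algebraMapSubmonoid C t.primeCompl) Ct _).mpr
      (TensorProduct.isBaseChange C G Ct)
  refine (K966.HensTest.flatAt_loc_iff (V := A) (Algebra.algebraMapSubmonoid C t.primeCompl)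
    (TensorProduct.mk C Ct G 1) ?_ nt ?_).mpr ?_
  · intro a
    obtain ⟨⟨r, s⟩, hr⟩ := IsLocalization.surj (Algebra.algebraMapSubmonoid C t.primeCompl) a
    exact ⟨s, s.2, r, hr⟩
  · rintro _ ⟨a, ha, rfl⟩ h8
    refine ha ?_
    rw [← hn]
    exact h8
  · have h5 : Module.Flat R (LocalizedModule nt.primeCompl (Ct ⊗[C] G)) := h
    have h6 : Module.Flat A R := IsLocalization.flat R t.primeCompl
    exact Module.Flat.trans A R _

omit hn in
include R hpo t in
theorem isNoetherianRing [IsNoetherianRing C] : IsNoetherianRing Ct := by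
  have h1 := isLocalization_pushout (C := C) R Ct t
  exact IsLocalization.isNoetherianRing (Algebra.algebraMapSubmonoid C t.primeCompl) Ct inferInstance

end Main

section Pushout

variable (A C : Type u) {R Ct : Type u} [CommRing A] [CommRing C] [CommRing R] [CommRing Ct] [Algebra A C] [Algebra A R]
  [Algebra C Ct] [Algebra R Ct] [Algebra A Ct] [IsScalarTower A C Ct] [IsScalarTower A R Ct]
  [hpo : Algebra.IsPushout A C R Ct]

include A C hpo

theorem finiteType [Algebra.FiniteType A C] : Algebra.FiniteType R Ct := by
  have h : Algebra.IsPushout A R C Ct := hpo.symm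
  have h1 : Algebra.FiniteType R (R ⊗[A] C) := inferInstance
  exact Algebra.FiniteType.equiv h1 (Algebra.IsPushout.equiv A R C Ct)

theorem flat [Module.Flat A C] : Module.Flat R Ct :=
  Module.Flat.isBaseChange A R C Ct hpo.symm.out

end Pushout

end K966.LocBase
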