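import Groth.Agent.QGor.K966.Crit
import Groth.Agent.QGor.K966.SurjTest
import Groth.Agent.QGor.K966.DvrTest
import Groth.Agent.QGor.K966.LocBase
import Groth.Agent.Flat2B.FlatDim

/-!
# Tests for relative `(S₂)`
-/

set_option autoImplicit false
universe u

open TensorProduct CategoryTheory CategoryTheory.Limits AlgebraicGeometry IsLocalRing

namespace K966.CritT

open Groth.Agent K970.RelSk1 K970.RelSk2 K970.TildeDual K970.Chart

attribute [local instance] Algebra.TensorProduct.rightAlgebra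

/-- The module `G` computes the relative `(S₂)` condition for `T^∨∨` and its base changes in the chart `j`. -/
structure Crit {A C : Type u} [CommRing A] [CommRing C] [Algebra A C] {Y : Scheme.{u}}
    (f : Y ⟶ Spec (CommRingCat.of A)) (j : Spec (CommRingCat.of C) ⟶ Y) (T : Y.Modules)
    (G : Type u) [AddCommGroup G] [Module C G] [Module A G] [IsScalarTower A C G] : Prop where
  here : ∀ (q : PrimeSpectrum C) (x : Spec (CommRingCat.of C)), x = q →
        (RelCanon.RelSkAt f 2 (RefHull.ddual T) (j x) ↔ FlatCA.FlatAt A q.asIdeal G)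
  bc : ∀ (B : Type u) [CommRing B] [IsNoetherianRing B] [Algebra A B] (C' : Type u) [CommRing C']
        [IsNoetherianRing C'] [Algebra B C'] [Algebra C C'] [Algebra A C'] [IsScalarTower A B C']
        [IsScalarTower A C C'] [Algebra.IsPushout A C B C']
        (Y' : Scheme.{u}) (f' : Y' ⟶ Spec (CommRingCat.of B)) (p : Y' ⟶ Y)
        (j' : Spec (CommRingCat.of C') ⟶ Y') [IsOpenImmersion j'],
        j' ≫ f' = Spec.map (CommRingCat.ofHom (algebraMap B C')) →
        j' ≫ p = Spec.map (CommRingCat.ofHom (algebraMap C C')) ≫ j →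
        ∀ (F' : Y'.Modules),
        Nonempty (RefHull.ddual ((Scheme.Modules.pullback p).obj (RefHull.ddual T)) ≅ F') →
        ∀ (q' : PrimeSpectrum C') (x' : Spec (CommRingCat.of C')), x' = q' →
        (RelCanon.RelSkAt f' 2 F' (j' x') ↔ FlatCA.FlatAt B q'.asIdeal (C' ⊗[C] G))
  bidual : ∀ (B : Type u) [CommRing B] [IsNoetherianRing B] [Algebra A B] (C' : Type u) [CommRing C']
        [IsNoetherianRing C'] [Algebra B C'] [Algebra C C'] [Algebra A C'] [IsScalarTower A B C']
        [IsScalarTower A C C'] [Algebra.IsPushout A C B C']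
        (Y' : Scheme.{u}) (p : Y' ⟶ Y)
        (j' : Spec (CommRingCat.of C') ⟶ Y') [IsOpenImmersion j'],
        j' ≫ p = Spec.map (CommRingCat.ofHom (algebraMap C C')) ≫ j →
        ∀ (q' : PrimeSpectrum C') (x' : Spec (CommRingCat.of C')), x' = q' →
        FlatCA.FlatAt A (q'.asIdeal.comap (algebraMap C C')) G →
        Nonempty ((RefHull.ddual ((Scheme.Modules.pullback p).obj (RefHull.ddual T))).presheaf.stalk (j' x')
          ≃ₗ[Y'.presheaf.stalk (j' x')]
          ((Scheme.Modules.pullback p).obj (RefHull.ddual T)).presheaf.stalk (j' x'))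

/-- The hypotheses: an `S₂`-morphism, a closed set of fibre codimension at least two and a coherent module
invertible off it. -/
structure Hyp {A : Type u} [CommRing A] {Y : Scheme.{u}} (f : Y ⟶ Spec (CommRingCat.of A)) (Z : Set Y)
    (T : Y.Modules) : Prop where
  flat : Flat f
  lft : LocallyOfFiniteType f
  hSk : ∀ y : Y, RelCanon.SkAt 2 (Coh.structureModule (f.fiber (f y))) (f.asFiber y)
  hZ : IsClosed Z
  hdim : ∀ y ∈ Z, (2 : WithBot ℕ∞) ≤ ringKrullDim ((f.fiber (f y)).presheaf.stalk (f.asFiber y))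
  hT : Coh.IsCoh T
  hTZ : ∀ y : Y, y ∉ Z → RelCanon.InvertibleAt T y

section Basic

variable {A C : Type u} [CommRing A] [IsNoetherianRing A] [CommRing C] [IsNoetherianRing C] [Algebra A C]
  [Algebra.FiniteType A C] {Y : Scheme.{u}}
  {f : Y ⟶ Spec (CommRingCat.of A)} {j : Spec (CommRingCat.of C) ⟶ Y} [IsOpenImmersion j]
  (hj : j ≫ f = Spec.map (CommRingCat.ofHom (algebraMap A C))) {T : Y.Modules} {Z : Set Y} (hyp : Hyp f Z T)

include hj hyp in
theorem Hyp.exists_crit :
    ∃ (G : Type u) (_ : AddCommGroup G) (_ : Module C G) (_ : Module.Finite C G) (_ : Module A G)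
      (_ : IsScalarTower A C G), Crit f j T G := by
  have := hyp.flat
  obtain ⟨G, h1, h2, h3, h4, h5, h6, h7, h8⟩ := K966.Crit.exists_crit hj hyp.hSk Z hyp.hZ hyp.hdim T hyp.hT hyp.hTZ
  exact ⟨G, h1, h2, h3, h4, h5, ⟨h6, h7, h8⟩⟩

variable {G : Type u} [AddCommGroup G] [Module C G] [Module A G] [IsScalarTower A C G] (hc : Crit f j T G)

omit [IsNoetherianRing A] [IsNoetherianRing C] [Algebra.FiniteType A C] in
include hj hc in
/-- In a base change. -/
theorem Crit.iff_of_isPullback {B : Type u} [CommRing B] [IsNoetherianRing B] [Algebra A B] {C' : Type u} [CommRing C']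
    [IsNoetherianRing C'] [Algebra B C'] [Algebra C C'] [Algebra A C'] [IsScalarTower A B C']
    [IsScalarTower A C C'] [Algebra.IsPushout A C B C']
    {Y' : Scheme.{u}} {f' : Y' ⟶ Spec (CommRingCat.of B)} {p : Y' ⟶ Y}
    (H : IsPullback p f' f (Spec.map (CommRingCat.ofHom (algebraMap A B))))
    (F' : Y'.Modules)
    (e : Nonempty (RefHull.ddual ((Scheme.Modules.pullback p).obj (RefHull.ddual T)) ≅ F'))
    (n : PrimeSpectrum C) (y' : Y') (hy' : p y' = j (n : Spec (CommRingCat.of C))) :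
    ∃ q' : PrimeSpectrum C', q'.asIdeal.comap (algebraMap C C') = n.asIdeal ∧
      q'.asIdeal.comap (algebraMap B C') = (f' y').asIdeal ∧
      (RelCanon.RelSkAt f' 2 F' y' ↔ FlatCA.FlatAt B q'.asIdeal (C' ⊗[C] G)) := by
  have : Algebra.IsPushout A B C C' := Algebra.IsPushout.symm inferInstance
  obtain ⟨j', _, h1, h2, h3⟩ := exists_lift (C := C) (C' := C') H hj
  obtain ⟨x', hx', hx2⟩ := Scheme.exists_preimage_of_isPullback h3 y' _ hy'
  refine ⟨x', ?_, ?_, ?_⟩
  · exact congrArg PrimeSpectrum.asIdeal hx2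
  · subst hx'
    have h4 : f' (j' x') = (Spec.map (CommRingCat.ofHom (algebraMap B C'))) x' := by
      rw [← h1, Scheme.Hom.comp_apply]
    rw [h4]
    rfl
  · subst hx'
    exact hc.bc B C' Y' f' p j' h1 h2 F' e x' x' rfl


omit [IsNoetherianRing A] [IsNoetherianRing C] [Algebra.FiniteType A C] in
include hj hc in
/-- Tests over an algebra `V` over an `A`-algebra `R`. -/
theorem Crit.flatAt_test {R Ct : Type u} [CommRing R] [CommRing Ct] [Algebra A R] [Algebra C Ct] [Algebra R Ct]
    [Algebra A Ct] [IsScalarTower A C Ct] [IsScalarTower A R Ct] [hpo : Algebra.IsPushout A C R Ct]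
    (V : Type u) [CommRing V] [IsNoetherianRing V] [Algebra R V] [IsNoetherianRing (Ct ⊗[R] V)] (n : PrimeSpectrum C)
    (q' : Ideal (Ct ⊗[R] V)) [q'.IsPrime]
    (hq : (q'.comap (algebraMap Ct (Ct ⊗[R] V))).comap (algebraMap C Ct) = n.asIdeal)
    (H : ∀ (Y' : Scheme.{u}) (f' : Y' ⟶ Spec (CommRingCat.of V)) (p : Y' ⟶ Y),
      IsPullback p f' f (Spec.map (CommRingCat.ofHom ((algebraMap R V).comp (algebraMap A R)))) →
      ∀ y' : Y', p y' = j (n : Spec (CommRingCat.of C)) → (f' y').asIdeal = q'.comap (algebraMap V (Ct ⊗[R] V)) →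
      RelCanon.RelSkAt f' 2 (RefHull.ddual ((Scheme.Modules.pullback p).obj (RefHull.ddual T))) y') :
    FlatCA.FlatAt V q' ((Ct ⊗[R] V) ⊗[Ct] (Ct ⊗[C] G)) := by
  let C' := Ct ⊗[R] V
  let : Algebra A V := ((algebraMap R V).comp (algebraMap A R)).toAlgebra
  have t1 : IsScalarTower A R V := .of_algebraMap_eq' rfl
  let : Algebra C C' := Algebra.TensorProduct.leftAlgebra
  have t2 : IsScalarTower C Ct C' := .of_algebraMap_eq' rfl
  let : Algebra A C' := Algebra.TensorProduct.leftAlgebra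
  have t3 : IsScalarTower A Ct C' := .of_algebraMap_eq' rfl
  have t4 : IsScalarTower A C C' := .of_algebraMap_eq' (by
    rw [IsScalarTower.algebraMap_eq A Ct C', IsScalarTower.algebraMap_eq A C Ct, IsScalarTower.algebraMap_eq C Ct C',
      RingHom.comp_assoc])
  have t5 : IsScalarTower A R C' := .of_algebraMap_eq' (by
    rw [IsScalarTower.algebraMap_eq A Ct C', IsScalarTower.algebraMap_eq A R Ct, IsScalarTower.algebraMap_eq R Ct C',
      RingHom.comp_assoc])
  have t6 : IsScalarTower A V C' := .of_algebraMap_eq' (by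
    rw [IsScalarTower.algebraMap_eq A R C', IsScalarTower.algebraMap_eq R V C', IsScalarTower.algebraMap_eq A R V,
      RingHom.comp_assoc])
  have hpo1 : Algebra.IsPushout A R C Ct := hpo.symm
  have hpo2 : Algebra.IsPushout R V Ct C' := inferInstance
  have hpo3 : Algebra.IsPushout A V C C' :=
    (Algebra.IsPushout.comp_iff A R C (S' := Ct) (T := V) (T' := C')).mpr hpo2
  have hpo4 : Algebra.IsPushout A C V C' := hpo3.symm
  let Y' := pullback f (Spec.map (CommRingCat.ofHom (algebraMap A V)))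
  let f' : Y' ⟶ Spec (CommRingCat.of V) := pullback.snd _ _
  let p : Y' ⟶ Y := pullback.fst _ _
  have hP : IsPullback p f' f (Spec.map (CommRingCat.ofHom (algebraMap A V))) := IsPullback.of_hasPullback _ _
  obtain ⟨j', _, h1, h2, h3⟩ := exists_lift (C := C) (C' := C') hP hj
  let x' : PrimeSpectrum C' := ⟨q', inferInstance⟩
  have hx : p (j' (x' : Spec (CommRingCat.of C'))) = j (n : Spec (CommRingCat.of C)) := by
    have h4 := congrArg (fun g => g (x' : Spec (CommRingCat.of C'))) h2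
    have h5 : p (j' (x' : Spec (CommRingCat.of C'))) =
      j (Spec.map (CommRingCat.ofHom (algebraMap C C')) (x' : Spec (CommRingCat.of C'))) := by simpa using h4
    rw [h5]
    congr 1
    exact PrimeSpectrum.ext hq
  have hx2 : (f' (j' (x' : Spec (CommRingCat.of C')))).asIdeal = q'.comap (algebraMap V C') := by
    have h4 : f' (j' (x' : Spec (CommRingCat.of C'))) = (Spec.map (CommRingCat.ofHom (algebraMap V C'))) x' := by
      rw [← h1, Scheme.Hom.comp_apply]
    rw [h4]
    rfl
  have h6 := (hc.bc V C' Y' f' p j' h1 h2 _ ⟨Iso.refl _⟩ x' x' rfl).mp (H Y' f' p hP _ hx hx2)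
  let e : C' ⊗[Ct] (Ct ⊗[C] G) ≃ₗ[C'] C' ⊗[C] G :=
    TensorProduct.AlgebraTensorModule.cancelBaseChange C Ct C' C' G
  rw [Groth.Agent.Flat2C.FlatAtCriterion.flatAt_congr (N' := C' ⊗[C] G) q' e]
  exact h6

end Basic

section Forward

variable {A : Type u} [CommRing A] [IsNoetherianRing A] {Y : Scheme.{u}} {f : Y ⟶ Spec (CommRingCat.of A)}
  {T : Y.Modules} {Z : Set Y} (hyp : Hyp f Z T)

include hyp in
/-- Relative `(S₂)` of `T^∨∨` passes to the double dual of its inverse image. -/
theorem Hyp.relSkAt_bc {B : Type u} [CommRing B] [IsNoetherianRing B] [Algebra A B]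
    {Y' : Scheme.{u}} {f' : Y' ⟶ Spec (CommRingCat.of B)} {p : Y' ⟶ Y}
    (H : IsPullback p f' f (Spec.map (CommRingCat.ofHom (algebraMap A B)))) (y' : Y')
    (h : RelCanon.RelSkAt f 2 (RefHull.ddual T) (p y')) :
    RelCanon.RelSkAt f' 2 (RefHull.ddual ((Scheme.Modules.pullback p).obj (RefHull.ddual T))) y' := by
  have := hyp.lft
  obtain ⟨C, _, _, _, j, _, x, hj, hx, -⟩ := exists_chart f (p y') ⊤ trivial
  have : IsNoetherianRing C := Algebra.FiniteType.isNoetherianRing A C
  obtain ⟨G, _, _, _, _, _, hc⟩ := hyp.exists_crit hj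
  let n : PrimeSpectrum C := x
  have h1 : FlatCA.FlatAt A n.asIdeal G := (hc.here n x rfl).mp (by rw [hx]; exact h)
  have : Algebra.IsPushout A C B (C ⊗[A] B) := TensorProduct.isPushout
  have : IsNoetherianRing (B ⊗[A] C) := Algebra.FiniteType.isNoetherianRing B _
  have : IsNoetherianRing (C ⊗[A] B) :=
    isNoetherianRing_of_ringEquiv _ (Algebra.TensorProduct.comm A B C).toRingEquiv
  obtain ⟨q', h2, -, h3⟩ := hc.iff_of_isPullback (C' := C ⊗[A] B) hj H _ ⟨Iso.refl _⟩ n y' hx.symm
  rw [h3]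
  have hl : q'.asIdeal.LiesOver n.asIdeal := ⟨h2.symm⟩
  exact Groth.Agent.Flat2B.FlatDim.flatAt_baseChange (A₁ := A) (A₂ := B) (TensorProduct.mk C (C ⊗[A] B) G 1)
    (TensorProduct.isBaseChange C G (C ⊗[A] B)) n.asIdeal q'.asIdeal h1

include hyp in
/-- If `T^∨∨` satisfies relative `(S₂)` at `p y'`, then its inverse image is reflexive at `y'`. -/
theorem Hyp.nonempty_stalk_equiv {B : Type u} [CommRing B] [IsNoetherianRing B] [Algebra A B]
    {Y' : Scheme.{u}} {f' : Y' ⟶ Spec (CommRingCat.of B)} {p : Y' ⟶ Y}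
    (H : IsPullback p f' f (Spec.map (CommRingCat.ofHom (algebraMap A B)))) (y' : Y')
    (h : RelCanon.RelSkAt f 2 (RefHull.ddual T) (p y')) :
    Nonempty ((RefHull.ddual ((Scheme.Modules.pullback p).obj (RefHull.ddual T))).presheaf.stalk y'
      ≃ₗ[Y'.presheaf.stalk y'] ((Scheme.Modules.pullback p).obj (RefHull.ddual T)).presheaf.stalk y') := by
  have := hyp.lft
  obtain ⟨C, _, _, _, j, _, x, hj, hx, -⟩ := exists_chart f (p y') ⊤ trivial
  have : IsNoetherianRing C := Algebra.FiniteType.isNoetherianRing A C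
  obtain ⟨G, _, _, _, _, _, hc⟩ := hyp.exists_crit hj
  have : Algebra.IsPushout A C B (C ⊗[A] B) := TensorProduct.isPushout
  have : Algebra.IsPushout A B C (C ⊗[A] B) := Algebra.IsPushout.symm inferInstance
  have : IsNoetherianRing (B ⊗[A] C) := Algebra.FiniteType.isNoetherianRing B _
  have : IsNoetherianRing (C ⊗[A] B) :=
    isNoetherianRing_of_ringEquiv _ (Algebra.TensorProduct.comm A B C).toRingEquiv
  obtain ⟨j', _, h1, h2, h3⟩ := exists_lift (C := C) (C' := C ⊗[A] B) H hj
  obtain ⟨x', hx', hx2⟩ := Scheme.exists_preimage_of_isPullback h3 y' x hx.symm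
  subst hx'
  refine hc.bidual B (C ⊗[A] B) Y' p j' h2 x' x' rfl ?_
  have h4 : FlatCA.FlatAt A (x : PrimeSpectrum C).asIdeal G := (hc.here x x rfl).mp (by rw [hx]; exact h)
  subst hx2
  exact h4

end Forward

section Tests

variable {A : Type u} [CommRing A] [IsNoetherianRing A] {Y : Scheme.{u}} {f : Y ⟶ Spec (CommRingCat.of A)}
  {T : Y.Modules} {Z : Set Y} (hyp : Hyp f Z T) (y : Y)

include hyp in
/-- The infinitesimal criterion. -/
theorem Hyp.relSkAt_of_artinian
    (H : ∀ (k : ℕ), 0 < k → ∀ (Y' : Scheme.{u})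
      (f' : Y' ⟶ Spec (CommRingCat.of (Localization.AtPrime (f y).asIdeal ⧸
        maximalIdeal (Localization.AtPrime (f y).asIdeal) ^ k))) (p : Y' ⟶ Y),
      IsPullback p f' f (Spec.map (CommRingCat.ofHom
        ((Ideal.Quotient.mk (maximalIdeal (Localization.AtPrime (f y).asIdeal) ^ k)).comp
        (algebraMap A (Localization.AtPrime (f y).asIdeal))))) →
      ∀ y' : Y', p y' = y →
      RelCanon.RelSkAt f' 2 (RefHull.ddual ((Scheme.Modules.pullback p).obj (RefHull.ddual T))) y') :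
    RelCanon.RelSkAt f 2 (RefHull.ddual T) y := by
  have := hyp.lft
  obtain ⟨C, _, _, _, j, _, x, hj, hx, -⟩ := exists_chart f y ⊤ trivial
  have : IsNoetherianRing C := Algebra.FiniteType.isNoetherianRing A C
  obtain ⟨G, _, _, _, _, _, hc⟩ := hyp.exists_crit hj
  let n : PrimeSpectrum C := x
  rw [← hx]
  refine (hc.here n x rfl).mpr ?_
  let R := Localization.AtPrime (f y).asIdeal
  have hn : n.asIdeal.comap (algebraMap A C) = (f y).asIdeal := by
    have h4 : f (j x) = (Spec.map (CommRingCat.ofHom (algebraMap A C))) x := by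
      rw [← hj, Scheme.Hom.comp_apply]
    rw [← hx, h4]
    rfl
  obtain ⟨Ct, _, _, _, _, _, _, hpo⟩ := K966.LocBase.exists_pushout A C R
  obtain ⟨nt, hnt, hntC, hntR⟩ := K966.LocBase.exists_prime R Ct (f y).asIdeal n.asIdeal hn
  refine K966.LocBase.flatAt_of_local R Ct (f y).asIdeal n.asIdeal hn G nt hntC ?_
  have : IsNoetherianRing Ct := K966.LocBase.isNoetherianRing (C := C) R Ct (f y).asIdeal
  refine K966.SurjTest.flatAt_of_forall_quot_pow nt (Ideal.map_le_iff_le_comap.mpr hntR.ge) _ (fun k hk => ?_)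
  have hs : Function.Surjective (algebraMap R (R ⧸ maximalIdeal R ^ k)) := Ideal.Quotient.mk_surjective
  have hsurj := K966.SurjTest.surj_includeLeft (C := Ct) hs
  have hN : IsNoetherianRing (Ct ⊗[R] (R ⧸ maximalIdeal R ^ k)) := isNoetherianRing_of_surjective _ _ _ hsurj
  obtain ⟨q', hq', hq'n⟩ : ∃ q' : Ideal (Ct ⊗[R] (R ⧸ maximalIdeal R ^ k)), q'.IsPrime ∧
        q'.comap (algebraMap Ct (Ct ⊗[R] (R ⧸ maximalIdeal R ^ k))) = nt :=
      K966.SurjTest.exists_prime_quot (maximalIdeal R ^ k) nt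
        ((Ideal.map_mono (Ideal.pow_le_self hk.ne')).trans (Ideal.map_le_iff_le_comap.mpr hntR.ge))
  have h4 := hc.flatAt_test hj (R := R) (Ct := Ct) (R ⧸ maximalIdeal R ^ k) n q' (by rw [hq'n, hntC])
    (fun Y' f' p hP y' hy' _ => H k hk Y' f' p hP y' (hy'.trans hx))
  exact K966.SurjTest.flat_tensor_localized hs nt _ q' hq'n h4


include hyp in
/-- The valuative criterion. -/
theorem Hyp.relSkAt_of_dvr [_root_.IsReduced (Localization.AtPrime (f y).asIdeal)]
    (H : ∀ (V : Type u) [CommRing V] [IsDomain V] [IsDiscreteValuationRing V]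
      (φ : Localization.AtPrime (f y).asIdeal →+* V), IsLocalHom φ →
      ∀ (Y' : Scheme.{u}) (f' : Y' ⟶ Spec (CommRingCat.of V)) (p : Y' ⟶ Y),
      IsPullback p f' f (Spec.map (CommRingCat.ofHom
        (φ.comp (algebraMap A (Localization.AtPrime (f y).asIdeal))))) →
      ∀ y' : Y', p y' = y → (f' y').asIdeal = maximalIdeal V →
      RelCanon.RelSkAt f' 2 (RefHull.ddual ((Scheme.Modules.pullback p).obj (RefHull.ddual T))) y') :
    RelCanon.RelSkAt f 2 (RefHull.ddual T) y := by
  have := hyp.lft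
  have := hyp.flat
  obtain ⟨C, _, _, _, j, _, x, hj, hx, -⟩ := exists_chart f y ⊤ trivial
  have : IsNoetherianRing C := Algebra.FiniteType.isNoetherianRing A C
  have : Module.Flat A C := K966.Crit.flat_chart hj
  obtain ⟨G, _, _, _, _, _, hc⟩ := hyp.exists_crit hj
  let n : PrimeSpectrum C := x
  rw [← hx]
  refine (hc.here n x rfl).mpr ?_
  let R := Localization.AtPrime (f y).asIdeal
  have hn : n.asIdeal.comap (algebraMap A C) = (f y).asIdeal := by
    have h4 : f (j x) = (Spec.map (CommRingCat.ofHom (algebraMap A C))) x := by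
      rw [← hj, Scheme.Hom.comp_apply]
    rw [← hx, h4]
    rfl
  obtain ⟨Ct, _, _, _, _, _, _, hpo⟩ := K966.LocBase.exists_pushout A C R
  obtain ⟨nt, hnt, hntC, hntR⟩ := K966.LocBase.exists_prime R Ct (f y).asIdeal n.asIdeal hn
  refine K966.LocBase.flatAt_of_local R Ct (f y).asIdeal n.asIdeal hn G nt hntC ?_
  have : IsNoetherianRing Ct := K966.LocBase.isNoetherianRing (C := C) R Ct (f y).asIdeal
  have : Algebra.FiniteType R Ct := K966.LocBase.finiteType A C
  have : Module.Flat R Ct := K966.LocBase.flat A C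
  refine K966.DvrTest.flatAt_of_forall_dvr nt (Ideal.map_le_iff_le_comap.mpr hntR.ge) _ ?_
  intro V _ _ _ _ hloc q' _ hq'n hq'V
  have hN0 : IsNoetherianRing (V ⊗[R] Ct) := Algebra.FiniteType.isNoetherianRing V _
  have hN : IsNoetherianRing (Ct ⊗[R] V) :=
    isNoetherianRing_of_ringEquiv _ (Algebra.TensorProduct.comm R V Ct).toRingEquiv
  exact hc.flatAt_test hj (R := R) (Ct := Ct) V n q' (by rw [hq'n, hntC])
    (fun Y' f' p hP y' hy' hf' => H V (algebraMap R V) hloc Y' f' p hP y' (hy'.trans hx) (hf'.trans hq'V))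

end Tests

end K966.CritT
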