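import Groth.Agent.Ega43.FlatDvrMain
import Groth.Agent.Flat2B.FlatCrit
import Groth.Agent.Flat2C.FlatAtCriterion
import Mathlib.Algebra.TrivSqZeroExt.Basic
import Mathlib.RingTheory.EssentialFiniteness

/-!
# The valuative criterion of flatness for modules

`A` a reduced Noetherian local ring, `D` a local `A`-algebra essentially of finite type, flat over `A`, `N` a finite
`D`-module. If for every discrete valuation ring `V` and local homomorphism `A → V` the module
`(V ⊗ D) ⊗_D N` is flat over `V` at all primes over both closed points, then `N` is flat over `A`.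
-/

set_option autoImplicit false
set_option linter.unusedSectionVars false
universe u v w

open TensorProduct IsLocalRing

namespace K966.DvrCrit

section Retract

variable {R S : Type u} [CommRing R] [CommRing S] [Algebra R S] (q : Ideal S) [q.IsPrime]
  {M X Y : Type u} [AddCommGroup M] [Module S M] [Module R M] [IsScalarTower R S M]
  [AddCommGroup X] [Module S X] [Module R X] [IsScalarTower R S X]
  [AddCommGroup Y] [Module S Y] [Module R Y] [IsScalarTower R S Y]

/-- Flatness at a point of a sum of two modules. -/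
theorem flatAt_of_retracts (i1 : X →ₗ[S] M) (p1 : M →ₗ[S] X) (i2 : Y →ₗ[S] M) (p2 : M →ₗ[S] Y)
    (h : ∀ m, i1 (p1 m) + i2 (p2 m) = m) (hX : FlatCA.FlatAt R q X) (hY : FlatCA.FlatAt R q Y) :
    FlatCA.FlatAt R q M := by
  rw [Groth.Agent.Flat2B.FlatCrit.flatAt_iff_forall_exists] at hX hY ⊢
  intro I x hx
  have hnat : ∀ {Z : Type u} [AddCommGroup Z] [Module S Z] [Module R Z] [IsScalarTower R S Z] (p : M →ₗ[S] Z),
      AlgebraTensorModule.lTensor S Z I.subtype (AlgebraTensorModule.rTensor R I p x) = 0 := by
    intro Z _ _ _ _ p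
    have : ∀ y : M ⊗[R] I, AlgebraTensorModule.lTensor S Z I.subtype (AlgebraTensorModule.rTensor R I p y) =
        AlgebraTensorModule.rTensor R R p (AlgebraTensorModule.lTensor S M I.subtype y) := by
      intro y
      induction y with
      | zero => simp
      | add a b ha hb => rw [map_add, map_add, ha, hb, map_add, map_add]
      | tmul a b => simp
    rw [this, hx, map_zero]
  obtain ⟨t1, ht1, h1⟩ := hX I _ (hnat p1)
  obtain ⟨t2, ht2, h2⟩ := hY I _ (hnat p2)
  refine ⟨t1 * t2, fun h' => (Ideal.IsPrime.mem_or_mem inferInstance h').elim ht1 ht2, ?_⟩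
  have hsum : ∀ y : M ⊗[R] I, AlgebraTensorModule.rTensor R I i1 (AlgebraTensorModule.rTensor R I p1 y) +
      AlgebraTensorModule.rTensor R I i2 (AlgebraTensorModule.rTensor R I p2 y) = y := by
    intro y
    induction y with
    | zero => simp
    | add a b ha hb =>
      rw [map_add, map_add, map_add, map_add, add_add_add_comm, ha, hb]
    | tmul a b =>
      simp only [AlgebraTensorModule.rTensor_tmul, ← TensorProduct.add_tmul, h]
  have k1 : (t1 * t2) • AlgebraTensorModule.rTensor R I i1 (AlgebraTensorModule.rTensor R I p1 x) = 0 := by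
    rw [← map_smul, mul_comm, mul_smul, h1, smul_zero, map_zero]
  have k2 : (t1 * t2) • AlgebraTensorModule.rTensor R I i2 (AlgebraTensorModule.rTensor R I p2 x) = 0 := by
    rw [← map_smul, mul_smul, h2, smul_zero, map_zero]
  rw [← hsum x, smul_add, k1, k2, add_zero]

end Retract

section Triv

variable {A D : Type u} [CommRing A] [CommRing D] [Algebra A D] (N : Type u) [AddCommGroup N] [Module D N]

/-- The opposite action of a commutative ring. -/
abbrev opMod : Module Dᵐᵒᵖ N := Module.compHom N ((RingHom.id D).fromOpposite mul_comm)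

attribute [local instance] opMod

theorem isCentralScalar_op : IsCentralScalar D N := ⟨fun _ _ => rfl⟩

attribute [local instance] isCentralScalar_op

/-- The trivial extension is local. -/
theorem isLocalRing_triv [IsLocalRing D] : IsLocalRing (TrivSqZeroExt D N) := by
  have : IsLocalHom (TrivSqZeroExt.fstHom D D N).toRingHom := ⟨fun x hx => by
    rw [TrivSqZeroExt.isUnit_iff_isUnit_fst]
    exact hx⟩
  exact RingHom.domain_isLocalRing (TrivSqZeroExt.fstHom D D N).toRingHom

theorem finite_triv [Module.Finite D N] : Module.Finite D (TrivSqZeroExt D N) :=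
  inferInstanceAs (Module.Finite D (D × N))

end Triv

section Push

variable {A D T V B W : Type u} [CommRing A] [CommRing D] [CommRing T] [CommRing V] [CommRing B] [CommRing W]
  [Algebra A D] [Algebra D T] [Algebra A T] [IsScalarTower A D T]
  [Algebra A V] [Algebra D B] [Algebra V B] [Algebra A B] [IsScalarTower A D B] [IsScalarTower A V B]
  [hpo : Algebra.IsPushout A D V B]
  [Algebra V W] [Algebra T W] [Algebra A W] [IsScalarTower A V W] [IsScalarTower A T W]
  [hpo' : Algebra.IsPushout A T V W]
  [Algebra B W] [Algebra D W] [IsScalarTower D T W] [IsScalarTower D B W] [IsScalarTower V B W]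
  (N : Type u) [AddCommGroup N] [Module D N]

include hpo hpo' in
/-- Flatness at a point of the base change of `T`, a sum of `D` and `N` as a `D`-module. -/
theorem flatAt_push (i1 : D →ₗ[D] T) (p1 : T →ₗ[D] D) (i2 : N →ₗ[D] T) (p2 : T →ₗ[D] N)
    (h : ∀ m, i1 (p1 m) + i2 (p2 m) = m) [Module.Flat A D] (q : Ideal B) [q.IsPrime]
    (hN : FlatCA.FlatAt V q (B ⊗[D] N)) : FlatCA.FlatAt V q W := by
  have : IsScalarTower A B W := IsScalarTower.of_algebraMap_eq (fun x => by
    rw [IsScalarTower.algebraMap_apply A V W, IsScalarTower.algebraMap_apply V B W,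
      ← IsScalarTower.algebraMap_apply A V B])
  have hp : Algebra.IsPushout D T B W := (Algebra.IsPushout.comp_iff A V B (S := D) (T := T) (T' := W)).mp hpo'
  have hW : IsBaseChange B (IsScalarTower.toAlgHom D T W).toLinearMap := (Algebra.IsPushout.symm hp).out
  rw [← Groth.Agent.Flat2C.FlatAtCriterion.flatAt_congr q hW.equiv]
  have hVB : Module.Flat V B := Module.Flat.isBaseChange A V D B (Algebra.IsPushout.symm hpo).out
  refine flatAt_of_retracts q (i1.baseChange B) (p1.baseChange B) (i2.baseChange B) (p2.baseChange B) ?_ ?_ hN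
  · intro m
    have h1 : i1 ∘ₗ p1 + i2 ∘ₗ p2 = LinearMap.id := LinearMap.ext h
    have h2 := LinearMap.congr_fun (congrArg (LinearMap.baseChange B) h1) m
    rw [LinearMap.baseChange_add, LinearMap.baseChange_comp, LinearMap.baseChange_comp, LinearMap.baseChange_id] at h2
    exact h2
  · rw [Groth.Agent.Flat2C.FlatAtCriterion.flatAt_congr q (AlgebraTensorModule.rid D B B)]
    exact Groth.Agent.Flat2B.FlatCrit.flatAt_of_flat q B

end Push

section Main

attribute [local instance] opMod isCentralScalar_op Algebra.TensorProduct.rightAlgebra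

variable {A D : Type u} [CommRing A] [IsLocalRing A] [IsNoetherianRing A] [IsReduced A] [CommRing D] [IsLocalRing D]
  [Algebra A D] [IsLocalHom (algebraMap A D)] [Algebra.EssFiniteType A D] [Module.Flat A D]
  (N : Type u) [AddCommGroup N] [Module D N] [Module.Finite D N] [Module A N] [IsScalarTower A D N]

theorem flat_module_of_forall_dvr
    (H : ∀ (V : Type u) [CommRing V] [IsDomain V] [IsDiscreteValuationRing V] [Algebra A V]
      [IsLocalHom (algebraMap A V)] (Q : Ideal (D ⊗[A] V)) [Q.IsPrime],
      Q.comap (algebraMap D (D ⊗[A] V)) = maximalIdeal D →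
      Q.comap (algebraMap V (D ⊗[A] V)) = maximalIdeal V →
      FlatCA.FlatAt V Q ((D ⊗[A] V) ⊗[D] N)) : Module.Flat A N := by
  have htow : IsScalarTower A Dᵐᵒᵖ N := ⟨fun a d n => by
    obtain ⟨d, rfl⟩ := MulOpposite.op_surjective d
    rw [← MulOpposite.op_smul, op_smul_eq_smul, op_smul_eq_smul, smul_assoc]⟩
  let T := TrivSqZeroExt D N
  have h1 : IsLocalRing T := isLocalRing_triv N
  have h2 : Module.Finite D T := finite_triv N
  have h3 : IsScalarTower A D T := inferInstance
  have h4 : Algebra.EssFiniteType A T := Algebra.EssFiniteType.comp A D T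
  have h5 : IsLocalHom (algebraMap A T) := ⟨fun a ha => by
    rw [TrivSqZeroExt.isUnit_iff_isUnit_fst] at ha
    exact isUnit_of_map_unit (algebraMap A D) a ha⟩
  have key : Module.Flat A T := by
    refine Groth.Agent.Ega43.FlatDvrMain.flat_of_forall_dvr (A := A) (C := T) ?_
    intro V _ _ _ _ _ Q _ hQV hQT
    let θ : D ⊗[A] V →ₐ[A] V ⊗[A] T := Algebra.TensorProduct.lift
      ((Algebra.TensorProduct.includeRight : T →ₐ[A] V ⊗[A] T).comp (IsScalarTower.toAlgHom A D T))
      (Algebra.TensorProduct.includeLeft : V →ₐ[A] V ⊗[A] T) (fun _ _ => Commute.all _ _)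
    let algBW : Algebra (D ⊗[A] V) (V ⊗[A] T) := θ.toRingHom.toAlgebra
    let algDW : Algebra D (V ⊗[A] T) := ((algebraMap T (V ⊗[A] T)).comp (algebraMap D T)).toAlgebra
    have t1 : IsScalarTower D T (V ⊗[A] T) := IsScalarTower.of_algebraMap_eq (fun _ => rfl)
    have t2 : IsScalarTower D (D ⊗[A] V) (V ⊗[A] T) := IsScalarTower.of_algebraMap_eq (fun d => by
      change (1 : V) ⊗ₜ[A] algebraMap D T d = θ (d ⊗ₜ[A] 1)
      simp [θ])
    have t3 : IsScalarTower V (D ⊗[A] V) (V ⊗[A] T) := IsScalarTower.of_algebraMap_eq (fun v => by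
      change v ⊗ₜ[A] (1 : T) = θ (1 ⊗ₜ[A] v)
      simp [θ])
    let q1 := Q.comap (algebraMap (D ⊗[A] V) (V ⊗[A] T))
    have hq1D : q1.comap (algebraMap D (D ⊗[A] V)) = maximalIdeal D := by
      rw [Ideal.comap_comap, ← IsScalarTower.algebraMap_eq, IsScalarTower.algebraMap_eq D T (V ⊗[A] T),
        ← Ideal.comap_comap]
      have : Q.comap (algebraMap T (V ⊗[A] T)) = maximalIdeal T := hQT
      rw [this]
      ext d
      rw [Ideal.mem_comap, mem_maximalIdeal, mem_maximalIdeal, mem_nonunits_iff, mem_nonunits_iff,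
        TrivSqZeroExt.isUnit_iff_isUnit_fst]
      rfl
    have hq1V : q1.comap (algebraMap V (D ⊗[A] V)) = maximalIdeal V := by
      rw [Ideal.comap_comap, ← IsScalarTower.algebraMap_eq]
      exact hQV
    have hN := H V q1 hq1D hq1V
    have hW : FlatCA.FlatAt V q1 (V ⊗[A] T) :=
      flatAt_push (A := A) (D := D) (T := T) (V := V) (B := D ⊗[A] V) (W := V ⊗[A] T) N
        (Algebra.linearMap D T) (TrivSqZeroExt.fstHom D D N).toLinearMap (TrivSqZeroExt.inrHom D N)
        (TrivSqZeroExt.sndHom D N) (fun m => TrivSqZeroExt.inl_fst_add_inr_snd_eq m) q1 hN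
    have hQ : FlatCA.FlatAt V Q (V ⊗[A] T) :=
      Groth.Agent.Flat2B.FlatCrit.flatAt_of_flatAt_comap (V ⊗[A] T) q1 Q rfl hW
    have e := IsLocalizedModule.linearEquiv Q.primeCompl (LocalizedModule.mkLinearMap Q.primeCompl (V ⊗[A] T))
      (Algebra.linearMap (V ⊗[A] T) (Localization.AtPrime Q))
    have hQ' : Module.Flat V (LocalizedModule Q.primeCompl (V ⊗[A] T)) := hQ
    exact Module.Flat.of_linearEquiv (e.restrictScalars V).symm
  exact Module.Flat.of_retract (TrivSqZeroExt.inrHom D N |>.restrictScalars A) (TrivSqZeroExt.sndHom D N |>.restrictScalars A) (by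
    ext x
    simp)

end Main

end K966.DvrCrit
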