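import Groth.Agent.QGor.K966.FibGen
import Groth.Agent.Flat2A.AssBaseChange
import Groth.Agent.Ega4C.SkFlat
import Groth.Agent.S2938

/-!
# Base change of the depth of the local rings of the fibres
-/

set_option autoImplicit false
set_option linter.style.haveILetI false
set_option linter.unusedSectionVars false
universe u v w

open Groth.Agent.Localalg.Depth Groth.Agent.Localalg.Depth2 Groth.Agent.Localalg.Depth3 K966.DepthLocal
  K966.SerreBasic K966.DualPres K966.BijOff K966.FibFlat K966.FibSeq TensorProduct IsLocalRing K966.FibLoc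

namespace K966.FibBC

section Self

variable (A B : Type u) [CommRing A] [CommRing B] [Algebra A B] (q : Ideal B) [q.IsPrime]

theorem map_fibLocRing [IsLocalRing (EGA4.FibLocRing A B q)] :
    q.map (algebraMap B (EGA4.FibLocRing A B q)) = maximalIdeal (EGA4.FibLocRing A B q) := by
  rw [IsScalarTower.algebraMap_eq B (Localization.AtPrime q) (EGA4.FibLocRing A B q), ← Ideal.map_map,
    Localization.AtPrime.map_eq_maximalIdeal]
  exact IsLocalRing.map_maximalIdeal_of_surjective _ Ideal.Quotient.mk_surjective

theorem idealDepth_fibLocRing_self [IsLocalRing (EGA4.FibLocRing A B q)] :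
    LocCoh.idealDepth (q.map (algebraMap B (EGA4.FibLocRing A B q))) (EGA4.FibLocRing A B q) =
      LocCoh.depth (EGA4.FibLocRing A B q) (EGA4.FibLocRing A B q) := by
  rw [map_fibLocRing]
  rfl

theorem idealDepth_ctr (p : Ideal A) [p.IsPrime] (Q : Ideal (p.Fiber B)) [Q.IsPrime] (hq : Groth.Agent.Ega4C.FibreTower.ctr p Q = q) :
    LocCoh.idealDepth (q.map (algebraMap B (EGA4.FibLocRing A B q))) (EGA4.FibLocRing A B q) =
      LocCoh.depth (Localization.AtPrime Q) (Localization.AtPrime Q) := by
  subst hq
  have := Groth.Agent.Ega4C.SkFlat.isLocalRing_fibLocRing (B := A) (Groth.Agent.Ega4C.FibreTower.ctr p Q)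
  rw [idealDepth_fibLocRing_self]
  exact (Groth.Agent.Ega4C.FlatLocal.depth_self_congr (Groth.Agent.Ega4C.FibreTower.locFibreEquiv p Q)).symm

end Self

/-- Depth increases along flat local homomorphisms. -/
theorem depth_le_of_flat (R S : Type u) [CommRing R] [CommRing S] [IsNoetherianRing S]
    [IsLocalRing R] [IsLocalRing S] [Algebra R S] [IsLocalHom (algebraMap R S)] [Module.Flat R S] :
    LocCoh.depth R R ≤ LocCoh.depth S S := by
  have h1 := Groth.Agent.S2938.idealDepth_le_of_flat (B := S) (maximalIdeal R) R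
  rw [idealDepth_congr_equiv _ (TensorProduct.AlgebraTensorModule.rid R S S)] at h1
  refine h1.trans (idealDepth_mono ?_ S)
  exact ((local_hom_TFAE (algebraMap R S)).out 0 2 :).mp inferInstance

section BC

variable (A B A' B' : Type u) [CommRing A] [CommRing B] [CommRing A'] [CommRing B'] [Algebra A B]
    [Algebra A A'] [Algebra B B'] [Algebra A' B'] [Algebra A B'] [IsScalarTower A B B'] [IsScalarTower A A' B']
    [Algebra.IsPushout A B A' B'] [IsNoetherianRing B']

/-- The depth of the local rings of the fibres does not decrease under base change. -/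
theorem le_depth_baseChange (q' : Ideal B') [q'.IsPrime] (q : Ideal B) [q.IsPrime]
    (hq : q'.comap (algebraMap B B') = q) :
    LocCoh.idealDepth (q.map (algebraMap B (EGA4.FibLocRing A B q))) (EGA4.FibLocRing A B q) ≤
      LocCoh.idealDepth (q'.map (algebraMap B' (EGA4.FibLocRing A' B' q'))) (EGA4.FibLocRing A' B' q') := by
  let p' := q'.comap (algebraMap A' B')
  let p := p'.comap (algebraMap A A')
  have hl : p'.LiesOver p := ⟨rfl⟩
  obtain ⟨Q', hQ', hQq'⟩ := Groth.Agent.Ega4C.FibreTower.exists_prime_fibre p' q' rfl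
  let φ := Groth.Agent.Flat2A.AssBaseChange.fiberMap B B' p p'
  have hφ : φ.toRingHom.FaithfullyFlat := Groth.Agent.Flat2A.AssBaseChange.fiberMap_faithfullyFlat B B' p p'
  let Q : Ideal (p.Fiber B) := Q'.comap φ.toRingHom
  have hQ : Q.IsPrime := inferInstance
  have hQq : Groth.Agent.Ega4C.FibreTower.ctr p Q = q := by
    ext x
    have h1 : ∀ y : B', y ∈ q' ↔ ((1 : p'.ResidueField) ⊗ₜ[A'] y) ∈ Q' := fun y => by
      have := SetLike.ext_iff.mp hQq' y
      exact this.symm
    rw [← hq]
    change φ ((1 : p.ResidueField) ⊗ₜ[A] x) ∈ Q' ↔ algebraMap B B' x ∈ q'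
    rw [Groth.Agent.Flat2A.AssBaseChange.fiberMap_one_tmul B B' p p' x, h1]
  rw [idealDepth_ctr A B q p Q hQq, idealDepth_ctr A' B' q' p' Q' hQq']
  have : IsNoetherianRing (p'.Fiber B') := Groth.Agent.Ega4C.FibreTower.isNoetherianRing_fiber p'
  have : IsNoetherianRing (Localization.AtPrime Q') := inferInstance
  have hfl := RingHom.Flat.localRingHom hφ.flat Q' Q rfl
  let : Algebra (Localization.AtPrime Q) (Localization.AtPrime Q') := (Localization.localRingHom Q Q' φ.toRingHom rfl).toAlgebra
  have : Module.Flat (Localization.AtPrime Q) (Localization.AtPrime Q') := hfl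
  have : IsLocalHom (algebraMap (Localization.AtPrime Q) (Localization.AtPrime Q')) :=
    Localization.isLocalHom_localRingHom _ _ _ _
  exact depth_le_of_flat _ _

end BC

end K966.FibBC
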