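import Groth.Agent.QGor.K966.FibLoc
import Groth.Agent.QGor.K966.FibSeq

/-!
# Fibre stalks: generizations, base change, projective modules

* `fibLocModEquiv`: `E_q/pE_q` is the localization of `E/pE` at `q`.
* `le_idealDepth_fibLocMod`: the `J`-depth of a fibre stalk from the depths of the fibre stalks at the
  generizations which contain `J`.
-/

set_option autoImplicit false
set_option linter.style.haveILetI false
set_option linter.unusedSectionVars false
universe u v w

open Groth.Agent.Localalg.Depth Groth.Agent.Localalg.Depth2 Groth.Agent.Localalg.Depth3 K966.DepthLocal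
  K966.SerreBasic K966.DualPres K966.BijOff K966.FibFlat K966.FibSeq TensorProduct IsLocalRing K966.FibLoc

namespace K966.FibGen

section Equiv

variable (A B : Type u) [CommRing A] [CommRing B] [Algebra A B] (E : Type u) [AddCommGroup E] [Module B E]
  (q : Ideal B) [q.IsPrime]

theorem localized_ideal_smul_top (I : Ideal B) :
    (I • (⊤ : Submodule B E)).localized q.primeCompl =
      I.map (algebraMap B (Localization.AtPrime q)) •
        (⊤ : Submodule (Localization.AtPrime q) (LocalizedModule q.primeCompl E)) := by
  have h := Submodule.localized'_smul (S := Localization.AtPrime q) (p := q.primeCompl)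
    (f := LocalizedModule.mkLinearMap q.primeCompl E) (M' := (⊤ : Submodule B E)) I
  rw [Ideal.localized'_eq_map] at h
  rw [Submodule.localized, h, Submodule.localized'_top]

/-- `E_q / p E_q` is the localization of `E / pE` at `q`. -/
noncomputable def fibLocModEquiv (p : Ideal A) (hp : q.comap (algebraMap A B) = p) :
    EGA4.FibLocMod A B q E ≃ₗ[Localization.AtPrime q]
      LocalizedModule q.primeCompl (E ⧸ (p.map (algebraMap A B) • (⊤ : Submodule B E))) :=
  (Submodule.quotEquivOfEq _ _ (by
    rw [localized_ideal_smul_top, Ideal.map_map, ← IsScalarTower.algebraMap_eq, hp])).trans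
    (localizedQuotientEquiv q.primeCompl (p.map (algebraMap A B) • (⊤ : Submodule B E)))

end Equiv

section Gen

variable (A B : Type u) [CommRing A] [CommRing B] [IsNoetherianRing B] [Algebra A B]
  (E : Type u) [AddCommGroup E] [Module B E] [Module.Finite B E] (J : Ideal B) (q : Ideal B) [q.IsPrime]

/-- The `J`-depth of a fibre stalk from the depths of the fibre stalks at the generizations which
contain `J`. -/
theorem le_idealDepth_fibLocMod (n : ℕ)
    (h : ∀ Q : PrimeSpectrum B, J ≤ Q.asIdeal → Q.asIdeal ≤ q →
      Q.asIdeal.comap (algebraMap A B) = q.comap (algebraMap A B) →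
      (n : ℕ∞) ≤ LocCoh.depth (Localization.AtPrime Q.asIdeal) (EGA4.FibLocMod A B Q.asIdeal E)) :
    (n : ℕ∞) ≤ LocCoh.idealDepth (J.map (algebraMap B (Localization.AtPrime q))) (EGA4.FibLocMod A B q E) := by
  set p := q.comap (algebraMap A B) with hp
  let N := E ⧸ (p.map (algebraMap A B) • (⊤ : Submodule B E))
  rw [idealDepth_congr_equiv _ (fibLocModEquiv A B E q p rfl)]
  refine le_idealDepth_of_forall _ n _ (fun P hP hJP => ?_)
  rw [Groth.Agent.Ega4B.LocTransfer.depth_eq_of_isLocalization q.primeCompl
    (LocalizedModule.mkLinearMap q.primeCompl N) P]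
  set Q := P.comap (algebraMap B (Localization.AtPrime q)) with hQ
  have hJQ : J ≤ Q := Ideal.map_le_iff_le_comap.mp hJP
  have hQq : Q ≤ q := by
    intro x hx
    by_contra hxq
    have hu : IsUnit (algebraMap B (Localization.AtPrime q) x) :=
      IsLocalization.map_units (Localization.AtPrime q) (⟨x, hxq⟩ : q.primeCompl)
    exact hP.ne_top (Ideal.eq_top_of_isUnit_mem _ hx hu)
  have hle : Q.comap (algebraMap A B) ≤ p := Ideal.comap_mono hQq
  rcases eq_or_lt_of_le hle with heq | hlt
  · have h1 := h ⟨Q, inferInstance⟩ hJQ hQq heq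
    rw [LocCoh.depth, idealDepth_congr_equiv _ (fibLocModEquiv A B E Q p heq)] at h1
    exact h1
  · obtain ⟨a, ha, haQ⟩ := SetLike.exists_of_lt hlt
    have hsub : Subsingleton (LocalizedModule Q.primeCompl N) := by
      rw [LocalizedModule.subsingleton_iff]
      intro m
      refine ⟨algebraMap A B a, fun h' => haQ h', ?_⟩
      obtain ⟨m, rfl⟩ := Submodule.Quotient.mk_surjective _ m
      rw [← Submodule.Quotient.mk_smul, Submodule.Quotient.mk_eq_zero]
      exact Submodule.smul_mem_smul (Ideal.mem_map_of_mem _ ha) Submodule.mem_top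
    rw [LocCoh.depth, idealDepth_eq_top_of_subsingleton]
    exact le_top

end Gen

section Proj

variable (A B : Type u) [CommRing A] [CommRing B] [IsNoetherianRing B] [Algebra A B]
  (E : Type u) [AddCommGroup E] [Module B E] [Module.Finite B E] (q : Ideal B) [q.IsPrime]

/-- The depth of a free fibre stalk. -/
theorem le_idealDepth_fibLocMod_of_free (J : Ideal (Localization.AtPrime q)) (n : ℕ)
    (hfree : Module.Free (Localization.AtPrime q) (LocalizedModule q.primeCompl E))
    (h : (n : ℕ∞) ≤ LocCoh.idealDepth J (EGA4.FibLocRing A B q)) :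
    (n : ℕ∞) ≤ LocCoh.idealDepth J (EGA4.FibLocMod A B q E) := by
  let I := (q.comap (algebraMap A B)).map (algebraMap A (Localization.AtPrime q))
  let b := Module.Free.chooseBasis (Localization.AtPrime q) (LocalizedModule q.primeCompl E)
  let ι := Module.Free.ChooseBasisIndex (Localization.AtPrime q) (LocalizedModule q.primeCompl E)
  let : Fintype ι := Module.Free.ChooseBasisIndex.fintype _ _
  let e0 : LocalizedModule q.primeCompl E ≃ₗ[Localization.AtPrime q] (Fin (Fintype.card ι) → Localization.AtPrime q) :=
    (b.reindex (Fintype.equivFin ι)).equivFun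
  let e1 : EGA4.FibLocMod A B q E ≃ₗ[Localization.AtPrime q]
      (Localization.AtPrime q ⧸ I) ⊗[Localization.AtPrime q] (LocalizedModule q.primeCompl E) :=
    (TensorProduct.quotTensorEquivQuotSMul (LocalizedModule q.primeCompl E) I).symm
  let e2 := LinearEquiv.lTensor (Localization.AtPrime q ⧸ I) e0
  let e3 := TensorProduct.piScalarRight (Localization.AtPrime q) (Localization.AtPrime q)
    (Localization.AtPrime q ⧸ I) (Fin (Fintype.card ι))
  rw [idealDepth_congr_equiv J (e1 ≪≫ₗ e2 ≪≫ₗ e3)]
  exact h.trans (le_idealDepth_pi J _ _)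

end Proj

end K966.FibGen
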