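import Groth.Agent.QGor.K966.OffPoint
import Groth.Agent.Ega4B.SkLift

/-!
# `(S_k)` for fibre stalks
-/

set_option autoImplicit false
set_option linter.unusedSectionVars false
universe u v w

open K966.DualPres K966.SerreBasic K966.RegMap K966.RegBC K966.BijOff K966.DepthLocal K966.OffMap TensorProduct
  K966.ReflFree K966.BaseChange K966.FibGen K966.FibLoc K966.FibBC
  Groth.Agent.Localalg.Depth Groth.Agent.Localalg.Depth2

namespace K966.FibSk

section Iff

variable (A B : Type u) [CommRing A] [CommRing B] [Algebra A B]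
  (E : Type u) [AddCommGroup E] [Module B E] (q : Ideal B) [q.IsPrime]

theorem subsingleton_quot (p : Ideal A) (Q : Ideal B) [Q.IsPrime] (h : ¬ p ≤ Q.comap (algebraMap A B)) :
    Subsingleton (LocalizedModule Q.primeCompl (E ⧸ (p.map (algebraMap A B) • (⊤ : Submodule B E)))) := by
  obtain ⟨a, ha, haQ⟩ := Set.not_subset.mp h
  rw [LocalizedModule.subsingleton_iff]
  intro m
  refine ⟨algebraMap A B a, fun h' => haQ h', ?_⟩
  obtain ⟨m, rfl⟩ := Submodule.Quotient.mk_surjective _ m
  rw [← Submodule.Quotient.mk_smul, Submodule.Quotient.mk_eq_zero]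
  exact Submodule.smul_mem_smul (Ideal.mem_map_of_mem _ ha) Submodule.mem_top

/-- `(S_k)` for a fibre stalk in terms of the fibre stalks at the generizations in the fibre. -/
theorem hasSk_fibLocMod_iff (k : ℕ) :
    LocCoh.HasSk k (EGA4.FibLocRing A B q) (EGA4.FibLocMod A B q E) ↔
      ∀ Q : PrimeSpectrum B, Q.asIdeal ≤ q → Q.asIdeal.comap (algebraMap A B) = q.comap (algebraMap A B) →
        min (k : WithBot ℕ∞) (Module.supportDim (Localization.AtPrime Q.asIdeal) (EGA4.FibLocMod A B Q.asIdeal E)) ≤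
          ((LocCoh.depth (Localization.AtPrime Q.asIdeal) (EGA4.FibLocMod A B Q.asIdeal E) : ℕ∞) : WithBot ℕ∞) := by
  set p := q.comap (algebraMap A B) with hp
  have hs : Function.Surjective (algebraMap (Localization.AtPrime q) (EGA4.FibLocRing A B q)) :=
    Ideal.Quotient.mk_surjective
  have e := fibLocModEquiv A B E q p rfl
  have h1 : LocCoh.HasSk k (EGA4.FibLocRing A B q) (EGA4.FibLocMod A B q E) ↔
      EGA4.HasSkAt k B (E ⧸ (p.map (algebraMap A B) • (⊤ : Submodule B E))) q := by
    constructor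
    · intro h
      exact Groth.Agent.Ega4B.DepthBasic.hasSk_of_equiv k e
        (Groth.Agent.Ega4B.SkLift.hasSk_of_surjective _ hs _ k h)
    · intro h
      exact Groth.Agent.Ega4B.SkLift.hasSk_surjective_of_hasSk _ hs _ k
        (Groth.Agent.Ega4B.DepthBasic.hasSk_of_equiv k e.symm h)
  rw [h1, Groth.Agent.Ega4A.FlatAtPrime.hasSkAt_iff]
  constructor
  · intro h Q hQ hQp
    have h2 := h Q.asIdeal hQ
    have e' := fibLocModEquiv A B E Q.asIdeal p hQp
    rw [LocCoh.depth, idealDepth_congr_equiv _ e', Module.supportDim_eq_of_equiv e']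
    exact h2
  · intro h Q hQ hQq
    by_cases hQp : Q.comap (algebraMap A B) = p
    · have h2 := h ⟨Q, hQ⟩ hQq hQp
      have e' := fibLocModEquiv A B E Q p hQp
      rw [LocCoh.depth, idealDepth_congr_equiv _ e', Module.supportDim_eq_of_equiv e'] at h2
      exact h2
    · have : Subsingleton (LocalizedModule Q.primeCompl (E ⧸ (p.map (algebraMap A B) • (⊤ : Submodule B E)))) :=
        subsingleton_quot A B E p Q (fun h' => hQp (le_antisymm (Ideal.comap_mono hQq) h'))
      rw [Module.supportDim_eq_bot_of_subsingleton]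
      simp

/-- The fibre stalk of `B` is the fibre local ring. -/
noncomputable def fibLocModSelf : EGA4.FibLocMod A B q B ≃ₗ[Localization.AtPrime q] EGA4.FibLocRing A B q := by
  let J := (q.comap (algebraMap A B)).map (algebraMap A (Localization.AtPrime q))
  have h1 : (J • (⊤ : Submodule (Localization.AtPrime q) (LocalizedModule q.primeCompl B))).map
      (K966.OffPoint.locRingEquiv q).toLinearMap = J := by
    rw [Submodule.map_smul'', Submodule.map_top, LinearEquiv.range, smul_eq_mul, Ideal.mul_top]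
  exact Submodule.Quotient.equiv _ _ (K966.OffPoint.locRingEquiv q) h1

end Iff

section Depth

variable (A B : Type u) [CommRing A] [CommRing B] [IsNoetherianRing B] [Algebra A B]
  (E : Type u) [AddCommGroup E] [Module B E] [Module.Finite B E] (J : Ideal B) (q : Ideal B) [q.IsPrime]

/-- Depth of a fibre stalk where the module is free. -/
theorem idealDepth_le_fibLocMod_of_free (J : Ideal (Localization.AtPrime q))
    (hfree : Module.Free (Localization.AtPrime q) (LocalizedModule q.primeCompl E)) :
    LocCoh.idealDepth J (EGA4.FibLocRing A B q) ≤ LocCoh.idealDepth J (EGA4.FibLocMod A B q E) := by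
  rcases eq_or_ne (LocCoh.idealDepth J (EGA4.FibLocRing A B q)) ⊤ with h | h
  · have h1 : ∀ n : ℕ, (n : ℕ∞) ≤ LocCoh.idealDepth J (EGA4.FibLocMod A B q E) := fun n =>
      le_idealDepth_fibLocMod_of_free A B E q J n hfree (by rw [h]; exact le_top)
    rw [ENat.eq_top_iff_forall_ge.mpr h1]
    exact le_top
  · obtain ⟨n, hn⟩ := ENat.ne_top_iff_exists.mp h
    rw [← hn]
    exact le_idealDepth_fibLocMod_of_free A B E q J n hfree hn.le

/-- The depths of the fibre stalks at the generizations which contain `J`. -/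
theorem le_depth_of_idealDepth_fibLocMod (n : ℕ)
    (h : (n : ℕ∞) ≤ LocCoh.idealDepth (J.map (algebraMap B (Localization.AtPrime q))) (EGA4.FibLocMod A B q E))
    (Q : Ideal B) [hQ : Q.IsPrime] (hJQ : J ≤ Q) (hQq : Q ≤ q)
    (hQp : Q.comap (algebraMap A B) = q.comap (algebraMap A B)) :
    (n : ℕ∞) ≤ LocCoh.depth (Localization.AtPrime Q) (EGA4.FibLocMod A B Q E) := by
  set p := q.comap (algebraMap A B) with hp
  let N := E ⧸ (p.map (algebraMap A B) • (⊤ : Submodule B E))
  rw [idealDepth_congr_equiv _ (fibLocModEquiv A B E q p rfl), le_idealDepth_iff_forall] at h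
  obtain ⟨P, hP, hPQ⟩ := Groth.Agent.Ega4A.RkBasic.exists_prime_comap_eq q hQq
  have h1 := h P (by
    rw [Ideal.map_le_iff_le_comap, hPQ]
    exact hJQ)
  rw [Groth.Agent.Ega4B.LocTransfer.depth_eq_of_isLocalization q.primeCompl
    (LocalizedModule.mkLinearMap q.primeCompl N) P] at h1
  subst hPQ
  rw [LocCoh.depth, idealDepth_congr_equiv _ (fibLocModEquiv A B E _ p hQp)]
  exact h1

theorem supportDim_fibLocRing (q : Ideal B) [q.IsPrime] : Module.supportDim (Localization.AtPrime q) (EGA4.FibLocRing A B q) =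
    ringKrullDim (EGA4.FibLocRing A B q) :=
  Module.supportDim_quotient_eq_ringKrullDim _

theorem supportDim_fibLocMod_le (q : Ideal B) [q.IsPrime] :
    Module.supportDim (Localization.AtPrime q) (EGA4.FibLocMod A B q E) ≤ ringKrullDim (EGA4.FibLocRing A B q) := by
  rw [← supportDim_fibLocRing A B q]
  refine supportDim_mono ?_
  have : Module.Finite (Localization.AtPrime q) (LocalizedModule q.primeCompl E) :=
    Module.Finite.of_isLocalizedModule q.primeCompl (LocalizedModule.mkLinearMap q.primeCompl E)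
  rw [Module.support_quotient]
  intro P hP
  rw [Module.support_eq_zeroLocus, Ideal.annihilator_quotient]
  exact hP.2

theorem supportDim_fibLocMod_eq (q : Ideal B) [q.IsPrime]
    (h : Module.annihilator (Localization.AtPrime q) (LocalizedModule q.primeCompl E) = ⊥) :
    Module.supportDim (Localization.AtPrime q) (EGA4.FibLocMod A B q E) = ringKrullDim (EGA4.FibLocRing A B q) := by
  refine le_antisymm (supportDim_fibLocMod_le A B E q) ?_
  rw [← supportDim_fibLocRing A B q]
  refine supportDim_mono ?_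
  have : Module.Finite (Localization.AtPrime q) (LocalizedModule q.primeCompl E) :=
    Module.Finite.of_isLocalizedModule q.primeCompl (LocalizedModule.mkLinearMap q.primeCompl E)
  rw [Module.support_quotient, Module.support_eq_zeroLocus, Ideal.annihilator_quotient]
  intro P hP
  refine ⟨?_, hP⟩
  rw [Module.support_eq_zeroLocus, h]
  simp

/-- From `(S₂)` to depth. -/
theorem two_le_idealDepth_of_hasSk
    (hK : ∀ Q : PrimeSpectrum B, J ≤ Q.asIdeal → Q.asIdeal ≤ q →
      Q.asIdeal.comap (algebraMap A B) = q.comap (algebraMap A B) →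
      Subsingleton (LocalizedModule Q.asIdeal.primeCompl E) ∨
        Module.annihilator (Localization.AtPrime Q.asIdeal) (LocalizedModule Q.asIdeal.primeCompl E) = ⊥)
    (hdim : ∀ Q : PrimeSpectrum B, J ≤ Q.asIdeal → Q.asIdeal ≤ q →
      Q.asIdeal.comap (algebraMap A B) = q.comap (algebraMap A B) →
      (2 : WithBot ℕ∞) ≤ ringKrullDim (EGA4.FibLocRing A B Q.asIdeal))
    (h : LocCoh.HasSk 2 (EGA4.FibLocRing A B q) (EGA4.FibLocMod A B q E)) :
    2 ≤ LocCoh.idealDepth (J.map (algebraMap B (Localization.AtPrime q))) (EGA4.FibLocMod A B q E) := by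
  rw [hasSk_fibLocMod_iff] at h
  refine le_idealDepth_fibLocMod A B E J q 2 (fun Q hJQ hQq hQp => ?_)
  rcases hK Q hJQ hQq hQp with h1 | h1
  · have : Subsingleton (EGA4.FibLocMod A B Q.asIdeal E) := inferInstance
    rw [LocCoh.depth, idealDepth_eq_top_of_subsingleton]
    exact le_top
  · have h2 := h Q hQq hQp
    rw [supportDim_fibLocMod_eq A B E Q.asIdeal h1] at h2
    have h3 : min ((2 : ℕ) : WithBot ℕ∞) (ringKrullDim (EGA4.FibLocRing A B Q.asIdeal)) = 2 :=
      min_eq_left (hdim Q hJQ hQq hQp)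
    rw [h3] at h2
    exact WithBot.coe_le_coe.mp h2

/-- From depth to `(S₂)`. -/
theorem hasSk_of_two_le_idealDepth
    (hfree : ∀ Q : PrimeSpectrum B, ¬ J ≤ Q.asIdeal → Q.asIdeal ≤ q →
      Module.Free (Localization.AtPrime Q.asIdeal) (LocalizedModule Q.asIdeal.primeCompl E))
    (hS : LocCoh.HasSk 2 (EGA4.FibLocRing A B q) (EGA4.FibLocRing A B q))
    (h : 2 ≤ LocCoh.idealDepth (J.map (algebraMap B (Localization.AtPrime q))) (EGA4.FibLocMod A B q E)) :
    LocCoh.HasSk 2 (EGA4.FibLocRing A B q) (EGA4.FibLocMod A B q E) := by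
  have hS' : LocCoh.HasSk 2 (EGA4.FibLocRing A B q) (EGA4.FibLocMod A B q B) := by
    have hs : Function.Surjective (algebraMap (Localization.AtPrime q) (EGA4.FibLocRing A B q)) :=
      Ideal.Quotient.mk_surjective
    exact Groth.Agent.Ega4B.SkLift.hasSk_surjective_of_hasSk _ hs _ 2
      (Groth.Agent.Ega4B.DepthBasic.hasSk_of_equiv 2 (fibLocModSelf A B q).symm
        (Groth.Agent.Ega4B.SkLift.hasSk_of_surjective _ hs _ 2 hS))
  rw [hasSk_fibLocMod_iff] at hS' ⊢
  intro Q hQq hQp
  by_cases hJQ : J ≤ Q.asIdeal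
  · have h1 := le_depth_of_idealDepth_fibLocMod A B E J q 2 h Q.asIdeal hJQ hQq hQp
    exact (min_le_left _ _).trans (WithBot.coe_le_coe.mpr h1)
  · have h1 := hS' Q hQq hQp
    have e := fibLocModSelf A B Q.asIdeal
    rw [Module.supportDim_eq_of_equiv e, LocCoh.depth, idealDepth_congr_equiv _ e,
      supportDim_fibLocRing] at h1
    refine (min_le_min_left _ (supportDim_fibLocMod_le A B E Q.asIdeal)).trans (h1.trans ?_)
    exact WithBot.coe_le_coe.mpr (idealDepth_le_fibLocMod_of_free A B E Q.asIdeal _ (hfree Q hJQ hQq))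

end Depth

end K966.FibSk
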