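import Groth.Agent.QGor.K966.DepthLocal
import Groth.Agent.S2938
import Mathlib.RingTheory.Ideal.KrullsHeightTheorem
import Mathlib.RingTheory.Flat.Localization
import Mathlib.RingTheory.RingHom.Flat
import Mathlib.RingTheory.Ideal.GoingDown
import Mathlib.RingTheory.Flat.FaithfullyFlat.Algebra

/-!
# Height and depth along ideals under flat base change
-/

set_option autoImplicit false
universe u v w

open Groth.Agent.Localalg.Depth Groth.Agent.Localalg.Depth2 Groth.Agent.Localalg.Depth3 K966.DepthLocal
  TensorProduct IsLocalRing

namespace K966.FlatBC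

variable {A B : Type u} [CommRing A] [CommRing B] [IsNoetherianRing A] [IsNoetherianRing B] [Algebra A B]
  [Module.Flat A B]

/-- Over every prime of the image there is a prime of the same height. -/
theorem exists_height_eq (p : Ideal A) [p.IsPrime] (q : Ideal B) [q.IsPrime]
    (hq : q.comap (algebraMap A B) = p) :
    ∃ (q' : Ideal B) (_ : q'.IsPrime), q'.comap (algebraMap A B) = p ∧ q' ≤ q ∧ q'.height = p.height := by
  have hle : p.map (algebraMap A B) ≤ q := by rw [Ideal.map_le_iff_le_comap, hq]
  obtain ⟨q', hq', hq'q⟩ := Ideal.exists_minimalPrimes_le hle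
  have hprime : q'.IsPrime := hq'.1.1
  have hcomap : q'.comap (algebraMap A B) = p := by
    apply le_antisymm
    · rw [← hq]
      exact Ideal.comap_mono hq'q
    · rw [← Ideal.map_le_iff_le_comap]
      exact hq'.1.2
  refine ⟨q', hprime, hcomap, hq'q, ?_⟩
  have : q'.LiesOver p := ⟨hcomap.symm⟩
  rw [Ideal.height_eq_height_add_of_liesOver_of_hasGoingDown p q']
  have h1 : (q'.map (Ideal.Quotient.mk (p.map (algebraMap A B)))).IsPrime :=
    Ideal.map_isPrime_of_surjective Ideal.Quotient.mk_surjective (by rw [Ideal.mk_ker]; exact hq'.1.2)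
  have h2 : (q'.map (Ideal.Quotient.mk (p.map (algebraMap A B)))).height = 0 := by
    rw [Ideal.height_eq_zero_iff]
    refine ⟨⟨h1, bot_le⟩, ?_⟩
    rintro P ⟨hP, -⟩ hPle
    have h3 : P.comap (Ideal.Quotient.mk (p.map (algebraMap A B))) ≤ q' := by
      have := Ideal.comap_mono (f := Ideal.Quotient.mk (p.map (algebraMap A B))) hPle
      rwa [Ideal.comap_map_of_surjective' _ Ideal.Quotient.mk_surjective, Ideal.mk_ker,
        sup_eq_left.mpr hq'.1.2] at this
    have h4 : q' ≤ P.comap (Ideal.Quotient.mk (p.map (algebraMap A B))) :=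
      hq'.2 ⟨inferInstance, fun x hx => by
        rw [Ideal.mem_comap, Ideal.Quotient.eq_zero_iff_mem.mpr hx]
        exact P.zero_mem⟩ h3
    exact Ideal.map_le_iff_le_comap.mpr h4
  rw [h2, add_zero]

variable (I : Ideal A)
    (hI : ∀ p : PrimeSpectrum A, I ≤ p.asIdeal → ∃ q : PrimeSpectrum B, q.asIdeal.comap (algebraMap A B) = p.asIdeal)

theorem height_le_height_map : I.height ≤ (I.map (algebraMap A B)).height := by
  rw [Ideal.height_eq_inf_minimalPrimes (I := I.map (algebraMap A B))]
  refine le_iInf₂ fun q hq => ?_
  have : q.IsPrime := hq.1.1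
  have : q.LiesOver (q.comap (algebraMap A B)) := ⟨rfl⟩
  rw [Ideal.height_eq_height_add_of_liesOver_of_hasGoingDown (q.comap (algebraMap A B)) q]
  exact (Ideal.height_mono (Ideal.map_le_iff_le_comap.mp hq.1.2)).trans le_self_add

include hI in
theorem height_map_eq : (I.map (algebraMap A B)).height = I.height := by
  apply le_antisymm _ (height_le_height_map I)
  rw [Ideal.height_eq_inf_minimalPrimes (I := I)]
  refine le_iInf₂ fun p hp => ?_
  have : p.IsPrime := hp.1.1
  obtain ⟨q, hq⟩ := hI ⟨p, this⟩ hp.1.2
  obtain ⟨q', _, hq', -, hh⟩ := exists_height_eq p q.asIdeal hq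
  rw [← hh]
  apply Ideal.height_mono
  rw [Ideal.map_le_iff_le_comap, hq']
  exact hp.1.2

/-- The depth of a localized module is that of the stalk of the base change at a prime above, along the
extended maximal ideal. -/
theorem idealDepth_atPrime (q : Ideal B) [q.IsPrime] (G : Type u) [AddCommGroup G] [Module A G]
    [Module.Finite A G] :
    LocCoh.idealDepth ((q.comap (algebraMap A B)).map (algebraMap A (Localization.AtPrime q)))
      (Localization.AtPrime q ⊗[A] G) =
    LocCoh.depth (Localization.AtPrime (q.comap (algebraMap A B)))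
      (LocalizedModule (q.comap (algebraMap A B)).primeCompl G) := by
  let p := q.comap (algebraMap A B)
  let _ : Algebra (Localization.AtPrime p) (Localization.AtPrime q) :=
    (Localization.localRingHom p q (algebraMap A B) rfl).toAlgebra
  have halg : algebraMap (Localization.AtPrime p) (Localization.AtPrime q) =
    Localization.localRingHom p q (algebraMap A B) rfl := rfl
  have tow : IsScalarTower A (Localization.AtPrime p) (Localization.AtPrime q) :=
    IsScalarTower.of_algebraMap_eq (fun x => by
      rw [halg, Localization.localRingHom_to_map, ← IsScalarTower.algebraMap_apply])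
  have : IsNoetherianRing (Localization.AtPrime p) :=
    IsLocalization.isNoetherianRing p.primeCompl _ inferInstance
  have : IsNoetherianRing (Localization.AtPrime q) :=
    IsLocalization.isNoetherianRing q.primeCompl _ inferInstance
  have hfl : Module.Flat A (Localization.AtPrime q) := Module.Flat.trans A B _
  have hfl' : Module.Flat (Localization.AtPrime p) (Localization.AtPrime q) :=
    (Module.flat_iff_of_isLocalization (Localization.AtPrime p) p.primeCompl _).mpr hfl
  have hloc : IsLocalHom (algebraMap (Localization.AtPrime p) (Localization.AtPrime q)) := by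
    rw [halg]; exact Localization.isLocalHom_localRingHom _ _ _ _
  have hff : Module.FaithfullyFlat (Localization.AtPrime p) (Localization.AtPrime q) :=
    Module.FaithfullyFlat.of_flat_of_isLocalHom
  have h1 := (Groth.Agent.S2938.result (Localization.AtPrime p) (Localization.AtPrime q)
    (maximalIdeal (Localization.AtPrime p)) (LocalizedModule p.primeCompl G)).2 hff
  have e1 : Localization.AtPrime p ⊗[A] G ≃ₗ[Localization.AtPrime p] LocalizedModule p.primeCompl G :=
    (IsLocalizedModule.isBaseChange p.primeCompl (Localization.AtPrime p)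
      (LocalizedModule.mkLinearMap p.primeCompl G)).equiv
  let e2 : Localization.AtPrime q ⊗[Localization.AtPrime p] (Localization.AtPrime p ⊗[A] G)
      ≃ₗ[Localization.AtPrime q] Localization.AtPrime q ⊗[A] G :=
    AlgebraTensorModule.cancelBaseChange A (Localization.AtPrime p) (Localization.AtPrime q) _ G
  let e3 : Localization.AtPrime q ⊗[Localization.AtPrime p] (Localization.AtPrime p ⊗[A] G)
      ≃ₗ[Localization.AtPrime q] Localization.AtPrime q ⊗[Localization.AtPrime p] LocalizedModule p.primeCompl G :=
    AlgebraTensorModule.congr (LinearEquiv.refl _ _) e1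
  rw [idealDepth_congr_equiv _ (e2.symm ≪≫ₗ e3)]
  have h2 : (q.comap (algebraMap A B)).map (algebraMap A (Localization.AtPrime q)) =
      (maximalIdeal (Localization.AtPrime p)).map (algebraMap (Localization.AtPrime p) (Localization.AtPrime q)) := by
    rw [← Localization.AtPrime.map_eq_maximalIdeal, Ideal.map_map, ← IsScalarTower.algebraMap_eq]
  rw [h2]
  exact h1

include hI in
theorem idealDepth_map_eq (G : Type u) [AddCommGroup G] [Module A G] [Module.Finite A G] :
    LocCoh.idealDepth (I.map (algebraMap A B)) (B ⊗[A] G) = LocCoh.idealDepth I G := by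
  apply le_antisymm _ (Groth.Agent.S2938.idealDepth_le_of_flat I G)
  refine ENat.forall_natCast_le_iff_le.mp fun n hn => ?_
  refine le_idealDepth_of_forall I n G fun p _ hIp => ?_
  obtain ⟨q, hq⟩ := hI ⟨p, inferInstance⟩ hIp
  simp only at hq
  subst hq
  have : IsNoetherianRing (Localization.AtPrime q.asIdeal) :=
    IsLocalization.isNoetherianRing q.asIdeal.primeCompl _ inferInstance
  rw [← idealDepth_atPrime q.asIdeal G]
  refine hn.trans ((Groth.Agent.S2938.idealDepth_le_of_flat (B := Localization.AtPrime q.asIdeal)
    (I.map (algebraMap A B)) (B ⊗[A] G)).trans ?_)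
  rw [idealDepth_congr_equiv _ (AlgebraTensorModule.cancelBaseChange A B (Localization.AtPrime q.asIdeal)
    (Localization.AtPrime q.asIdeal) G)]
  refine idealDepth_mono ?_ _
  rw [Ideal.map_map, ← IsScalarTower.algebraMap_eq]
  exact Ideal.map_mono hIp

end K966.FlatBC
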