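import Groth.Agent.QGor.K966.FibSeq

/-!
# The local form of the key proposition

`0 → F → E0 → E1 → G → 0` exact, `E0`, `E1` flat, `G` flat off `V(J)`, `depth_J (E0/m) ≥ 2`,
`depth_J (E1/m) ≥ 1`.
-/

set_option autoImplicit false
universe u v w

open Groth.Agent.Localalg.Depth Groth.Agent.Localalg.Depth2 Groth.Agent.Localalg.Depth3 K966.DepthLocal
  K966.SerreBasic K966.DualPres K966.BijOff K966.FibFlat K966.FibSeq TensorProduct IsLocalRing

namespace K966.FourTerm

variable {A B : Type u} [CommRing A] [CommRing B]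
    [IsNoetherianRing A] [IsNoetherianRing B] [IsLocalRing A] [IsLocalRing B] [Algebra A B]
    [IsLocalHom (algebraMap A B)] (J : Ideal B)
    {F E0 E1 G : Type u} [AddCommGroup F] [Module B F] [Module A F] [IsScalarTower A B F] [Module.Finite B F]
    [AddCommGroup E0] [Module B E0] [Module A E0] [IsScalarTower A B E0] [Module.Finite B E0] [Module.Flat A E0]
    [AddCommGroup E1] [Module B E1] [Module A E1] [IsScalarTower A B E1] [Module.Finite B E1] [Module.Flat A E1]
    [AddCommGroup G] [Module B G] [Module A G] [IsScalarTower A B G] [Module.Finite B G]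
    (f : F →ₗ[B] E0) (u : E0 →ₗ[B] E1) (v : E1 →ₗ[B] G)
    (hf : Function.Injective f) (hfu : Function.Exact f u) (huv : Function.Exact u v) (hv : Function.Surjective v)
    (hGU : ∀ q : PrimeSpectrum B, ¬ J ≤ q.asIdeal → FlatCA.FlatAt A q.asIdeal G)
    (h0 : 2 ≤ LocCoh.idealDepth J (EGA4.FibMod A B E0)) (h1 : 1 ≤ LocCoh.idealDepth J (EGA4.FibMod A B E1))

omit [IsLocalRing B] [IsLocalHom (algebraMap A B)] [Module.Finite B G] in
include f u v hf hfu huv hv h0 h1 in
/-- `G` flat: all the infinitesimal fibres of `F` have `J`-depth at least two. -/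
theorem two_le_of_flat (hG : Module.Flat A G) (n : ℕ) :
    2 ≤ LocCoh.idealDepth J (F ⧸ ((EGA4.mB A B) ^ n • (⊤ : Submodule B F))) := by
  rw [idealDepth_congr_equiv J (quotPowEquiv (A := A) F n)]
  obtain ⟨h2, h3⟩ := tensor_exact f u v hf hfu huv hv hG (A ⧸ maximalIdeal A ^ n)
  have ha : maximalIdeal A ^ n ≤ Module.annihilator A (A ⧸ maximalIdeal A ^ n) := by
    rw [Ideal.annihilator_quotient]
  exact two_le_idealDepth_of_exact J _ _ h2 h3
    (h0.trans (le_idealDepth_tensor_of_nilp (A := A) J E0 n _ ha))
    (h1.trans (le_idealDepth_tensor_of_nilp (A := A) J E1 n _ ha))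

omit [IsNoetherianRing A] [Module.Finite B E1] [Module.Finite B G] in
include f u v hf hfu huv hv hGU h0 in
/-- If the closed fibre of `F` has `J`-depth at least two, then `G` is flat. -/
theorem flat_of_two_le (hF : 2 ≤ LocCoh.idealDepth J (EGA4.FibMod A B F)) : Module.Flat A G := by
  have hU : ∀ q : PrimeSpectrum B, ¬ J ≤ q.asIdeal → FlatCA.FlatAt A q.asIdeal (LinearMap.range u) :=
    fun q hq => flatAt_range u v huv hv q.asIdeal
      (Groth.Agent.Flat2B.FlatCrit.flatAt_of_flat q.asIdeal E1) (hGU q hq)
  have hF1 : 1 ≤ LocCoh.idealDepth J (EGA4.FibMod A B F) := le_trans (by norm_num) hF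
  have hr : Module.Flat A (LinearMap.range u) :=
    flat_coker_of_idealDepth J f u.rangeRestrict hf (exact_rangeRestrict f u hfu)
      u.surjective_rangeRestrict hU hF1
  -- the depth of the closed fibre of the image
  have h2 := injective_fib J f u.rangeRestrict hf (exact_rangeRestrict f u hfu)
      u.surjective_rangeRestrict hU hF1
  have h3 : Function.Exact (AlgebraTensorModule.rTensor A (A ⧸ maximalIdeal A) f)
      (AlgebraTensorModule.rTensor A (A ⧸ maximalIdeal A) u.rangeRestrict) :=
    rTensor_exact (A ⧸ maximalIdeal A) (f := f.restrictScalars A)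
      (g := u.rangeRestrict.restrictScalars A) (exact_rangeRestrict f u hfu) u.surjective_rangeRestrict
  have h4 : Function.Surjective (AlgebraTensorModule.rTensor A (A ⧸ maximalIdeal A) u.rangeRestrict) :=
    LinearMap.rTensor_surjective _ (g := u.rangeRestrict.restrictScalars A) u.surjective_rangeRestrict
  have h5 : 1 ≤ LocCoh.idealDepth J (EGA4.FibMod A B (LinearMap.range u)) := by
    rw [idealDepth_congr_equiv J (Groth.Agent.S2498.quotEquiv (A := A) (B := B)
      (LinearMap.range u) (maximalIdeal A))]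
    refine le_trans (le_min ?_ ?_) (idealDepth_shortExact₃ J _ _ h2 h4 h3)
    · rw [← idealDepth_congr_equiv J (Groth.Agent.S2498.quotEquiv (A := A) (B := B) E0 (maximalIdeal A))]
      exact le_trans (by norm_num) h0
    · rw [← idealDepth_congr_equiv J (Groth.Agent.S2498.quotEquiv (A := A) (B := B) F (maximalIdeal A))]
      calc (1 : ℕ∞) = 2 - 1 := rfl
        _ ≤ _ := tsub_le_tsub_right hF 1
  exact flat_coker_of_idealDepth J (LinearMap.range u).subtype v (Submodule.subtype_injective _)
    (exact_range_subtype u v huv) hv hGU h5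

end K966.FourTerm
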