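import Groth.Agent.QGor.K966.DvrTest
import Groth.Agent.QGor.K966.SkBC
import Groth.Agent.S1229

/-!
# The flattening ideal over a Henselian base, tested on base changes of a finitely generated algebra
-/

set_option autoImplicit false
set_option linter.unusedSectionVars false
universe u v w

open TensorProduct IsLocalRing

namespace K966.HensTest

section Loc

variable {V C' W : Type u} [CommRing V] [CommRing C'] [CommRing W] [Algebra V C'] [Algebra V W] [Algebra C' W]
  [IsScalarTower V C' W]
  {M M' : Type u} [AddCommGroup M] [Module C' M] [Module V M] [IsScalarTower V C' M]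
  [AddCommGroup M'] [Module W M'] [Module C' M'] [Module V M'] [IsScalarTower C' W M'] [IsScalarTower V W M']
  [IsScalarTower V C' M']

/-- Flatness at a prime of a localization. -/
theorem flatAt_loc_iff (S : Submonoid C') (g : M →ₗ[C'] M') [IsLocalizedModule S g]
    (hW : ∀ a : W, ∃ s ∈ S, ∃ r : C', a * algebraMap C' W s = algebraMap C' W r)
    (Q : Ideal W) [Q.IsPrime] (hS : ∀ s ∈ S, algebraMap C' W s ∉ Q) :
    FlatCA.FlatAt V (Q.comap (algebraMap C' W)) M ↔ FlatCA.FlatAt V Q M' := by
  let l := LocalizedModule.mkLinearMap Q.primeCompl M'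
  have H := Groth.Agent.Ega4B.LocTransfer.isLocalizedModule_comp (R := C') (A := W)
    (N' := LocalizedModule Q.primeCompl M') g Q (fun a => by
      obtain ⟨s, hs, r, hr⟩ := hW a
      exact ⟨s, r, hS s hs, hr⟩) (fun m' => by
      obtain ⟨⟨m, s⟩, h⟩ := IsLocalizedModule.surj S g m'
      exact ⟨s, hS s s.2, m, h.symm⟩) (fun m hm => by
      rw [IsLocalizedModule.eq_zero_iff S g] at hm
      obtain ⟨s, hs⟩ := hm
      exact ⟨s, hS s s.2, hs⟩) l
  let e := IsLocalizedModule.linearEquiv (Q.comap (algebraMap C' W)).primeCompl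
    (LocalizedModule.mkLinearMap (Q.comap (algebraMap C' W)).primeCompl M)
    ((l.restrictScalars C').comp g)
  constructor
  · intro h
    have h' : Module.Flat V (LocalizedModule (Q.comap (algebraMap C' W)).primeCompl M) := h
    exact Module.Flat.of_linearEquiv (e.restrictScalars V).symm
  · intro h
    have h' : Module.Flat V (LocalizedModule Q.primeCompl M') := h
    exact Module.Flat.of_linearEquiv (e.restrictScalars V)

end Loc

section Main

variable {R C : Type u} [CommRing R] [HenselianLocalRing R] [CommRing C] [Algebra R C] [Algebra.FiniteType R C]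
  (n : Ideal C) [n.IsPrime] (hn : (maximalIdeal R).map (algebraMap R C) ≤ n)
  (N : Type u) [AddCommGroup N] [Module C N] [Module.Finite C N] [Module R N] [IsScalarTower R C N]

include hn in
theorem exists_ideal : ∃ 𝔞 : Ideal R, ∀ (R' : Type u) [CommRing R'] [IsLocalRing R'] [Algebra R R']
    [IsLocalHom (algebraMap R R')] (C' : Type u) [CommRing C'] [Algebra C C'] [Algebra R' C'] [Algebra R C']
    [IsScalarTower R C C'] [IsScalarTower R R' C'] [Algebra.IsPushout R C R' C'],
    (∀ q' : PrimeSpectrum C', q'.asIdeal.comap (algebraMap C C') = n →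
      (maximalIdeal R').map (algebraMap R' C') ≤ q'.asIdeal →
      FlatCA.FlatAt R' q'.asIdeal (C' ⊗[C] N)) ↔ 𝔞.map (algebraMap R R') = ⊥ := by
  have h1 : IsLocalHom (algebraMap R (Localization.AtPrime n)) := by
    refine ((local_hom_TFAE (algebraMap R (Localization.AtPrime n))).out 0 2 :).mpr ?_
    rw [IsScalarTower.algebraMap_eq R C (Localization.AtPrime n), ← Ideal.map_map,
      ← Localization.AtPrime.map_eq_maximalIdeal]
    exact Ideal.map_mono hn
  have h2 : Algebra.EssFiniteType C (Localization.AtPrime n) := Algebra.EssFiniteType.of_isLocalization _ n.primeCompl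
  have h3 : Algebra.EssFiniteType R (Localization.AtPrime n) := Algebra.EssFiniteType.comp R C _
  have h5 : Module.Finite (Localization.AtPrime n) (LocalizedModule n.primeCompl N) :=
    Module.Finite.of_isLocalizedModule n.primeCompl (LocalizedModule.mkLinearMap n.primeCompl N)
  obtain ⟨I, hI, -⟩ := Groth.Agent.S1229.result (A := R) (B := Localization.AtPrime n) (LocalizedModule n.primeCompl N)
  refine ⟨I, ?_⟩
  intro R' _ _ _ _ C' _ _ _ _ _ _ hpo
  let W := Localization (Algebra.algebraMapSubmonoid C' n.primeCompl)
  have tw : IsScalarTower C (Localization.AtPrime n) W :=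
    inferInstanceAs (IsScalarTower C (Localization n.primeCompl)
      (Localization (Algebra.algebraMapSubmonoid C' n.primeCompl)))
  have tw2 : IsScalarTower R (Localization.AtPrime n) W := IsScalarTower.of_algebraMap_eq (fun x => by
    rw [IsScalarTower.algebraMap_apply R C (Localization.AtPrime n), ← IsScalarTower.algebraMap_apply C _ W,
      IsScalarTower.algebraMap_apply C C' W, ← IsScalarTower.algebraMap_apply R C C',
      ← IsScalarTower.algebraMap_apply R C' W])
  have hpo1 : Algebra.IsPushout C (Localization.AtPrime n) C' W :=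
    Algebra.IsPushout.symm (Algebra.isPushout_of_isLocalization n.primeCompl (Localization.AtPrime n) (T := C') W)
  have hpo2 : Algebra.IsPushout R (Localization.AtPrime n) R' W :=
    (Algebra.IsPushout.comp_iff R R' C' (S := C) (T := Localization.AtPrime n) (T' := W)).mpr hpo1
  have hIW := hI R' W (W ⊗[Localization.AtPrime n] LocalizedModule n.primeCompl N)
    (TensorProduct.mk (Localization.AtPrime n) W (LocalizedModule n.primeCompl N) 1)
    (TensorProduct.isBaseChange _ _ _)
  rw [← hIW]
  -- comparison at a prime `Q` of `W`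
  have key : ∀ (Q : Ideal W) [Q.IsPrime], FlatCA.FlatAt R' (Q.comap (algebraMap C' W)) (C' ⊗[C] N) ↔
      FlatCA.FlatAt R' Q (W ⊗[Localization.AtPrime n] LocalizedModule n.primeCompl N) := by
    intro Q _
    have e3 : Localization.AtPrime n ⊗[C] N ≃ₗ[Localization.AtPrime n] LocalizedModule n.primeCompl N :=
      (IsLocalizedModule.isBaseChange n.primeCompl (Localization.AtPrime n)
        (LocalizedModule.mkLinearMap n.primeCompl N)).equiv
    have e : W ⊗[Localization.AtPrime n] LocalizedModule n.primeCompl N ≃ₗ[W] W ⊗[C] N :=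
      (TensorProduct.AlgebraTensorModule.congr (LinearEquiv.refl W W) e3.symm).trans
        (TensorProduct.AlgebraTensorModule.cancelBaseChange C (Localization.AtPrime n) W W N)
    rw [Groth.Agent.Flat2C.FlatAtCriterion.flatAt_congr (N' := W ⊗[C] N) Q e]
    have h7 : IsLocalizedModule (Algebra.algebraMapSubmonoid C' n.primeCompl) (Algebra.linearMap C' W) :=
      (isLocalizedModule_iff_isLocalization' _ _).mpr inferInstance
    refine flatAt_loc_iff (Algebra.algebraMapSubmonoid C' n.primeCompl)
      (AlgebraTensorModule.rTensor C N (Algebra.linearMap C' W)) (fun a => ?_) Q (fun s hs h => ?_)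
    · obtain ⟨⟨r, s⟩, hr⟩ := IsLocalization.surj (Algebra.algebraMapSubmonoid C' n.primeCompl) a
      exact ⟨s, s.2, r, hr⟩
    · have hu := IsLocalization.map_units W (⟨s, hs⟩ : Algebra.algebraMapSubmonoid C' n.primeCompl)
      exact ‹Q.IsPrime›.ne_top (Ideal.eq_top_of_isUnit_mem _ h hu)
  constructor
  · intro h Q hQ hle
    rw [← key Q]
    refine h ⟨Q.comap (algebraMap C' W), inferInstance⟩ ?_ ?_
    · change (Q.comap (algebraMap C' W)).comap (algebraMap C C') = n
      have h8 : maximalIdeal (Localization.AtPrime n) ≤ Q.comap (algebraMap (Localization.AtPrime n) W) :=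
        Ideal.map_le_iff_le_comap.mp (le_sup_right.trans hle)
      have h9 : Q.comap (algebraMap (Localization.AtPrime n) W) = maximalIdeal (Localization.AtPrime n) :=
        ((IsLocalRing.maximalIdeal.isMaximal _).eq_of_le (Ideal.IsPrime.ne_top inferInstance) h8).symm
      rw [Ideal.comap_comap, ← IsScalarTower.algebraMap_eq, IsScalarTower.algebraMap_eq C (Localization.AtPrime n) W,
        ← Ideal.comap_comap, h9]
      exact Localization.AtPrime.under_maximalIdeal
    · change _ ≤ Q.comap (algebraMap C' W)
      rw [← Ideal.map_le_iff_le_comap, Ideal.map_map, ← IsScalarTower.algebraMap_eq]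
      exact le_sup_left.trans hle
  · intro h q' hq'n hq'm
    have hd : Disjoint (Algebra.algebraMapSubmonoid C' n.primeCompl : Set C') (q'.asIdeal : Set C') := by
      rw [Set.disjoint_left]
      rintro _ ⟨c, hc, rfl⟩ h10
      have h11 : c ∈ q'.asIdeal.comap (algebraMap C C') := h10
      rw [hq'n] at h11
      exact hc h11
    have hprime := IsLocalization.isPrime_of_isPrime_disjoint (Algebra.algebraMapSubmonoid C' n.primeCompl) W
      q'.asIdeal q'.2 hd
    have hcomap : (q'.asIdeal.map (algebraMap C' W)).comap (algebraMap C' W) = q'.asIdeal :=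
      IsLocalization.under_map_of_isPrime_disjoint (Algebra.algebraMapSubmonoid C' n.primeCompl) W q'.2 hd
    have h12 := h (q'.asIdeal.map (algebraMap C' W)) (by
      refine sup_le ?_ ?_
      · rw [Ideal.map_le_iff_le_comap, IsScalarTower.algebraMap_eq R' C' W, ← Ideal.comap_comap, hcomap,
          ← Ideal.map_le_iff_le_comap]
        exact hq'm
      · rw [← Localization.AtPrime.map_eq_maximalIdeal, Ideal.map_map, ← IsScalarTower.algebraMap_eq,
          IsScalarTower.algebraMap_eq C C' W, ← Ideal.map_map]
        refine Ideal.map_mono ?_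
        rw [Ideal.map_le_iff_le_comap, hq'n])
    rw [← key] at h12
    have : ∀ (q₁ q₂ : Ideal C') [q₁.IsPrime] [q₂.IsPrime] (_ : q₁ = q₂), FlatCA.FlatAt R' q₁ (C' ⊗[C] N) →
        FlatCA.FlatAt R' q₂ (C' ⊗[C] N) := by
      intro q₁ q₂ _ _ h h'
      subst h
      exact h'
    exact this _ _ hcomap h12

end Main

end K966.HensTest
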