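import Groth.Agent.QGor.K966.CritT
import Groth.Agent.QGor.K966.HensTest
import Groth.Agent.S0387

/-!
# Openness of the relative `(S₂)` locus, and the ideal over a Henselian base
-/

set_option autoImplicit false
universe u

open TensorProduct CategoryTheory CategoryTheory.Limits AlgebraicGeometry IsLocalRing

namespace K966.HensQ

open Groth.Agent K970.RelSk1 K970.RelSk2 K970.TildeDual K970.Chart K966.CritT

attribute [local instance] Algebra.TensorProduct.rightAlgebra

section Open

variable {A : Type u} [CommRing A] [IsNoetherianRing A] {Y : Scheme.{u}} {f : Y ⟶ Spec (CommRingCat.of A)}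
  {T : Y.Modules} {Z : Set Y} (hyp : Hyp f Z T)

include hyp in
/-- The relative `(S₂)` locus of `T^∨∨` is open. -/
theorem isOpen_relSkAt : IsOpen {y : Y | RelCanon.RelSkAt f 2 (RefHull.ddual T) y} := by
  have := hyp.lft
  rw [isOpen_iff_forall_mem_open]
  intro y hy
  obtain ⟨C, _, _, _, j, _, x, hj, hx, -⟩ := exists_chart f y ⊤ trivial
  have : IsNoetherianRing C := Algebra.FiniteType.isNoetherianRing A C
  obtain ⟨G, _, _, _, _, _, hc⟩ := hyp.exists_crit hj
  have : Algebra.FinitePresentation A C := Algebra.FinitePresentation.of_finiteType.mp inferInstance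
  have : Module.FinitePresentation C G := Module.finitePresentation_of_finite C G
  have hop : IsOpen {q : PrimeSpectrum C | FlatCA.FlatAt A q.asIdeal G} :=
    Groth.Agent.S0387.result (R := A) (S := C) (M := G)
  refine ⟨j '' {q : Spec (CommRingCat.of C) | FlatCA.FlatAt A (q : PrimeSpectrum C).asIdeal G}, ?_,
    j.isOpenEmbedding.isOpenMap _ hop, ⟨x, ?_, hx⟩⟩
  · rintro _ ⟨q, hq, rfl⟩
    exact (hc.here q q rfl).mpr hq
  · exact (hc.here x x rfl).mp (by rw [hx]; exact hy)

end Open

section Hens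

variable {A : Type u} [CommRing A] [IsNoetherianRing A] [HenselianLocalRing A] {Y : Scheme.{u}}
  {f : Y ⟶ Spec (CommRingCat.of A)} {T : Y.Modules} {Z : Set Y} (hyp : Hyp f Z T)

include hyp in
/-- The ideal of relative `(S₂)`. -/
theorem exists_ideal (y : Y) (hy : f y = closedPoint A) :
    ∃ 𝔞 : Ideal A, ∀ (B : Type u) [CommRing B] [IsNoetherianRing B] [IsLocalRing B] (φ : A →+* B) [IsLocalHom φ]
      (Y' : Scheme.{u}) (f' : Y' ⟶ Spec (CommRingCat.of B)) (p : Y' ⟶ Y)
      (_ : IsPullback p f' f (Spec.map (CommRingCat.ofHom φ))) (F' : Y'.Modules)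
      (_ : Nonempty (RefHull.ddual ((Scheme.Modules.pullback p).obj (RefHull.ddual T)) ≅ F')),
      (∀ y' : Y', p y' = y → f' y' = closedPoint B → RelCanon.RelSkAt f' 2 F' y') ↔ 𝔞.map φ = ⊥ := by
  have := hyp.lft
  obtain ⟨C, _, _, _, j, _, x, hj, hx, -⟩ := exists_chart f y ⊤ trivial
  have : IsNoetherianRing C := Algebra.FiniteType.isNoetherianRing A C
  obtain ⟨G, _, _, _, _, _, hc⟩ := hyp.exists_crit hj
  let n : PrimeSpectrum C := x
  have hn : n.asIdeal.comap (algebraMap A C) = maximalIdeal A := by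
    have h4 : f (j x) = (Spec.map (CommRingCat.ofHom (algebraMap A C))) x := by
      rw [← hj, Scheme.Hom.comp_apply]
    rw [hx, hy] at h4
    exact (congrArg PrimeSpectrum.asIdeal h4).symm
  obtain ⟨𝔞, h𝔞⟩ := K966.HensTest.exists_ideal (R := A) (C := C) n.asIdeal
    (Ideal.map_le_iff_le_comap.mpr hn.ge) G
  refine ⟨𝔞, fun B _ _ _ φ _ Y' f' p hp F' e => ?_⟩
  let : Algebra A B := φ.toAlgebra
  have hloc : IsLocalHom (algebraMap A B) := ‹IsLocalHom φ›
  have : Algebra.IsPushout A C B (C ⊗[A] B) := TensorProduct.isPushout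
  have : Algebra.IsPushout A B C (C ⊗[A] B) := Algebra.IsPushout.symm inferInstance
  have : IsNoetherianRing (B ⊗[A] C) := Algebra.FiniteType.isNoetherianRing B _
  have : IsNoetherianRing (C ⊗[A] B) :=
    isNoetherianRing_of_ringEquiv _ (Algebra.TensorProduct.comm A B C).toRingEquiv
  have key := h𝔞 B (C ⊗[A] B)
  rw [show 𝔞.map φ = 𝔞.map (algebraMap A B) from rfl, ← key]
  constructor
  · intro h q' hq'n hq'm
    obtain ⟨j', _, h1, h2, h3⟩ := exists_lift (C := C) (C' := C ⊗[A] B) hp hj
    refine (hc.bc B (C ⊗[A] B) Y' f' p j' h1 h2 F' e q' q' rfl).mp (h _ ?_ ?_)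
    · have h4 := congrArg (fun g => g (q' : Spec (CommRingCat.of (C ⊗[A] B)))) h2
      have h5 : p (j' (q' : Spec (CommRingCat.of (C ⊗[A] B)))) =
        j (Spec.map (CommRingCat.ofHom (algebraMap C (C ⊗[A] B))) (q' : Spec (CommRingCat.of (C ⊗[A] B)))) := by
        simpa using h4
      rw [h5, ← hx]
      congr 1
      exact PrimeSpectrum.ext hq'n
    · have h4 : f' (j' (q' : Spec (CommRingCat.of (C ⊗[A] B)))) =
          (Spec.map (CommRingCat.ofHom (algebraMap B (C ⊗[A] B)))) q' := by
        rw [← h1, Scheme.Hom.comp_apply]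
      rw [h4]
      refine PrimeSpectrum.ext ?_
      change q'.asIdeal.comap (algebraMap B (C ⊗[A] B)) = maximalIdeal B
      exact ((IsLocalRing.maximalIdeal.isMaximal B).eq_of_le
        (Ideal.IsPrime.ne_top inferInstance) (Ideal.map_le_iff_le_comap.mp hq'm)).symm
  · intro h y' hy' hf'
    obtain ⟨q', h2, h3, h4⟩ := hc.iff_of_isPullback (C' := C ⊗[A] B) hj hp F' e n y' (hy'.trans hx.symm)
    rw [h4]
    refine h q' h2 (Ideal.map_le_iff_le_comap.mpr ?_)
    rw [h3, hf']
    rfl

end Hens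

end K966.HensQ
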