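import Groth.Agent.QGor.K966.RegBC
import Groth.Agent.QGor.K966.BijOff

/-!
# Maps which are regular, respectively isomorphisms, off a closed set

* `RegOff J u`: for every prime `P` not containing `J` there are `c` and `t ∉ P` with `u c u = t u`.
* `IsoOff J α`: for every prime `P` not containing `J` there are `β` and `t ∉ P` with `α β = t`, `β α = t`.
* `exists_bidual_equiv`: if `α : M → K` is an isomorphism off `V(J)`, `depth_J` of the ring and of `K` are at least two
  and `K` is reflexive off `V(J)`, then `M^∨∨ ≅ K`.
* `subsingleton_or_faithful`: over a local ring with `depth_J ≥ 2`, a finite module `K` with `depth_J K ≥ 1`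
  which is locally free off `V(J)` is zero or faithful.
-/

set_option autoImplicit false
set_option linter.unusedSectionVars false
set_option linter.dupNamespace false
universe u v w

open K966.DualPres K966.SerreBasic K966.RegMap K966.RegBC K966.BijOff K966.DepthLocal TensorProduct
  Groth.Agent.Localalg.Depth Groth.Agent.Localalg.Depth2

namespace K966.OffMap

section Defs

variable {R : Type u} [CommRing R] (J : Ideal R)

/-- `u` is regular off `V(J)`. -/
def RegOff {X Y : Type u} [AddCommGroup X] [Module R X] [AddCommGroup Y] [Module R Y] (u : X →ₗ[R] Y) : Prop :=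
  ∀ P : PrimeSpectrum R, ¬ J ≤ P.asIdeal → ∃ (c : Y →ₗ[R] X) (t : R), t ∉ P.asIdeal ∧ u ∘ₗ c ∘ₗ u = t • u

/-- `α` is an isomorphism off `V(J)`. -/
def IsoOff {X Y : Type u} [AddCommGroup X] [Module R X] [AddCommGroup Y] [Module R Y] (α : X →ₗ[R] Y) : Prop :=
  ∀ P : PrimeSpectrum R, ¬ J ≤ P.asIdeal → ∃ (β : Y →ₗ[R] X) (t : R), t ∉ P.asIdeal ∧
    α ∘ₗ β = t • LinearMap.id ∧ β ∘ₗ α = t • LinearMap.id

end Defs

section Basic

variable {R : Type u} [CommRing R] {J : Ideal R}

theorem regOff_of_free {X Y N : Type u} [AddCommGroup X] [Module R X]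
    [AddCommGroup Y] [Module R Y] [AddCommGroup N] [Module R N] [Module.Finite R X]
    [Module.Finite R Y] [Module.Projective R Y] (g : X →ₗ[R] Y) (f : Y →ₗ[R] N)
    (hf : Function.Surjective f) (hgf : Function.Exact g f)
    (hN : ∀ q : PrimeSpectrum R, ¬ J ≤ q.asIdeal →
      Module.Free (Localization.AtPrime q.asIdeal) (LocalizedModule q.asIdeal.primeCompl N)) : RegOff J g := by
  intro P hP
  have : Module.FinitePresentation R Y := Module.finitePresentation_of_projective R Y
  have := hN P hP
  exact exists_regular P.asIdeal g f hf hgf inferInstance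

/-- The transposed isomorphism. -/
theorem IsoOff.dualMap {X Y : Type u} [AddCommGroup X] [Module R X] [AddCommGroup Y] [Module R Y]
    {α : X →ₗ[R] Y} (h : IsoOff J α) : IsoOff J α.dualMap := by
  intro P hP
  obtain ⟨β, t, ht, h1, h2⟩ := h P hP
  refine ⟨β.dualMap, t, ht, ?_, ?_⟩
  · apply LinearMap.ext
    intro φ
    apply LinearMap.ext
    intro x
    have := LinearMap.congr_fun h2 x
    simp only [LinearMap.comp_apply, LinearMap.smul_apply, LinearMap.id_apply] at this
    simp [this]
  · apply LinearMap.ext
    intro φ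
    apply LinearMap.ext
    intro x
    have := LinearMap.congr_fun h1 x
    simp only [LinearMap.comp_apply, LinearMap.smul_apply, LinearMap.id_apply] at this
    simp [this]

theorem mk_eq_zero_iff' {X : Type u} [AddCommGroup X] [Module R X] (S : Submonoid R) (m : X) (s : S) :
    LocalizedModule.mk m s = 0 ↔ ∃ c : S, c • m = 0 := by
  constructor
  · intro h
    rw [← LocalizedModule.zero_mk s, LocalizedModule.mk_eq] at h
    obtain ⟨c, hc⟩ := h
    exact ⟨c * s, by rw [mul_smul, hc, smul_zero, smul_zero]⟩
  · rintro ⟨c, hc⟩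
    rw [← LocalizedModule.zero_mk s, LocalizedModule.mk_eq]
    exact ⟨c, by rw [smul_comm, hc, smul_zero, smul_zero]⟩

/-- An isomorphism off `V(J)` is bijective at every prime not containing `J`. -/
theorem IsoOff.bijective {X Y : Type u} [AddCommGroup X] [Module R X] [AddCommGroup Y] [Module R Y]
    {α : X →ₗ[R] Y} (h : IsoOff J α) (P : PrimeSpectrum R) (hP : ¬ J ≤ P.asIdeal) :
    Function.Bijective (LocalizedModule.map P.asIdeal.primeCompl α) := by
  obtain ⟨β, t, ht, h1, h2⟩ := h P hP
  constructor
  · rw [injective_iff_map_eq_zero]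
    intro x hx
    induction x using LocalizedModule.induction_on with
    | h m s =>
      rw [LocalizedModule.map_mk, mk_eq_zero_iff'] at hx
      obtain ⟨c, hc⟩ := hx
      rw [mk_eq_zero_iff']
      refine ⟨⟨t, ht⟩ * c, ?_⟩
      have h3 := LinearMap.congr_fun h2 (c • m)
      simp only [LinearMap.comp_apply, LinearMap.smul_apply, LinearMap.id_apply] at h3
      rw [Submonoid.smul_def] at hc h3
      rw [map_smul, hc, map_zero] at h3
      rw [mul_smul]
      exact h3.symm
  · intro y
    induction y using LocalizedModule.induction_on with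
    | h n s =>
      refine ⟨LocalizedModule.mk (β n) (⟨t, ht⟩ * s), ?_⟩
      have h3 := LinearMap.congr_fun h1 n
      simp only [LinearMap.comp_apply, LinearMap.smul_apply, LinearMap.id_apply] at h3
      rw [LocalizedModule.map_mk, h3]
      exact LocalizedModule.mk_cancel_common_left ⟨t, ht⟩ s n

/-- Base change of a map which is regular off `V(J)`. -/
theorem RegOff.baseChange {R' : Type u} [CommRing R'] [Algebra R R'] {X Y : Type u} [AddCommGroup X] [Module R X]
    [AddCommGroup Y] [Module R Y] {u : X →ₗ[R] Y} (h : RegOff J u) :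
    RegOff (J.map (algebraMap R R')) (u.baseChange R') := by
  intro P hP
  obtain ⟨c, t, ht, hc⟩ := h ⟨P.asIdeal.comap (algebraMap R R'), inferInstance⟩
    (fun h' => hP (Ideal.map_le_iff_le_comap.mpr h'))
  exact ⟨c.baseChange R', algebraMap R R' t, ht, regular_baseChange (B' := R') u c t hc⟩

end Basic

section Four

variable {R : Type u} [CommRing R] {J : Ideal R} {K X Y : Type u} [AddCommGroup K] [Module R K] 
  [AddCommGroup X] [Module R X] [AddCommGroup Y] [Module R Y] (f : K →ₗ[R] X) (g : X →ₗ[R] Y)
    (hf : Function.Injective f) (hfg : Function.Exact f g)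

include f g hf hfg in
/-- The kernel of a regular map is free off `V(J)`. -/
theorem RegOff.free_ker [Module.Projective R X] [Module.Finite R K] (h : RegOff J g) (P : PrimeSpectrum R)
    (hP : ¬ J ≤ P.asIdeal) :
    Module.Free (Localization.AtPrime P.asIdeal) (LocalizedModule P.asIdeal.primeCompl K) := by
  obtain ⟨c, t, ht, hc⟩ := h P hP
  exact free_of_projective P.asIdeal K (projective_ker_of_regular P.asIdeal f g hf hfg c t ht hc)

include hf hfg in
/-- If `g` is regular off `V(J)`, then `f` has a retraction up to `t ∉ P`. -/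
theorem RegOff.exists_retract (h : RegOff J g) (P : PrimeSpectrum R) (hP : ¬ J ≤ P.asIdeal) :
    ∃ (r : X →ₗ[R] K) (t : R), t ∉ P.asIdeal ∧ r ∘ₗ f = t • LinearMap.id ∧
      ∃ c : Y →ₗ[R] X, f ∘ₗ r = t • LinearMap.id - c ∘ₗ g := by
  obtain ⟨c, t, ht, hc⟩ := h P hP
  let ψ : X →ₗ[R] X := t • LinearMap.id - c ∘ₗ g
  have hψ : ∀ x, ψ x ∈ LinearMap.range f := by
    intro x
    have := LinearMap.congr_fun hc x
    simp only [LinearMap.comp_apply, LinearMap.smul_apply] at this
    have h : g (ψ x) = 0 := by simp [ψ, this]
    exact (hfg _).mp h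
  let e := LinearEquiv.ofInjective f hf
  let r : X →ₗ[R] K := e.symm.toLinearMap ∘ₗ ψ.codRestrict (LinearMap.range f) hψ
  have hfr : ∀ x, f (r x) = ψ x := by
    intro x
    have : e (r x) = ψ.codRestrict (LinearMap.range f) hψ x := by simp [r]
    exact congrArg Subtype.val this
  refine ⟨r, t, ht, ?_, c, ?_⟩
  · apply LinearMap.ext
    intro k
    apply hf
    rw [LinearMap.comp_apply, hfr]
    simp [ψ, hfg.apply_apply_eq_zero k]
  · apply LinearMap.ext
    intro x
    rw [LinearMap.comp_apply, hfr]

include hf hfg in
/-- The comparison of `R' ⊗ K` with the kernel of the base change is an isomorphism off `V(J R')`. -/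
theorem isoOff_ker (R' : Type u) [CommRing R'] [Algebra R R'] (h : RegOff J g) :
    ∃ α : R' ⊗[R] K →ₗ[R'] LinearMap.ker (g.baseChange R'), 
      (∀ x, (α x : R' ⊗[R] X) = f.baseChange R' x) ∧
        IsoOff (X := R' ⊗[R] K) (Y := LinearMap.ker (g.baseChange R')) (J.map (algebraMap R R')) α := by
  have h0 : ∀ x, f.baseChange R' x ∈ LinearMap.ker (g.baseChange R') := by
    intro x
    rw [LinearMap.mem_ker, ← LinearMap.comp_apply, ← LinearMap.baseChange_comp, hfg.linearMap_comp_eq_zero,
      LinearMap.baseChange_zero, LinearMap.zero_apply]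
  refine ⟨(f.baseChange R').codRestrict _ h0, fun _ => rfl, ?_⟩
  intro P hP
  obtain ⟨r, t, ht, h1, c, h2⟩ := RegOff.exists_retract f g hf hfg h ⟨P.asIdeal.comap (algebraMap R R'), inferInstance⟩
    (fun h' => hP (Ideal.map_le_iff_le_comap.mpr h'))
  have h1' : r.baseChange R' ∘ₗ f.baseChange R' = (algebraMap R R' t) • LinearMap.id := by
    rw [← LinearMap.baseChange_comp, h1, LinearMap.baseChange_smul, LinearMap.baseChange_id]
    apply LinearMap.ext
    intro x
    simp
  have h2' : f.baseChange R' ∘ₗ r.baseChange R' =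
      (algebraMap R R' t) • LinearMap.id - c.baseChange R' ∘ₗ g.baseChange R' := by
    rw [← LinearMap.baseChange_comp, h2, LinearMap.baseChange_sub, LinearMap.baseChange_smul,
      LinearMap.baseChange_id, LinearMap.baseChange_comp]
    apply LinearMap.ext
    intro x
    simp
  refine ⟨r.baseChange R' ∘ₗ (LinearMap.ker (g.baseChange R')).subtype, algebraMap R R' t, ht, ?_, ?_⟩
  · apply LinearMap.ext
    rintro ⟨x, hx⟩
    apply Subtype.ext
    have := LinearMap.congr_fun h2' x
    rw [LinearMap.mem_ker] at hx
    simp only [LinearMap.comp_apply, LinearMap.sub_apply, hx, map_zero, sub_zero, LinearMap.smul_apply,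
      LinearMap.id_apply] at this
    simpa using this
  · apply LinearMap.ext
    intro x
    have := LinearMap.congr_fun h1' x
    simpa using this

end Four

section Localized

variable {R : Type u} [CommRing R] {J : Ideal R} (q : Ideal R) [q.IsPrime]

theorem map_comp_smul {X Y Z : Type u} [AddCommGroup X] [Module R X] [AddCommGroup Y] [Module R Y]
    [AddCommGroup Z] [Module R Z] (S : Submonoid R) (a : Y →ₗ[R] Z) (b : X →ₗ[R] Y) :
    LocalizedModule.map S a ∘ₗ LocalizedModule.map S b = LocalizedModule.map S (a ∘ₗ b) := by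
  apply LinearMap.ext
  intro x
  induction x using LocalizedModule.induction_on with
  | h m s => simp [LocalizedModule.map_mk]

theorem map_smul_id {X : Type u} [AddCommGroup X] [Module R X] (S : Submonoid R) (t : R) :
    LocalizedModule.map S (t • (LinearMap.id : X →ₗ[R] X)) = algebraMap R (Localization S) t • LinearMap.id := by
  apply LinearMap.ext
  intro x
  induction x using LocalizedModule.induction_on with
  | h m s =>
    simp only [LocalizedModule.map_mk, LinearMap.smul_apply, LinearMap.id_apply]
    rw [algebraMap_smul, LocalizedModule.smul'_mk]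

theorem map_smul' {X Y : Type u} [AddCommGroup X] [Module R X] [AddCommGroup Y] [Module R Y]
    (S : Submonoid R) (t : R) (a : X →ₗ[R] Y) :
    LocalizedModule.map S (t • a) = algebraMap R (Localization S) t • LocalizedModule.map S a := by
  apply LinearMap.ext
  intro x
  induction x using LocalizedModule.induction_on with
  | h m s =>
    simp only [LocalizedModule.map_mk, LinearMap.smul_apply]
    rw [algebraMap_smul, LocalizedModule.smul'_mk]

theorem RegOff.localized {X Y : Type u} [AddCommGroup X] [Module R X]
    [AddCommGroup Y] [Module R Y] {u : X →ₗ[R] Y} (h : RegOff J u) :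
    RegOff (J.map (algebraMap R (Localization.AtPrime q))) (LocalizedModule.map q.primeCompl u) := by
  intro P hP
  obtain ⟨c, t, ht, hc⟩ := h ⟨P.asIdeal.comap (algebraMap R (Localization.AtPrime q)), inferInstance⟩
    (fun h' => hP (Ideal.map_le_iff_le_comap.mpr h'))
  refine ⟨LocalizedModule.map q.primeCompl c, algebraMap R (Localization.AtPrime q) t, ht, ?_⟩
  rw [map_comp_smul, map_comp_smul, hc, map_smul']

theorem IsoOff.localized {X Y : Type u} [AddCommGroup X] [Module R X]
    [AddCommGroup Y] [Module R Y] {u : X →ₗ[R] Y} (h : IsoOff J u) :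
    IsoOff (J.map (algebraMap R (Localization.AtPrime q))) (LocalizedModule.map q.primeCompl u) := by
  intro P hP
  obtain ⟨c, t, ht, h1, h2⟩ := h ⟨P.asIdeal.comap (algebraMap R (Localization.AtPrime q)), inferInstance⟩
    (fun h' => hP (Ideal.map_le_iff_le_comap.mpr h'))
  refine ⟨LocalizedModule.map q.primeCompl c, algebraMap R (Localization.AtPrime q) t, ht, ?_, ?_⟩
  · rw [map_comp_smul, h1, map_smul_id]
  · rw [map_comp_smul, h2, map_smul_id]

end Localized

section Bidual

variable {S : Type u} [CommRing S] [IsNoetherianRing S] (I : Ideal S)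

/-- The double dual of `M` is `K`, if `M → K` is an isomorphism off `V(I)`. -/
theorem exists_bidual_equiv (hS : 2 ≤ LocCoh.idealDepth I S) {M K : Type u} [AddCommGroup M] [Module S M]
    [Module.Finite S M] [AddCommGroup K] [Module S K] [Module.Finite S K] (α : M →ₗ[S] K) (hα : IsoOff I α)
    (hK : 2 ≤ LocCoh.idealDepth I K)
    (hKU : ∀ P : PrimeSpectrum S, ¬ I ≤ P.asIdeal →
      Module.Free (Localization.AtPrime P.asIdeal) (LocalizedModule P.asIdeal.primeCompl K)) :
    Nonempty (Module.Dual S (Module.Dual S M) ≃ₗ[S] K) := by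
  have hS1 : 1 ≤ LocCoh.idealDepth I S := le_trans (by norm_num) hS
  have hrefl : Module.IsReflexive S K := by
    refine isReflexive_of_idealDepth_two I hS1 K (fun p hp => ?_) hK
    have := hKU p hp
    have : Module.Finite (Localization.AtPrime p.asIdeal) (LocalizedModule p.asIdeal.primeCompl K) :=
      Module.Finite.of_isLocalizedModule p.asIdeal.primeCompl (LocalizedModule.mkLinearMap p.asIdeal.primeCompl K)
    infer_instance
  have hb : Function.Bijective α.dualMap.dualMap := by
    refine bijective_of_idealDepth I _ (two_le_idealDepth_dual _ I hS) (one_le_idealDepth_dual _ I hS1)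
      (fun p hp => ?_)
    exact (hα.dualMap.dualMap).bijective p hp
  exact ⟨(LinearEquiv.ofBijective _ hb).trans (Module.evalEquiv S K).symm⟩

/-- The annihilator of an ideal, as a kernel. -/
theorem two_le_idealDepth_annihilator (hS : 2 ≤ LocCoh.idealDepth I S) (L : Ideal S) :
    2 ≤ LocCoh.idealDepth I (Submodule.annihilator L : Ideal S) := by
  let u : S →ₗ[S] Module.Dual S L := (LinearMap.lcomp S S L.subtype) ∘ₗ (LinearMap.mul S S)
  have hu : ∀ x (y : L), u x y = x * y := fun x y => rfl
  refine two_le_idealDepth_of_exact I (Submodule.annihilator L : Ideal S).subtype u (Submodule.subtype_injective _) ?_ hS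
    (one_le_idealDepth_dual _ I (le_trans (by norm_num) hS))
  intro x
  simp only [Submodule.coe_subtype, Set.mem_range, Subtype.exists, exists_prop, exists_eq_right]
  rw [Submodule.mem_annihilator]
  constructor
  · intro h y hy
    have := LinearMap.congr_fun h ⟨y, hy⟩
    rw [hu] at this
    exact this
  · intro h
    apply LinearMap.ext
    rintro ⟨y, hy⟩
    rw [hu]
    exact h y hy

theorem le_idealDepth_prod (n : ℕ∞) {M N : Type u} [AddCommGroup M] [Module S M] [Module.Finite S M]
    [AddCommGroup N] [Module S N] [Module.Finite S N] (hM : n ≤ LocCoh.idealDepth I M)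
    (hN : n ≤ LocCoh.idealDepth I N) : n ≤ LocCoh.idealDepth I (M × N) :=
  le_trans (le_min hM hN) (idealDepth_shortExact₂ I (LinearMap.inl S M N)
      (LinearMap.snd S M N) LinearMap.inl_injective LinearMap.snd_surjective
      (LinearMap.exact_iff.mpr (by rw [LinearMap.range_inl])))

theorem exists_mem_annihilator_of_subsingleton {K : Type u} [AddCommGroup K] [Module S K] [Module.Finite S K]
    (P : PrimeSpectrum S) (h : P ∉ Module.support S K) : ∃ t ∈ Module.annihilator S K, t ∉ P.asIdeal := by
  rw [Module.support_eq_zeroLocus, PrimeSpectrum.mem_zeroLocus] at h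
  exact Set.not_subset.mp h

/-- Over a local ring with `depth_I ≥ 2`, a module which is locally free off `V(I)`, of depth at least one
along `I`, is zero or faithful. -/
theorem subsingleton_or_faithful [IsLocalRing S] (hS : 2 ≤ LocCoh.idealDepth I S) (K : Type u) [AddCommGroup K]
    [Module S K] [Module.Finite S K] (hK : 1 ≤ LocCoh.idealDepth I K)
    (hKU : ∀ P : PrimeSpectrum S, ¬ I ≤ P.asIdeal →
      Module.Free (Localization.AtPrime P.asIdeal) (LocalizedModule P.asIdeal.primeCompl K)) :
    Subsingleton K ∨ Module.annihilator S K = ⊥ := by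
  set L : Ideal S := Module.annihilator S K with hL
  set L' : Ideal S := Submodule.annihilator L with hL'
  set L'' : Ideal S := Submodule.annihilator L' with hL''
  have hLL' : ∀ x ∈ L, ∀ y ∈ L', y * x = 0 := fun x hx y hy => Submodule.mem_annihilator.mp hy x hx
  have hL'L'' : ∀ x ∈ L', ∀ y ∈ L'', y * x = 0 := fun x hx y hy => Submodule.mem_annihilator.mp hy x hx
  -- the two cases
  have case1 : ∀ P : PrimeSpectrum S, P ∉ Module.support S K → ∃ t ∈ L, t ∉ P.asIdeal :=
    fun P hP => exists_mem_annihilator_of_subsingleton P hP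
  have case2 : ∀ P : PrimeSpectrum S, ¬ I ≤ P.asIdeal → P ∈ Module.support S K → ∃ t ∈ L', t ∉ P.asIdeal := by
    intro P hIP hP
    have hfree := hKU P hIP
    have hnt : Nontrivial (LocalizedModule P.asIdeal.primeCompl K) := Module.mem_support_iff.mp hP
    have hx : ∀ x ∈ L, ∃ t ∉ P.asIdeal, t * x = 0 := by
      intro x hx
      have h1 : algebraMap S (Localization.AtPrime P.asIdeal) x = 0 := by
        have hf := FaithfulSMul.eq_of_smul_eq_smul (M := Localization.AtPrime P.asIdeal)
          (α := LocalizedModule P.asIdeal.primeCompl K) (m₁ := algebraMap S _ x) (m₂ := 0)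
        apply hf
        intro k
        rw [zero_smul]
        induction k using LocalizedModule.induction_on with
        | h m s =>
          rw [algebraMap_smul, LocalizedModule.smul'_mk, Module.mem_annihilator.mp hx m, LocalizedModule.zero_mk]
      obtain ⟨t, ht⟩ := (IsLocalization.map_eq_zero_iff P.asIdeal.primeCompl
        (Localization.AtPrime P.asIdeal) x).mp h1
      exact ⟨t, t.2, ht⟩
    have hns : P ∉ Module.support S L := by
      rw [Module.notMem_support_iff, LocalizedModule.subsingleton_iff]
      rintro ⟨x, hxL⟩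
      obtain ⟨t, ht, htx⟩ := hx x hxL
      exact ⟨t, ht, Subtype.ext htx⟩
    exact exists_mem_annihilator_of_subsingleton P hns
  let φ : (L'' × L') →ₗ[S] S := (L''.subtype).coprod (L'.subtype)
  have hφ : ∀ a b, φ (a, b) = (a : S) + b := fun a b => rfl
  have hiso : IsoOff I φ := by
    intro P hP
    by_cases h : P ∈ Module.support S K
    · obtain ⟨t, ht, htP⟩ := case2 P hP h
      let β : S →ₗ[S] (L'' × L') := (LinearMap.inr S L'' L') ∘ₗ (LinearMap.toSpanSingleton S L' ⟨t, ht⟩)
      have hβ : ∀ x, β x = (0, ⟨x * t, L'.mul_mem_left x ht⟩) := fun x => rfl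
      refine ⟨β, t, htP, ?_, ?_⟩
      · apply LinearMap.ext
        intro x
        simp [hβ, hφ, mul_comm]
      · apply LinearMap.ext
        rintro ⟨a, b⟩
        have h1 : (a : S) * t = 0 := hL'L'' t ht a a.2
        simp only [LinearMap.comp_apply, hφ, hβ, LinearMap.smul_apply, LinearMap.id_apply, Prod.smul_mk]
        refine Prod.ext (Subtype.ext ?_) (Subtype.ext ?_)
        · simp [mul_comm t (a : S), h1]
        · change ((a : S) + b) * t = t * b
          rw [add_mul, h1, zero_add, mul_comm]
    · obtain ⟨t, ht, htP⟩ := case1 P h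
      have ht'' : t ∈ L'' := by
        rw [hL'', Submodule.mem_annihilator]
        intro y hy
        have := hLL' t ht y hy
        rw [smul_eq_mul, mul_comm]
        exact this
      let β : S →ₗ[S] (L'' × L') := (LinearMap.inl S L'' L') ∘ₗ (LinearMap.toSpanSingleton S L'' ⟨t, ht''⟩)
      have hβ : ∀ x, β x = (⟨x * t, L''.mul_mem_left x ht''⟩, 0) := fun x => rfl
      refine ⟨β, t, htP, ?_, ?_⟩
      · apply LinearMap.ext
        intro x
        simp [hβ, hφ, mul_comm]
      · apply LinearMap.ext
        rintro ⟨a, b⟩
        have h1 : (b : S) * t = 0 := hLL' t ht b b.2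
        simp only [LinearMap.comp_apply, hφ, hβ, LinearMap.smul_apply, LinearMap.id_apply, Prod.smul_mk]
        refine Prod.ext (Subtype.ext ?_) (Subtype.ext ?_)
        · change ((a : S) + b) * t = t * a
          rw [add_mul, h1, add_zero, mul_comm]
        · simp [mul_comm t (b : S), h1]
  have hbij : Function.Bijective φ := by
    refine bijective_of_idealDepth I φ (le_idealDepth_prod I 2 (two_le_idealDepth_annihilator I hS L')
      (two_le_idealDepth_annihilator I hS L)) (le_trans (by norm_num) hS) (fun p hp => hiso.bijective p hp)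
  obtain ⟨⟨a, b⟩, hab⟩ := hbij.2 1
  rw [hφ] at hab
  rcases IsLocalRing.isUnit_or_isUnit_of_add_one hab with h | h
  · left
    have h1 : L' = ⊥ := by
      rw [eq_bot_iff]
      intro y hy
      have h2 := hL'L'' y hy a a.2
      rw [Submodule.mem_bot]
      exact (h.mul_right_eq_zero).mp h2
    refine subsingleton_of_one_le_idealDepth I K hK (fun p hp hpK => ?_)
    obtain ⟨t, ht, htp⟩ := case2 p hp hpK
    rw [h1, Submodule.mem_bot] at ht
    exact htp (ht ▸ Ideal.zero_mem _)
  · right
    rw [eq_bot_iff]
    intro y hy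
    have h2 := hLL' y hy b b.2
    rw [Submodule.mem_bot]
    exact (h.mul_right_eq_zero).mp h2

end Bidual

end K966.OffMap
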