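import Groth.Agent.QGor.K966.OffMap
import Groth.Agent.QGor.K966.BaseChange
import Groth.Agent.QGor.K966.ReflFree

/-!
# Kernels which are free off `V(J)`: the situation at a point
-/

set_option autoImplicit false
set_option linter.unusedSectionVars false
universe u v w

open K966.DualPres K966.SerreBasic K966.RegMap K966.RegBC K966.BijOff K966.DepthLocal K966.OffMap TensorProduct
  K966.ReflFree K966.BaseChange
  Groth.Agent.Localalg.Depth Groth.Agent.Localalg.Depth2

namespace K966.OffPoint

section

variable {R : Type u} [CommRing R] [IsNoetherianRing R] (J : Ideal R) (q : Ideal R) [q.IsPrime]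

/-- `J`-depth of a localized module from the depths at the generizations containing `J`. -/
theorem le_idealDepth_localized (n : ℕ) (X : Type u) [AddCommGroup X] [Module R X] [Module.Finite R X]
    (h : ∀ Q : PrimeSpectrum R, J ≤ Q.asIdeal → Q.asIdeal ≤ q →
      (n : ℕ∞) ≤ LocCoh.depth (Localization.AtPrime Q.asIdeal) (LocalizedModule Q.asIdeal.primeCompl X)) :
    (n : ℕ∞) ≤ LocCoh.idealDepth (J.map (algebraMap R (Localization.AtPrime q))) (LocalizedModule q.primeCompl X) := by
  refine le_idealDepth_of_forall _ n _ (fun P hP hJP => ?_)
  rw [Groth.Agent.Ega4B.LocTransfer.depth_eq_of_isLocalization q.primeCompl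
    (LocalizedModule.mkLinearMap q.primeCompl X) P]
  refine h ⟨P.comap (algebraMap R (Localization.AtPrime q)), inferInstance⟩ (Ideal.map_le_iff_le_comap.mp hJP) ?_
  intro x hx
  by_contra hxq
  have hu : IsUnit (algebraMap R (Localization.AtPrime q) x) :=
    IsLocalization.map_units (Localization.AtPrime q) (⟨x, hxq⟩ : q.primeCompl)
  exact hP.ne_top (Ideal.eq_top_of_isUnit_mem _ hx hu)

/-- The localization of the ring, as a module. -/
noncomputable def locRingEquiv :
    LocalizedModule q.primeCompl R ≃ₗ[Localization.AtPrime q] Localization.AtPrime q :=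
  LinearEquiv.extendScalarsOfIsLocalization q.primeCompl (Localization.AtPrime q)
    (IsLocalizedModule.linearEquiv q.primeCompl (LocalizedModule.mkLinearMap q.primeCompl R)
      (Algebra.linearMap R (Localization.AtPrime q)))

variable (hd : ∀ Q : PrimeSpectrum R, J ≤ Q.asIdeal → Q.asIdeal ≤ q →
      2 ≤ LocCoh.depth (Localization.AtPrime Q.asIdeal) (LocalizedModule Q.asIdeal.primeCompl R))

include hd in
theorem two_le_idealDepth_loc :
    2 ≤ LocCoh.idealDepth (J.map (algebraMap R (Localization.AtPrime q))) (Localization.AtPrime q) := by
  have h := le_idealDepth_localized J q 2 R hd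
  rw [idealDepth_congr_equiv _ (locRingEquiv q)] at h
  exact h

variable {K X Y : Type u} [AddCommGroup K] [Module R K] [Module.Finite R K]
  [AddCommGroup X] [Module R X] [Module.Finite R X] [Module.Projective R X]
  [AddCommGroup Y] [Module R Y] [Module.Finite R Y] [Module.Projective R Y] (f : K →ₗ[R] X) (g : X →ₗ[R] Y)
    (hf : Function.Injective f) (hfg : Function.Exact f g) (hg : RegOff J g)

include hd f g hf hfg in
theorem two_le_idealDepth_ker :
    2 ≤ LocCoh.idealDepth (J.map (algebraMap R (Localization.AtPrime q))) (LocalizedModule q.primeCompl K) := by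
  have h := two_le_idealDepth_loc J q hd
  exact two_le_idealDepth_of_exact _ (LocalizedModule.map q.primeCompl f) (LocalizedModule.map q.primeCompl g)
    (injective_localized q.primeCompl f hf) (exact_localized q.primeCompl f g hfg)
    (le_idealDepth_of_projective _ 2 (LocalizedModule q.primeCompl X) h)
    (le_trans (by norm_num) (le_idealDepth_of_projective _ 2 (LocalizedModule q.primeCompl Y) h))

include f g hf hfg hg in
theorem free_ker_localized (P : PrimeSpectrum (Localization.AtPrime q))
    (hP : ¬ J.map (algebraMap R (Localization.AtPrime q)) ≤ P.asIdeal) :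
    Module.Free (Localization.AtPrime P.asIdeal)
      (LocalizedModule P.asIdeal.primeCompl (LocalizedModule q.primeCompl K)) :=
  RegOff.free_ker (LocalizedModule.map q.primeCompl f) (LocalizedModule.map q.primeCompl g)
    (injective_localized q.primeCompl f hf) (exact_localized q.primeCompl f g hfg) (hg.localized q) P hP

include hd f g hf hfg hg in
/-- The kernel is zero or faithful at `q`. -/
theorem subsingleton_or_faithful_at : Subsingleton (LocalizedModule q.primeCompl K) ∨
    Module.annihilator (Localization.AtPrime q) (LocalizedModule q.primeCompl K) = ⊥ :=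
  subsingleton_or_faithful _ (two_le_idealDepth_loc J q hd) (LocalizedModule q.primeCompl K)
    (le_trans (by norm_num) (two_le_idealDepth_ker J q hd f g hf hfg))
    (free_ker_localized J q f g hf hfg hg)

include hd f g hf hfg hg in
/-- The double dual at `q`. -/
theorem exists_bidual_equiv_at {M : Type u} [AddCommGroup M] [Module R M] [Module.Finite R M] (α : M →ₗ[R] K)
    (hα : IsoOff J α) :
    Nonempty (LocalizedModule q.primeCompl (Module.Dual R (Module.Dual R M)) ≃ₗ[Localization.AtPrime q]
      LocalizedModule q.primeCompl K) := by
  obtain ⟨e⟩ := exists_bidual_equiv _ (two_le_idealDepth_loc J q hd) (LocalizedModule.map q.primeCompl α)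
    (hα.localized q) (two_le_idealDepth_ker J q hd f g hf hfg) (free_ker_localized J q f g hf hfg hg)
  exact ⟨(dualLocEquiv q (Module.Dual R M)).trans ((dualLocEquiv q M).symm.dualMap.trans e)⟩

end

end K966.OffPoint
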