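import Groth.Agent.QGor.K966.CritOmega
import Groth.Agent.QGor.K966.HensQ
import Groth.Agent.QGor.K66.Main
import Groth.Agent.QGor.K969.UnitLoc

/-!
# Periodicity of reflexive powers, and the local `ℚ`-Gorenstein condition
-/

set_option autoImplicit false
universe u

open CategoryTheory CategoryTheory.Limits AlgebraicGeometry RefHull

namespace K966.QOpen

open Groth.Agent K970.RelSk1 K970.RelSk2
open Groth.Agent.Grpsch.PicGrp (mk mk_congr mk_eq_iff mk_eq_one_iff)

section Per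

variable {X : Scheme.{u}}

/-- Periodicity for invertible modules. -/
theorem nonempty_iso_add_inv {L : X.Modules} (hL : PicF.IsInvertible L) (r : ℤ)
    (hr : Nonempty (RelCanon.refPowZ L r ≅ Coh.structureModule X)) (m : ℤ) :
    Nonempty (RelCanon.refPowZ L (m + r) ≅ RelCanon.refPowZ L m) := by
  have h1 : mk L hL ^ r = 1 := by
    rw [← K66.RefZ.mk_refPowZ hL r, mk_eq_one_iff]
    exact hr
  have h2 : mk (RelCanon.refPowZ L (m + r)) (K66.RefZ.isInvertible_refPowZ hL (m + r)) =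
      mk (RelCanon.refPowZ L m) (K66.RefZ.isInvertible_refPowZ hL m) := by
    rw [K66.RefZ.mk_refPowZ hL, K66.RefZ.mk_refPowZ hL, zpow_add, h1, mul_one]
  exact (mk_eq_iff _ _).mp h2

/-- Periodicity of the reflexive powers. -/
theorem nonempty_iso_add (U : X.Opens)
    (hO : IsIso ((Scheme.Modules.restrictAdjunction U.ι).unit.app (Coh.structureModule X)))
    (F : X.Modules) (hF : ∀ z ∈ U, RelCanon.InvertibleAt F z) (r : ℤ)
    (hr : Nonempty (RelCanon.refPowZ F r ≅ Coh.structureModule X)) (m : ℤ) :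
    Nonempty (RelCanon.refPowZ F (m + r) ≅ RelCanon.refPowZ F m) := by
  have hL : PicF.IsInvertible (F.restrict U.ι) :=
    (K970.InvAt.isInvertible_restrict_iff U.ι F).mpr fun z => hF _ z.2
  obtain ⟨er⟩ := hr
  obtain ⟨e1⟩ := K66.RefZ.nonempty_refPowZ_restrict U.ι F r
  obtain ⟨e2⟩ := K66.RefZ.nonempty_refPowZ_restrict U.ι F (m + r)
  obtain ⟨e3⟩ := K66.RefZ.nonempty_refPowZ_restrict U.ι F m
  obtain ⟨e4⟩ := nonempty_iso_add_inv hL r
    ⟨e1.symm ≪≫ (Scheme.Modules.restrictFunctor U.ι).mapIso er ≪≫ Scheme.Modules.restrictUnitIso U.ι⟩ m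
  exact K969.RefU.nonempty_iso_of_unit U (K967.HomUnit.isIso_unit_refPowZ F U hO _)
    (K967.HomUnit.isIso_unit_refPowZ F U hO _) (e2 ≪≫ e4 ≪≫ e3.symm)

end Per

section Local

variable {X S : Scheme.{u}} (f : X ⟶ S) [IsLocallyNoetherian X] [IsLocallyNoetherian S]
  (hS : RelCanon.IsSkMor f 2) (U : X.Opens)
  (hcod : ∀ z : X, z ∉ U →
    (2 : WithBot ℕ∞) ≤ ringKrullDim ((f.fiber (f z)).presheaf.stalk (f.asFiber z)))
  (ω : X.Modules) (hU : ∀ z ∈ U, RelCanon.InvertibleAt ω z)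

include hS hcod hU in
theorem nonempty_restrict_iso_add (W : X.Opens) (r : ℤ)
    (hr : Nonempty ((RelCanon.refPowZ ω r).restrict W.ι ≅ Coh.structureModule (W : Scheme.{u}))) (m : ℤ) :
    Nonempty ((RelCanon.refPowZ ω (m + r)).restrict W.ι ≅ (RelCanon.refPowZ ω m).restrict W.ι) := by
  have hO := K967.FibDepth.isIso_unit_structure f hS U hcod
  have hOW : IsIso ((Scheme.Modules.restrictAdjunction (W.ι ⁻¹ᵁ U).ι).unit.app
      (Coh.structureModule (W : Scheme.{u}))) :=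
    K969.RefU.isIso_unit_of_iso _ (Scheme.Modules.restrictUnitIso W.ι)
      (K969.RefU.isIso_unit_restrict W U _ hO)
  obtain ⟨er⟩ := hr
  obtain ⟨e1⟩ := K66.RefZ.nonempty_refPowZ_restrict W.ι ω r
  obtain ⟨e2⟩ := K66.RefZ.nonempty_refPowZ_restrict W.ι ω (m + r)
  obtain ⟨e3⟩ := K66.RefZ.nonempty_refPowZ_restrict W.ι ω m
  obtain ⟨e4⟩ := nonempty_iso_add (W.ι ⁻¹ᵁ U) hOW (ω.restrict W.ι)
    (fun z hz => (K970.InvAt.invertibleAt_restrict_iff W.ι ω z).mpr (hU _ hz)) r ⟨e1.symm ≪≫ er⟩ m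
  exact ⟨e2 ≪≫ e4 ≪≫ e3.symm⟩

include hS hcod hU in
theorem relSkAt_add_iff (k : ℕ) (W : X.Opens) (r : ℤ)
    (hr : Nonempty ((RelCanon.refPowZ ω r).restrict W.ι ≅ Coh.structureModule (W : Scheme.{u}))) (m : ℤ)
    (z : X) (hz : z ∈ W) :
    RelCanon.RelSkAt f k (RelCanon.refPowZ ω (m + r)) z ↔ RelCanon.RelSkAt f k (RelCanon.refPowZ ω m) z := by
  obtain ⟨e⟩ := nonempty_restrict_iso_add f hS U hcod ω hU W r hr m
  have h1 := relSkAt_restrict_iff_comp f W.ι k (RelCanon.refPowZ ω (m + r)) ⟨z, hz⟩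
  have h2 := relSkAt_restrict_iff_comp f W.ι k (RelCanon.refPowZ ω m) ⟨z, hz⟩
  have h3 := relSkAt_iff_of_iso (W.ι ≫ f) k e (⟨z, hz⟩ : W)
  exact h1.symm.trans (h3.trans h2)

include hS hcod hU in
theorem relSkAt_add_mul_iff (k : ℕ) (W : X.Opens) (r : ℤ)
    (hr : Nonempty ((RelCanon.refPowZ ω r).restrict W.ι ≅ Coh.structureModule (W : Scheme.{u}))) (m n : ℤ)
    (z : X) (hz : z ∈ W) :
    RelCanon.RelSkAt f k (RelCanon.refPowZ ω (m + n * r)) z ↔ RelCanon.RelSkAt f k (RelCanon.refPowZ ω m) z := by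
  induction n using Int.induction_on with
  | zero => simp
  | succ i ih =>
    rw [← ih, ← relSkAt_add_iff f hS U hcod ω hU k W r hr (m + i * r) z hz]
    have : m + (i + 1) * r = m + i * r + r := by ring
    rw [this]
  | pred i ih =>
    rw [← ih, ← relSkAt_add_iff f hS U hcod ω hU k W r hr (m + (-i - 1) * r) z hz]
    have : m + (-i - 1) * r + r = m + -i * r := by ring
    rw [this]

include hS hcod hU in
/-- The local `ℚ`-Gorenstein condition in terms of relative `(S₂)` at the point. -/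
theorem isQGorMorWithAt_of_forall (y : X)
    (hop : ∀ m : ℤ, IsOpen {z : X | RelCanon.RelSkAt f 2 (RelCanon.refPowZ ω m) z})
    (hr : RelCanon.IsQGorWithAt ω y) (h : ∀ m : ℤ, RelCanon.RelSkAt f 2 (RelCanon.refPowZ ω m) y) :
    RelCanon.IsQGorMorWithAt f ω y := by
  obtain ⟨r, hr0, W, hyW, hW⟩ := hr
  let V : ℕ → X.Opens := fun m => ⟨_, hop m⟩
  refine ⟨W ⊓ (Finset.range r).inf V, ⟨hyW, ?_⟩, fun m z hz => ?_⟩
  · have h1 : ∀ s : Finset ℕ, y ∈ s.inf V := by
      intro s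
      induction s using Finset.induction_on with
      | empty => simp
      | insert a s _ ih =>
        rw [Finset.inf_insert]
        exact ⟨h a, ih⟩
    exact h1 _
  · have hr1 : (0 : ℤ) < r := by exact_mod_cast hr0
    have h2 := Int.emod_add_mul_ediv m r
    have h3 := Int.emod_nonneg m hr1.ne'
    have h4 := Int.emod_lt_of_pos m hr1
    obtain ⟨s, hs⟩ := Int.eq_ofNat_of_zero_le h3
    have h5 : m = s + m / r * r := by
      rw [← hs]
      linarith [mul_comm (r : ℤ) (m / r)]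
    rw [h5, relSkAt_add_mul_iff f hS U hcod ω hU 2 W r hW s (m / r) z hz.1]
    have h6 : s ∈ Finset.range r := by
      rw [Finset.mem_range]
      have : (s : ℤ) < r := by
        rw [← hs]
        exact h4
      exact_mod_cast this
    exact (Finset.inf_le h6 : (Finset.range r).inf V ≤ V s) hz.2

end Local

end K966.QOpen
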