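import Groth.Agent.QGor.K966.CmpRef
import Groth.Agent.QGor.K966.QOpen

/-!
# The ideal of the `ℚ`-Gorenstein refinement over a Henselian base
-/

set_option autoImplicit false
universe u

open CategoryTheory CategoryTheory.Limits AlgebraicGeometry RefHull

namespace K966.QRef

open Groth.Agent K970.RelSk1

section Fields

variable {A : Type u} [CommRing A] {Y : Scheme.{u}} (f : Y ⟶ Spec (CommRingCat.of A))

theorem eq_asFiber (y : Y) (z : f.fiber (f y)) (hz : f.fiberι (f y) z = y) : z = f.asFiber y :=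
  (f.fiberι (f y)).isEmbedding.injective (hz.trans (f.fiberι_asFiber y).symm)

end Fields

variable (A : Type u) [CommRing A] [IsNoetherianRing A] (Y : Scheme.{u}) [Y.Over (Spec (CommRingCat.of A))]
    [IsProper (Y ↘ Spec (CommRingCat.of A))] (d : ℕ)
    (hS : RelCanon.IsSkMor (Y ↘ Spec (CommRingCat.of A)) 2) (hd : Cyc.HasRelDim (Y ↘ Spec (CommRingCat.of A)) d)
    (ω : Y.Modules) (hω : RelCanon.IsDualizingSheaf A Y d ω)
    (hG : ∀ y : Y, y ∉ RelCanon.gorLocus (Y ↘ Spec (CommRingCat.of A)) →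
      (2 : WithBot ℕ∞) ≤ ringKrullDim (((Y ↘ Spec (CommRingCat.of A)).fiber ((Y ↘ Spec (CommRingCat.of A)) y)).presheaf.stalk ((Y ↘ Spec (CommRingCat.of A)).asFiber y)))
    (y : Y)
    (hQy : ∀ ωt : ((Y ↘ Spec (CommRingCat.of A)).fiber ((Y ↘ Spec (CommRingCat.of A)) y)).Modules, @RelCanon.IsDualizingSheaf ((Spec (CommRingCat.of A)).residueField ((Y ↘ Spec (CommRingCat.of A)) y)) _ ((Y ↘ Spec (CommRingCat.of A)).fiber ((Y ↘ Spec (CommRingCat.of A)) y)) ⟨(Y ↘ Spec (CommRingCat.of A)).fiberToSpecResidueField ((Y ↘ Spec (CommRingCat.of A)) y)⟩ d ωt → RelCanon.IsQGorWithAt ωt ((Y ↘ Spec (CommRingCat.of A)).asFiber y))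

include hQy in
omit [IsNoetherianRing A] [IsProper (Y ↘ Spec (CommRingCat.of A))] in
theorem isQGor_fibre (s : Spec (CommRingCat.of A)) (hs : (Y ↘ Spec (CommRingCat.of A)) y = s)
    (z : (Y ↘ Spec (CommRingCat.of A)).fiber s) (hz : (Y ↘ Spec (CommRingCat.of A)).fiberι s z = y)
    (ωs : ((Y ↘ Spec (CommRingCat.of A)).fiber s).Modules)
    (hωs : @RelCanon.IsDualizingSheaf ((Spec (CommRingCat.of A)).residueField s) _
      ((Y ↘ Spec (CommRingCat.of A)).fiber s) ⟨(Y ↘ Spec (CommRingCat.of A)).fiberToSpecResidueField s⟩ d ωs) :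
    RelCanon.IsQGorWithAt ωs z := by
  subst hs
  rw [eq_asFiber _ y z hz]
  exact hQy ωs hωs

omit [IsNoetherianRing A] in
include hd in
/-- A dualizing sheaf of a fibre. -/
theorem exists_dualizing_fibre (s : Spec (CommRingCat.of A)) :
    ∃ ωs : ((Y ↘ Spec (CommRingCat.of A)).fiber s).Modules,
      @RelCanon.IsDualizingSheaf ((Spec (CommRingCat.of A)).residueField s) _
      ((Y ↘ Spec (CommRingCat.of A)).fiber s) ⟨(Y ↘ Spec (CommRingCat.of A)).fiberToSpecResidueField s⟩ d ωs := by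
  have H := K970.BCHyp.isPullback_fibre (Y ↘ Spec (CommRingCat.of A)) s
  have h1 : IsProper ((Y ↘ Spec (CommRingCat.of A)).fiberToSpecResidueField s) :=
    MorphismProperty.of_isPullback (P := @IsProper) H inferInstance
  have hN : IsNoetherianRing ((Spec (CommRingCat.of A)).residueField s) := inferInstance
  exact @K967.OmegaBasic.exists_isDualizingSheaf ((Spec (CommRingCat.of A)).residueField s) _ hN
    ((Y ↘ Spec (CommRingCat.of A)).fiber s) ⟨(Y ↘ Spec (CommRingCat.of A)).fiberToSpecResidueField s⟩ h1 d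
    (K967.ReflUnit.dim_fiber_le (K970.BCHyp.hasRelDim_of_isPullback H hd))

include hS hd hG hQy in
/-- The fibre of a base change is `ℚ`-Gorenstein. -/
theorem isQGor_fibre_bc (B : Type u) [CommRing B] [IsNoetherianRing B] (φ : A →+* B)
    (Y' : Scheme.{u}) [Y'.Over (Spec (CommRingCat.of B))] (p : Y' ⟶ Y)
    (hp : IsPullback p (Y' ↘ Spec (CommRingCat.of B)) (Y ↘ Spec (CommRingCat.of A)) (Spec.map (CommRingCat.ofHom φ)))
    (y' : Y') (hy' : p y' = y)
    (ωt : ((Y' ↘ Spec (CommRingCat.of B)).fiber ((Y' ↘ Spec (CommRingCat.of B)) y')).Modules)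
    (hωt : @RelCanon.IsDualizingSheaf ((Spec (CommRingCat.of B)).residueField ((Y' ↘ Spec (CommRingCat.of B)) y')) _ _
      ⟨(Y' ↘ Spec (CommRingCat.of B)).fiberToSpecResidueField ((Y' ↘ Spec (CommRingCat.of B)) y')⟩ d ωt) :
    RelCanon.IsQGorWithAt ωt ((Y' ↘ Spec (CommRingCat.of B)).asFiber y') := by
  let f := Y ↘ Spec (CommRingCat.of A)
  let f' := Y' ↘ Spec (CommRingCat.of B)
  obtain ⟨ψ, r, H, hr⟩ := K970.BCHyp.exists_fibre_fibre (CommRingCat.ofHom φ) hp (f' y')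
  let s := Spec.map (CommRingCat.ofHom φ) (f' y')
  have hs : f y = s := by
    rw [← hy']
    exact congrArg (fun g => g y') hp.w
  have hz : f.fiberι s (r (f'.asFiber y')) = y := by
    have h1 : (r ≫ f.fiberι s) (f'.asFiber y') = (f'.fiberι (f' y') ≫ p) (f'.asFiber y') := congrArg (fun g => g (f'.asFiber y')) hr
    have h2 : (f'.fiberι (f' y') ≫ p) (f'.asFiber y') = p (f'.fiberι (f' y') (f'.asFiber y')) := rfl
    rw [h2, f'.fiberι_asFiber y', hy'] at h1
    exact h1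
  obtain ⟨ωs, hωs⟩ := exists_dualizing_fibre A Y d hd s
  obtain ⟨n, hn, hinv⟩ := isQGor_fibre A Y d y hQy s hs _ hz ωs hωs
  refine ⟨n, hn, ?_⟩
  obtain ⟨h1, h2, h3, h4⟩ := K970.BCHyp.fibre_hyps (f := f) s hS hd 2 hG
  let i1 : (f.fiber s).Over (Spec (CommRingCat.of ((Spec (CommRingCat.of A)).residueField s))) :=
    ⟨f.fiberToSpecResidueField s⟩
  let i2 : (f'.fiber (f' y')).Over (Spec (CommRingCat.of ((Spec (CommRingCat.of B)).residueField (f' y')))) :=
    ⟨f'.fiberToSpecResidueField (f' y')⟩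
  have i3 : IsProper ((f.fiber s) ↘ (Spec (CommRingCat.of ((Spec (CommRingCat.of A)).residueField s)))) := h1
  obtain ⟨e⟩ := K966.CmpRef.cmp ((Spec (CommRingCat.of A)).residueField s) (f.fiber s) d h2 h3 ωs hωs h4 n
    ((Spec (CommRingCat.of B)).residueField (f' y')) ψ.hom (f'.fiber (f' y')) r H ωt hωt
  exact K970.InvAt.invertibleAt_of_iso e _ (K970.InvAt.invertibleAt_ddual _
    (K970.InvAt.invertibleAt_pullback r _ _ hinv))

include hS hd hG hQy in
/-- `ℚ`-Gorenstein at a point of a base change where all the powers satisfy relative `(S₂)`. -/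
theorem isQGorMorWithAt_bc (B : Type u) [CommRing B] [IsNoetherianRing B] (φ : A →+* B)
    (Y' : Scheme.{u}) [Y'.Over (Spec (CommRingCat.of B))] (p : Y' ⟶ Y)
    (hp : IsPullback p (Y' ↘ Spec (CommRingCat.of B)) (Y ↘ Spec (CommRingCat.of A)) (Spec.map (CommRingCat.ofHom φ)))
    (ω' : Y'.Modules) (hω' : RelCanon.IsDualizingSheaf B Y' d ω')
    (y' : Y') (hy' : p y' = y)
    (h : ∀ m : ℤ, RelCanon.RelSkAt (Y' ↘ Spec (CommRingCat.of B)) 2 (RelCanon.refPowZ ω' m) y') :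
    RelCanon.IsQGorMorWithAt (Y' ↘ Spec (CommRingCat.of B)) ω' y' := by
  have hB : IsNoetherianRing (CommRingCat.of B) := inferInstanceAs (IsNoetherianRing B)
  have hpr : IsProper (Y' ↘ Spec (CommRingCat.of B)) := MorphismProperty.of_isPullback (P := @IsProper) hp inferInstance
  have hlN' : IsLocallyNoetherian Y' := LocallyOfFiniteType.isLocallyNoetherian (Y' ↘ Spec (CommRingCat.of B))
  have hfl : Flat (Y ↘ Spec (CommRingCat.of A)) := hS.1
  have hS' := K970.BCHyp.isSkMor_cat (CommRingCat.ofHom φ) hp 2 hS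
  have hd' := K970.BCHyp.hasRelDim_of_isPullback hp hd
  have hG' := K970.BCHyp.codim_gorLocus_cat (CommRingCat.ofHom φ) hp 2 hG
  obtain ⟨ωt, hωt⟩ := exists_dualizing_fibre B Y' d hd' ((Y' ↘ Spec (CommRingCat.of B)) y')
  obtain ⟨n, hn, hinv⟩ := isQGor_fibre_bc A Y d hS hd hG y hQy B φ Y' p hp y' hy' ωt hωt
  obtain ⟨e⟩ := K967.FibIndex.nonempty_fibre_iso B Y' d hS' hd' ω' hω' _ ωt hωt
  have hU := K967.FibIndex.invertibleAt_of_mem B Y' d hS' hd' ω' hω'
  have hcoh := K967.OmegaBasic.isCoh B Y' d ω' hω' (K967.ReflUnit.dim_fiber_le hd')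
  have hcoht := K967.FibIndex.isCoh_of_isDualizingSheaf_fibre B Y' d _ ωt hd' hωt
  have h1 := K967.FibIndex.invertibleAt_of_fibre (Y' ↘ Spec (CommRingCat.of B)) hS'
    (K967.FibIndex.gorOpens B Y' hS') hG' ω' hcoh hU _ ωt hcoht e n
    ((Y' ↘ Spec (CommRingCat.of B)).asFiber y') (by
      rw [(Y' ↘ Spec (CommRingCat.of B)).fiberι_asFiber y']
      exact h n) hinv
  rw [(Y' ↘ Spec (CommRingCat.of B)).fiberι_asFiber y'] at h1
  refine K966.QOpen.isQGorMorWithAt_of_forall _ hS' (K967.FibIndex.gorOpens B Y' hS') hG' ω' hU y'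
    (fun m => ?_) ⟨n, hn, h1⟩ h
  obtain ⟨T, hT, hyp⟩ := K966.CritOmega.exists_hyp B Y' d hS' hd' ω' hω' hG' m
  rw [hT]
  exact K966.HensQ.isOpen_relSkAt hyp

include hS hd hω hG hQy in
/-- S19845. -/
theorem exists_ideal [HenselianLocalRing A]
    (hy : (Y ↘ Spec (CommRingCat.of A)) y = IsLocalRing.closedPoint A) :
    ∃ 𝔞 : Ideal A, ∀ (B : Type u) [CommRing B] [IsNoetherianRing B] [IsLocalRing B] (φ : A →+* B) [IsLocalHom φ]
      (Y' : Scheme.{u}) [Y'.Over (Spec (CommRingCat.of B))] (p : Y' ⟶ Y)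
      (_ : IsPullback p (Y' ↘ Spec (CommRingCat.of B)) (Y ↘ Spec (CommRingCat.of A)) (Spec.map (CommRingCat.ofHom φ)))
      (ω' : Y'.Modules) (_ : RelCanon.IsDualizingSheaf B Y' d ω'),
      ((∀ y' : Y', p y' = y → (Y' ↘ Spec (CommRingCat.of B)) y' = IsLocalRing.closedPoint B → RelCanon.IsQGorMorWithAt (Y' ↘ Spec (CommRingCat.of B)) ω' y') ↔
        Ideal.map φ 𝔞 = ⊥) := by
  have key : ∀ m : ℤ, ∃ 𝔞 : Ideal A, ∀ (B : Type u) [CommRing B] [IsNoetherianRing B] [IsLocalRing B] (φ : A →+* B) [IsLocalHom φ]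
      (Y' : Scheme.{u}) [Y'.Over (Spec (CommRingCat.of B))] (p : Y' ⟶ Y)
      (_ : IsPullback p (Y' ↘ Spec (CommRingCat.of B)) (Y ↘ Spec (CommRingCat.of A)) (Spec.map (CommRingCat.ofHom φ)))
      (ω' : Y'.Modules) (_ : RelCanon.IsDualizingSheaf B Y' d ω'),
      ((∀ y' : Y', p y' = y → (Y' ↘ Spec (CommRingCat.of B)) y' = IsLocalRing.closedPoint B →
        RelCanon.RelSkAt (Y' ↘ Spec (CommRingCat.of B)) 2 (RelCanon.refPowZ ω' m) y') ↔
        Ideal.map φ 𝔞 = ⊥) := by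
    intro m
    obtain ⟨T, hT, hyp⟩ := K966.CritOmega.exists_hyp A Y d hS hd ω hω hG m
    obtain ⟨𝔞, h𝔞⟩ := K966.HensQ.exists_ideal hyp y hy
    refine ⟨𝔞, fun B _ _ _ φ _ Y' _ p hp ω' hω' => ?_⟩
    have e := K966.CmpRef.cmp A Y d hS hd ω hω hG m B φ Y' p hp ω' hω'
    rw [hT] at e
    exact h𝔞 B φ Y' _ p hp _ e
  choose I hI using key
  refine ⟨⨆ m, I m, fun B _ _ _ φ _ Y' _ p hp ω' hω' => ?_⟩
  rw [Ideal.map_iSup, iSup_eq_bot]
  constructor
  · intro h m
    rw [← hI m B φ Y' p hp ω' hω']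
    intro y' hy' hc
    obtain ⟨U, hU, h1⟩ := h y' hy' hc
    exact h1 m y' hU
  · intro h y' hy' hc
    exact isQGorMorWithAt_bc A Y d hS hd hG y hQy B φ Y' p hp ω' hω' y' hy'
      (fun m => (hI m B φ Y' p hp ω' hω').mpr (h m) y' hy' hc)

end K966.QRef
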