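import Groth.Agent.QGor.K966.DualPres
import Mathlib.RingTheory.LocalRing.Module
import Mathlib.RingTheory.LocalProperties.Projective

/-!
# Cokernels which are free at a prime, and transposition

A map `g : X → Y` of finite projective modules has a cokernel which is projective at `q` if and only if there are
`c : Y → X` and `t ∉ q` with `g c g = t g`. This condition is invariant under transposition.
-/

set_option autoImplicit false
universe u v w

open K966.DualPres K966.SerreBasic

namespace K966.RegMap

variable {B : Type u} [CommRing B]

/-- If the cokernel of `g` is projective at `q`, then `g c g = t g` with `t ∉ q`. -/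
theorem exists_regular (q : Ideal B) [q.IsPrime] {X Y N : Type u} [AddCommGroup X] [Module B X]
    [AddCommGroup Y] [Module B Y] [AddCommGroup N] [Module B N] [Module.Finite B X]
    [Module.FinitePresentation B Y] [Module.Projective B Y] (g : X →ₗ[B] Y) (f : Y →ₗ[B] N)
    (hf : Function.Surjective f) (hgf : Function.Exact g f)
    (hN : Module.Projective (Localization.AtPrime q) (LocalizedModule q.primeCompl N)) :
    ∃ (c : Y →ₗ[B] X) (t : B), t ∉ q ∧ g ∘ₗ c ∘ₗ g = t • g := by
  set S := q.primeCompl with hS
  have hfq := surjective_localized S f hf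
  have hex := exact_localized S g f hgf
  obtain ⟨s, hs⟩ := Module.projective_lifting_property (LocalizedModule.map S f)
    (LinearMap.id : LocalizedModule S N →ₗ[Localization S] LocalizedModule S N) hfq
  let φ : LocalizedModule S Y →ₗ[Localization S] LocalizedModule S Y :=
    LinearMap.id - s ∘ₗ LocalizedModule.map S f
  have hφ : ∀ y, LocalizedModule.map S f (φ y) = 0 := by
    intro y
    have h1 := LinearMap.congr_fun hs (LocalizedModule.map S f y)
    simp only [LinearMap.comp_apply, LinearMap.id_apply] at h1
    simp only [φ, LinearMap.sub_apply, LinearMap.id_apply, LinearMap.comp_apply, map_sub, h1, sub_self]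
  have hYq : Module.Projective (Localization S) (LocalizedModule S Y) := inferInstance
  have hrange : ∀ y, φ y ∈ LinearMap.range (LocalizedModule.map S g) := fun y => (hex _).mp (hφ y)
  obtain ⟨c, hc⟩ := Module.projective_lifting_property (LocalizedModule.map S g).rangeRestrict
    (φ.codRestrict _ hrange) (LocalizedModule.map S g).surjective_rangeRestrict
  have hc' : ∀ y, LocalizedModule.map S g (c y) = φ y := by
    intro y
    have := congrArg Subtype.val (LinearMap.congr_fun hc y)
    exact this
  have hgcg : ∀ x, LocalizedModule.map S g (c (LocalizedModule.map S g x)) = LocalizedModule.map S g x := by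
    intro x
    rw [hc']
    simp only [φ, LinearMap.sub_apply, LinearMap.id_apply, LinearMap.comp_apply,
      hex.apply_apply_eq_zero, map_zero, sub_zero]
  obtain ⟨h, t, ht⟩ := Module.FinitePresentation.exists_lift_of_isLocalizedModule S
    (LocalizedModule.mkLinearMap S X)
    ((c.restrictScalars B) ∘ₗ LocalizedModule.mkLinearMap S Y)
  have ht' : ∀ y, LocalizedModule.mkLinearMap S X (h y) = (t : B) • c (LocalizedModule.mkLinearMap S Y y) :=
    fun y => LinearMap.congr_fun ht y
  have nat : ∀ x, LocalizedModule.map S g (LocalizedModule.mkLinearMap S X x) =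
      LocalizedModule.mkLinearMap S Y (g x) := fun x => by
    simp [LocalizedModule.mkLinearMap_apply]
  have key : (LocalizedModule.mkLinearMap S Y).comp (g ∘ₗ h ∘ₗ g) =
      (LocalizedModule.mkLinearMap S Y).comp ((t : B) • g) := by
    apply LinearMap.ext
    intro x
    simp only [LinearMap.comp_apply, LinearMap.smul_apply, map_smul]
    rw [← nat, ht', ← nat x]
    rw [← algebraMap_smul (Localization S) (t : B), map_smul, hgcg, algebraMap_smul]
  obtain ⟨s', hs'⟩ := Module.Finite.exists_smul_of_comp_eq_of_isLocalizedModule S
    (LocalizedModule.mkLinearMap S Y) _ _ key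
  refine ⟨(s' : B) • h, (s' : B) * t, (s' * t).2, ?_⟩
  have h3 : (s' : B) • (g ∘ₗ h ∘ₗ g) = (s' : B) • ((t : B) • g) := hs'
  rw [smul_smul] at h3
  rw [← h3]
  apply LinearMap.ext
  intro x
  simp

/-- If `h c h = t h` with `t ∉ q`, the cokernel of `h` is projective at `q`. -/
theorem projective_of_regular (q : Ideal B) [q.IsPrime] {X Y : Type u} [AddCommGroup X] [Module B X]
    [AddCommGroup Y] [Module B Y] [Module.Projective B Y] (h : X →ₗ[B] Y) (c : Y →ₗ[B] X)
    (t : B) (ht : t ∉ q) (hc : h ∘ₗ c ∘ₗ h = t • h) :
    Module.Projective (Localization.AtPrime q) (LocalizedModule q.primeCompl (Y ⧸ LinearMap.range h)) := by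
  let ψ : Y →ₗ[B] Y := t • LinearMap.id - h ∘ₗ c
  have hψ : LinearMap.range h ≤ LinearMap.ker ψ := by
    rintro _ ⟨x, rfl⟩
    have := LinearMap.congr_fun hc x
    simp only [LinearMap.comp_apply, LinearMap.smul_apply] at this
    simp [ψ, this]
  let s0 : (Y ⧸ LinearMap.range h) →ₗ[B] Y := (LinearMap.range h).liftQ ψ hψ
  have hs0 : (LinearMap.range h).mkQ ∘ₗ s0 = t • LinearMap.id := by
    apply LinearMap.ext
    intro y
    obtain ⟨y, rfl⟩ := Submodule.mkQ_surjective _ y
    simp only [LinearMap.comp_apply, s0, Submodule.mkQ_apply, Submodule.liftQ_apply, ψ,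
      LinearMap.sub_apply, LinearMap.smul_apply, LinearMap.id_apply, Submodule.Quotient.mk_sub,
      Submodule.Quotient.mk_smul, sub_eq_self]
    rw [Submodule.Quotient.mk_eq_zero]
    exact ⟨c y, rfl⟩
  have hYq : Module.Projective (Localization.AtPrime q) (LocalizedModule q.primeCompl Y) := inferInstance
  have hu : IsUnit (algebraMap B (Localization.AtPrime q) t) :=
    IsLocalization.map_units (Localization.AtPrime q) (⟨t, ht⟩ : q.primeCompl)
  obtain ⟨v, hv⟩ := hu.exists_left_inv
  refine Module.Projective.of_split (LocalizedModule.map q.primeCompl s0)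
    (v • LocalizedModule.map q.primeCompl (LinearMap.range h).mkQ) ?_
  apply LinearMap.ext
  intro y
  induction y using LocalizedModule.induction_on with
  | h m s =>
    have h1 := LinearMap.congr_fun hs0 m
    simp only [LinearMap.comp_apply, LinearMap.smul_apply, LinearMap.id_apply] at h1
    simp only [LinearMap.comp_apply, LinearMap.smul_apply, LocalizedModule.map_mk, h1,
      LinearMap.id_apply]
    rw [← LocalizedModule.smul'_mk, ← algebraMap_smul (Localization.AtPrime q) t, smul_smul, hv, one_smul]

/-- Over a Noetherian ring, a finite module which is projective at `q` is free at `q`. -/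
theorem free_of_projective (q : Ideal B) [q.IsPrime] (N : Type u) [AddCommGroup N] [Module B N]
    [Module.Finite B N]
    (hN : Module.Projective (Localization.AtPrime q) (LocalizedModule q.primeCompl N)) :
    Module.Free (Localization.AtPrime q) (LocalizedModule q.primeCompl N) := by
  have : Module.Finite (Localization.AtPrime q) (LocalizedModule q.primeCompl N) :=
    Module.Finite.of_isLocalizedModule q.primeCompl (LocalizedModule.mkLinearMap q.primeCompl N)
  exact Module.free_of_flat_of_isLocalRing

/-- Transposition. -/
theorem transp_comp {n m k : ℕ} (a : (Fin m → B) →ₗ[B] (Fin n → B)) (b : (Fin k → B) →ₗ[B] (Fin m → B)) :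
    transp (a ∘ₗ b) = transp b ∘ₗ transp a := by
  apply LinearMap.ext
  intro x
  simp only [transp, dualPi, LinearMap.comp_apply, LinearEquiv.coe_coe, LinearEquiv.apply_symm_apply]
  rfl

theorem transp_smul {n m : ℕ} (t : B) (a : (Fin m → B) →ₗ[B] (Fin n → B)) :
    transp (t • a) = t • transp a := by
  apply LinearMap.ext
  intro x
  simp only [transp, dualPi, LinearMap.comp_apply, LinearEquiv.coe_coe, LinearMap.smul_apply]
  rw [← map_smul]
  congr 1
  apply LinearMap.ext
  intro z
  simp

/-- If the cokernel `N` of `g : Bᵐ → Bⁿ` is free at `q`, so is the cokernel of the transpose. -/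
theorem free_coker_transp (q : Ideal B) [q.IsPrime] {n m : ℕ} {N : Type u} [AddCommGroup N] [Module B N]
    (g : (Fin m → B) →ₗ[B] (Fin n → B)) (f : (Fin n → B) →ₗ[B] N)
    (hf : Function.Surjective f) (hgf : Function.Exact g f)
    (hN : Module.Projective (Localization.AtPrime q) (LocalizedModule q.primeCompl N)) :
    Module.Free (Localization.AtPrime q)
      (LocalizedModule q.primeCompl ((Fin m → B) ⧸ LinearMap.range (transp g))) := by
  obtain ⟨c, t, ht, hc⟩ := exists_regular q g f hf hgf hN
  apply free_of_projective
  refine projective_of_regular q (transp g) (transp c) t ht ?_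
  rw [← transp_smul, ← hc, transp_comp, transp_comp, LinearMap.comp_assoc]

end K966.RegMap
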