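import Groth.Agent.QGor.K966.FibSk
import Groth.Agent.QGor.K966.FlatBC

/-!
# The relative `(S₂)` condition for the double dual of a base change

The setting: `A → B` flat, `0 → F → E0 → E1 → G → 0` with `E0`, `E1` finite projective and `G` free off `V(J)`, the
fibres of `A → B` have depth at least two (and dimension at least two) at the points of `V(J)` which
specialize to `n`. For a base change `A → A'` and a prime `q'` of `B' = A' ⊗ B` over a generization of `n`: the double
dual of `B' ⊗ F` satisfies the relative `(S₂)` condition at `q'` if and only if `B' ⊗ G` is flat at `q'`.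
-/

set_option autoImplicit false
set_option linter.unusedSectionVars false
universe u v w

open K966.DualPres K966.SerreBasic K966.RegMap K966.RegBC K966.BijOff K966.DepthLocal K966.OffMap TensorProduct
  K966.ReflFree K966.BaseChange K966.FibGen K966.FibLoc K966.FibBC K966.FibSk K966.OffPoint K966.FibPoint
  Groth.Agent.Localalg.Depth Groth.Agent.Localalg.Depth2 IsLocalRing

namespace K966.RelS2

section Dim

theorem ringKrullDim_le_of_flat (R S : Type u) [CommRing R] [CommRing S] [IsNoetherianRing R] [IsNoetherianRing S]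
    [IsLocalRing R] [IsLocalRing S] [Algebra R S] [IsLocalHom (algebraMap R S)] [Module.Flat R S] :
    ringKrullDim R ≤ ringKrullDim S := by
  rw [← IsLocalRing.maximalIdeal_height_eq_ringKrullDim, ← IsLocalRing.maximalIdeal_height_eq_ringKrullDim]
  refine WithBot.coe_le_coe.mpr ((K966.FlatBC.height_le_height_map (B := S) (maximalIdeal R)).trans
    (Ideal.height_mono ?_))
  exact ((local_hom_TFAE (algebraMap R S)).out 0 2 :).mp inferInstance

variable (A B A' B' : Type u) [CommRing A] [CommRing B] [CommRing A'] [CommRing B'] [Algebra A B]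
    [Algebra A A'] [Algebra B B'] [Algebra A' B'] [Algebra A B'] [IsScalarTower A B B'] [IsScalarTower A A' B']
    [Algebra.IsPushout A B A' B'] [IsNoetherianRing B] [IsNoetherianRing B']

/-- The dimension of the local rings of the fibres does not decrease under base change. -/
theorem le_ringKrullDim_baseChange (q' : Ideal B') [q'.IsPrime] (q : Ideal B) [q.IsPrime]
    (hq : q'.comap (algebraMap B B') = q) :
    ringKrullDim (EGA4.FibLocRing A B q) ≤ ringKrullDim (EGA4.FibLocRing A' B' q') := by
  let p' := q'.comap (algebraMap A' B')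
  let p := p'.comap (algebraMap A A')
  have hl : p'.LiesOver p := ⟨rfl⟩
  obtain ⟨Q', hQ', hQq'⟩ := Groth.Agent.Ega4C.FibreTower.exists_prime_fibre p' q' rfl
  let φ := Groth.Agent.Flat2A.AssBaseChange.fiberMap B B' p p'
  have hφ : φ.toRingHom.FaithfullyFlat := Groth.Agent.Flat2A.AssBaseChange.fiberMap_faithfullyFlat B B' p p'
  let Q : Ideal (p.Fiber B) := Q'.comap φ.toRingHom
  have hQ : Q.IsPrime := inferInstance
  have hQq : Groth.Agent.Ega4C.FibreTower.ctr p Q = q := by
    ext x
    have h1 : ∀ y : B', y ∈ q' ↔ ((1 : p'.ResidueField) ⊗ₜ[A'] y) ∈ Q' := fun y => by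
      have := SetLike.ext_iff.mp hQq' y
      exact this.symm
    rw [← hq]
    change φ ((1 : p.ResidueField) ⊗ₜ[A] x) ∈ Q' ↔ algebraMap B B' x ∈ q'
    rw [Groth.Agent.Flat2A.AssBaseChange.fiberMap_one_tmul B B' p p' x, h1]
  have e1 : ringKrullDim (EGA4.FibLocRing A B q) = ringKrullDim (Localization.AtPrime Q) := by
    subst hQq
    exact (ringKrullDim_eq_of_ringEquiv (Groth.Agent.Ega4C.FibreTower.locFibreEquiv p Q)).symm
  have e2 : ringKrullDim (EGA4.FibLocRing A' B' q') = ringKrullDim (Localization.AtPrime Q') := by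
    have : ∀ (r : Ideal B') [r.IsPrime], Groth.Agent.Ega4C.FibreTower.ctr p' Q' = r →
      ringKrullDim (EGA4.FibLocRing A' B' r) = ringKrullDim (Localization.AtPrime Q') := by
      intro r _ hr
      subst hr
      exact (ringKrullDim_eq_of_ringEquiv (Groth.Agent.Ega4C.FibreTower.locFibreEquiv p' Q')).symm
    exact this q' hQq'
  rw [e1, e2]
  have : IsNoetherianRing (p'.Fiber B') := Groth.Agent.Ega4C.FibreTower.isNoetherianRing_fiber p'
  have : IsNoetherianRing (p.Fiber B) := Groth.Agent.Ega4C.FibreTower.isNoetherianRing_fiber p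
  have : IsNoetherianRing (Localization.AtPrime Q') := inferInstance
  have : IsNoetherianRing (Localization.AtPrime Q) := inferInstance
  have hfl := RingHom.Flat.localRingHom hφ.flat Q' Q rfl
  let : Algebra (Localization.AtPrime Q) (Localization.AtPrime Q') := (Localization.localRingHom Q Q' φ.toRingHom rfl).toAlgebra
  have : Module.Flat (Localization.AtPrime Q) (Localization.AtPrime Q') := hfl
  have : IsLocalHom (algebraMap (Localization.AtPrime Q) (Localization.AtPrime Q')) :=
    Localization.isLocalHom_localRingHom _ _ _ _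
  exact ringKrullDim_le_of_flat (Localization.AtPrime Q) (Localization.AtPrime Q')

end Dim

section Transport

variable {A B : Type u} [CommRing A] [CommRing B] [Algebra A B] (q : Ideal B) [q.IsPrime]
  {M K : Type u} [AddCommGroup M] [Module B M] [AddCommGroup K] [Module B K]
  (e : LocalizedModule q.primeCompl M ≃ₗ[Localization.AtPrime q] LocalizedModule q.primeCompl K)

include e in
theorem flatAt_congr [Module A M] [IsScalarTower A B M] [Module A K] [IsScalarTower A B K] :
    FlatCA.FlatAt A q M ↔ FlatCA.FlatAt A q K := by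
  let e' : LocalizedModule q.primeCompl M ≃ₗ[A] LocalizedModule q.primeCompl K :=
    { e with
      map_smul' := fun a x => by
        change e (a • x) = a • e x
        rw [← algebraMap_smul (Localization.AtPrime q) a x, map_smul, algebraMap_smul] }
  constructor
  · intro h
    have : Module.Flat A (LocalizedModule q.primeCompl M) := h
    exact Module.Flat.of_linearEquiv e'.symm
  · intro h
    have : Module.Flat A (LocalizedModule q.primeCompl K) := h
    exact Module.Flat.of_linearEquiv e'

variable (A) in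
/-- The fibre stalk depends only on the stalk. -/
noncomputable def fibLocModCongr :
    EGA4.FibLocMod A B q M ≃ₗ[Localization.AtPrime q] EGA4.FibLocMod A B q K :=
  Submodule.Quotient.equiv _ _ e (by rw [Submodule.map_smul'', Submodule.map_top, LinearEquiv.range])

include e in
theorem hasSk_congr (k : ℕ) : LocCoh.HasSk k (EGA4.FibLocRing A B q) (EGA4.FibLocMod A B q M) ↔
    LocCoh.HasSk k (EGA4.FibLocRing A B q) (EGA4.FibLocMod A B q K) := by
  have hs : Function.Surjective (algebraMap (Localization.AtPrime q) (EGA4.FibLocRing A B q)) :=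
    Ideal.Quotient.mk_surjective
  have e' := fibLocModCongr A q e
  exact ⟨fun h => Groth.Agent.Ega4B.SkLift.hasSk_surjective_of_hasSk _ hs _ k
        (Groth.Agent.Ega4B.DepthBasic.hasSk_of_equiv k e'
        (Groth.Agent.Ega4B.SkLift.hasSk_of_surjective _ hs _ k h)),
    fun h => Groth.Agent.Ega4B.SkLift.hasSk_surjective_of_hasSk _ hs _ k
        (Groth.Agent.Ega4B.DepthBasic.hasSk_of_equiv k e'.symm
        (Groth.Agent.Ega4B.SkLift.hasSk_of_surjective _ hs _ k h))⟩

end Transport

section Local

variable (A B : Type u) [CommRing A] [CommRing B] [IsNoetherianRing A] [IsNoetherianRing B] [Algebra A B]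
    [Module.Flat A B] (J : Ideal B) (q : Ideal B) [q.IsPrime]
    (hZ : ∀ Q : PrimeSpectrum B, J ≤ Q.asIdeal → Q.asIdeal ≤ q →
      2 ≤ LocCoh.idealDepth (Q.asIdeal.map (algebraMap B (EGA4.FibLocRing A B Q.asIdeal))) (EGA4.FibLocRing A B Q.asIdeal))
    (K X Y G : Type u) [AddCommGroup K] [Module B K] [Module.Finite B K]
    [AddCommGroup X] [Module B X] [Module.Finite B X] [Module.Projective B X]
    [AddCommGroup Y] [Module B Y] [Module.Finite B Y] [Module.Projective B Y]
    [AddCommGroup G] [Module B G] [Module.Finite B G]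
    (f : K →ₗ[B] X) (g : X →ₗ[B] Y) (v : Y →ₗ[B] G)
    (hf : Function.Injective f) (hfg : Function.Exact f g) (hgv : Function.Exact g v) (hv : Function.Surjective v)
    (hg : RegOff J g)

include hZ

theorem two_le_depth_localized (Q : PrimeSpectrum B) (hJQ : J ≤ Q.asIdeal) (hQq : Q.asIdeal ≤ q) :
      2 ≤ LocCoh.depth (Localization.AtPrime Q.asIdeal) (LocalizedModule Q.asIdeal.primeCompl B) := by
  have h := hZ Q hJQ hQq
  rw [← idealDepth_fibLocMod_ring] at h
  exact h.trans (depth_fib_le A B B Q.asIdeal)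

theorem two_le_idealDepth_fibLocMod_projective :
    2 ≤ LocCoh.idealDepth (J.map (algebraMap B (Localization.AtPrime q))) (EGA4.FibLocMod A B q X) := by
  refine le_idealDepth_fibLocMod A B X J q 2 (fun Q hJQ hQq _ => ?_)
  refine le_idealDepth_fibLocMod_of_free A B X Q.asIdeal (maximalIdeal _) 2 ?_ ?_
  · exact K966.RegMap.free_of_projective Q.asIdeal X inferInstance
  · have h := hZ Q hJQ hQq
    rw [idealDepth_fibLocRing, Localization.AtPrime.map_eq_maximalIdeal] at h
    exact h

include f g v hf hfg hgv hv hg in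
theorem iff_flatAt [Module A K] [IsScalarTower A B K] [Module A X] [IsScalarTower A B X]
    [Module A Y] [IsScalarTower A B Y] [Module A G] [IsScalarTower A B G] :
    (FlatCA.FlatAt A q K ∧
      2 ≤ LocCoh.idealDepth (J.map (algebraMap B (Localization.AtPrime q))) (EGA4.FibLocMod A B q K)) ↔
      FlatCA.FlatAt A q G := by
  have hX : Module.Flat A X := Module.Flat.trans A B X
  have hY : Module.Flat A Y := Module.Flat.trans A B Y
  have hG : ∀ Q : PrimeSpectrum B, ¬ J ≤ Q.asIdeal → FlatCA.FlatAt A Q.asIdeal G := fun Q hQ => by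
    obtain ⟨c, t, ht, hc⟩ := hg Q hQ
    exact flatAt_of_free A B Q.asIdeal G
      (free_of_projective Q.asIdeal G (projective_coker_of_regular Q.asIdeal g v hv hgv c t ht hc))
  have key := fourTerm_at A B J q K X Y G
    (Groth.Agent.Flat2B.FlatCrit.flatAt_of_flat q X) (Groth.Agent.Flat2B.FlatCrit.flatAt_of_flat q Y)
    f g v hf hfg hgv hv hG
    (two_le_idealDepth_fibLocMod_projective A B J q hZ X)
    (le_trans (by norm_num) (two_le_idealDepth_fibLocMod_projective A B J q hZ Y))
  rw [key.1]
  exact ⟨fun h => h.2, fun h => ⟨key.2 h, h⟩⟩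

include f g hf hfg hg in
/-- `(S₂)` of the fibre stalk implies `J`-depth at least two. -/
theorem two_le_of_hasSk
    (hdim : ∀ Q : PrimeSpectrum B, J ≤ Q.asIdeal → Q.asIdeal ≤ q →
      (2 : WithBot ℕ∞) ≤ ringKrullDim (EGA4.FibLocRing A B Q.asIdeal))
    (h : LocCoh.HasSk 2 (EGA4.FibLocRing A B q) (EGA4.FibLocMod A B q K)) :
    2 ≤ LocCoh.idealDepth (J.map (algebraMap B (Localization.AtPrime q))) (EGA4.FibLocMod A B q K) :=
  two_le_idealDepth_of_hasSk A B K J q
    (fun Q _ hQq _ => subsingleton_or_faithful_at J Q.asIdeal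
      (fun P hJP hPQ => two_le_depth_localized A B J q hZ P hJP (hPQ.trans hQq)) f g hf hfg hg)
    (fun Q hJQ hQq _ => hdim Q hJQ hQq) h

omit hZ in
include f g hf hfg hg in
/-- `J`-depth at least two implies `(S₂)` for the fibre stalk. -/
theorem hasSk_of_two_le (hS : LocCoh.HasSk 2 (EGA4.FibLocRing A B q) (EGA4.FibLocRing A B q))
    (h : 2 ≤ LocCoh.idealDepth (J.map (algebraMap B (Localization.AtPrime q))) (EGA4.FibLocMod A B q K)) :
    LocCoh.HasSk 2 (EGA4.FibLocRing A B q) (EGA4.FibLocMod A B q K) :=
  hasSk_of_two_le_idealDepth A B K J q (fun Q hJQ _ => RegOff.free_ker f g hf hfg hg Q hJQ) hS h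

end Local

section Main

variable (A B : Type u) [CommRing A] [CommRing B] [IsNoetherianRing A] [IsNoetherianRing B] [Algebra A B]
    [Module.Flat A B] (J : Ideal B) (n : Ideal B) [n.IsPrime]
    (hZ : ∀ Q : PrimeSpectrum B, J ≤ Q.asIdeal → Q.asIdeal ≤ n →
      2 ≤ LocCoh.idealDepth (Q.asIdeal.map (algebraMap B (EGA4.FibLocRing A B Q.asIdeal))) (EGA4.FibLocRing A B Q.asIdeal))
    (F X Y G : Type u) [AddCommGroup F] [Module B F] [Module.Finite B F]
    [AddCommGroup X] [Module B X] [Module.Finite B X] [Module.Projective B X]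
    [AddCommGroup Y] [Module B Y] [Module.Finite B Y] [Module.Projective B Y]
    [AddCommGroup G] [Module B G] [Module.Finite B G]
    (f : F →ₗ[B] X) (g : X →ₗ[B] Y) (v : Y →ₗ[B] G)
    (hf : Function.Injective f) (hfg : Function.Exact f g) (hgv : Function.Exact g v) (hv : Function.Surjective v)
    (hg : RegOff J g)
    (A' B' : Type u) [CommRing A'] [CommRing B'] [IsNoetherianRing A'] [IsNoetherianRing B']
    [Algebra A A'] [Algebra B B'] [Algebra A' B'] [Algebra A B'] [IsScalarTower A B B'] [IsScalarTower A A' B']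
    [hpo : Algebra.IsPushout A B A' B'] (q' : Ideal B') [q'.IsPrime] (hq' : q'.comap (algebraMap B B') ≤ n)

include hZ hq' hpo in
theorem fib_baseChange (Q' : PrimeSpectrum B') (hJQ : J.map (algebraMap B B') ≤ Q'.asIdeal) (hQq : Q'.asIdeal ≤ q') :
    2 ≤ LocCoh.idealDepth (Q'.asIdeal.map (algebraMap B' (EGA4.FibLocRing A' B' Q'.asIdeal)))
      (EGA4.FibLocRing A' B' Q'.asIdeal) := by
  have h := hZ ⟨Q'.asIdeal.comap (algebraMap B B'), inferInstance⟩ (Ideal.map_le_iff_le_comap.mp hJQ)
    ((Ideal.comap_mono hQq).trans hq')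
  exact h.trans (le_depth_baseChange A B A' B' Q'.asIdeal _ rfl)

include f g v hf hfg hgv hv hg hZ hq' hpo in
/-- If the double dual of `B' ⊗ F` satisfies the relative `(S₂)` condition at `q'`, then `B' ⊗ G` is flat at
`q'`. -/
theorem flatAt_of_relS2
    (hdim : ∀ Q : PrimeSpectrum B, J ≤ Q.asIdeal → Q.asIdeal ≤ n →
      (2 : WithBot ℕ∞) ≤ ringKrullDim (EGA4.FibLocRing A B Q.asIdeal))
    (h : FlatCA.FlatAt A' q' (Module.Dual B' (Module.Dual B' (B' ⊗[B] F))) ∧
      LocCoh.HasSk 2 (EGA4.FibLocRing A' B' q')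
        (EGA4.FibLocMod A' B' q' (Module.Dual B' (Module.Dual B' (B' ⊗[B] F))))) :
    FlatCA.FlatAt A' q' (B' ⊗[B] G) := by
  have : Module.Flat A' B' :=
    Module.Flat.isBaseChange A A' B B' (Algebra.IsPushout.symm hpo).out
  have hZ' := fib_baseChange A B J n hZ A' B' q' hq'
  obtain ⟨α, -, hα⟩ := isoOff_ker f g hf hfg B' hg
  have e1 : Function.Exact (LinearMap.ker (g.baseChange B')).subtype (g.baseChange B') :=
    LinearMap.exact_subtype_ker_map _
  have e0 : Function.Injective (LinearMap.ker (g.baseChange B')).subtype := Submodule.subtype_injective _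
  have e2 : Function.Exact (g.baseChange B') (v.baseChange B') := lTensor_exact B' hgv hv
  have e3 : Function.Surjective (v.baseChange B') := LinearMap.lTensor_surjective B' hv
  have hg' : RegOff (J.map (algebraMap B B')) (g.baseChange B') := hg.baseChange
  obtain ⟨e⟩ := exists_bidual_equiv_at (R := B') (M := B' ⊗[B] F) (K := LinearMap.ker (g.baseChange B'))
    (J.map (algebraMap B B')) q'
    (two_le_depth_localized A' B' _ q' hZ') (LinearMap.ker (g.baseChange B')).subtype (g.baseChange B')
    e0 e1 hg' α hα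
  rw [flatAt_congr q' e, hasSk_congr q' e] at h
  rw [← iff_flatAt A' B' (J.map (algebraMap B B')) q' hZ' (LinearMap.ker (g.baseChange B')) _ _ _
    (LinearMap.ker (g.baseChange B')).subtype (g.baseChange B') (v.baseChange B') e0 e1 e2 e3 hg']
  refine ⟨h.1, two_le_of_hasSk A' B' (J.map (algebraMap B B')) q' hZ' (LinearMap.ker (g.baseChange B')) _ _
    (LinearMap.ker (g.baseChange B')).subtype (g.baseChange B') e0 e1 hg' ?_ h.2⟩
  intro Q' hJQ hQq
  have h := hdim ⟨Q'.asIdeal.comap (algebraMap B B'), inferInstance⟩ (Ideal.map_le_iff_le_comap.mp hJQ)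
    ((Ideal.comap_mono hQq).trans hq')
  exact h.trans (le_ringKrullDim_baseChange A B A' B' Q'.asIdeal _ rfl)

include f g v hf hfg hgv hv hg hZ hq' hpo in
/-- If `B' ⊗ G` is flat at `q'`, then the double dual of `B' ⊗ F` satisfies the relative `(S₂)` condition at
`q'`. -/
theorem relS2_of_flatAt
    (hS : LocCoh.HasSk 2 (EGA4.FibLocRing A' B' q') (EGA4.FibLocRing A' B' q'))
    (h : FlatCA.FlatAt A' q' (B' ⊗[B] G)) :
    FlatCA.FlatAt A' q' (Module.Dual B' (Module.Dual B' (B' ⊗[B] F))) ∧
      LocCoh.HasSk 2 (EGA4.FibLocRing A' B' q')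
        (EGA4.FibLocMod A' B' q' (Module.Dual B' (Module.Dual B' (B' ⊗[B] F)))) := by
  have : Module.Flat A' B' :=
    Module.Flat.isBaseChange A A' B B' (Algebra.IsPushout.symm hpo).out
  have hZ' := fib_baseChange A B J n hZ A' B' q' hq'
  obtain ⟨α, -, hα⟩ := isoOff_ker f g hf hfg B' hg
  have e1 : Function.Exact (LinearMap.ker (g.baseChange B')).subtype (g.baseChange B') :=
    LinearMap.exact_subtype_ker_map _
  have e0 : Function.Injective (LinearMap.ker (g.baseChange B')).subtype := Submodule.subtype_injective _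
  have e2 : Function.Exact (g.baseChange B') (v.baseChange B') := lTensor_exact B' hgv hv
  have e3 : Function.Surjective (v.baseChange B') := LinearMap.lTensor_surjective B' hv
  have hg' : RegOff (J.map (algebraMap B B')) (g.baseChange B') := hg.baseChange
  obtain ⟨e⟩ := exists_bidual_equiv_at (R := B') (M := B' ⊗[B] F) (K := LinearMap.ker (g.baseChange B'))
    (J.map (algebraMap B B')) q'
    (two_le_depth_localized A' B' _ q' hZ') (LinearMap.ker (g.baseChange B')).subtype (g.baseChange B')
    e0 e1 hg' α hα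
  rw [flatAt_congr q' e, hasSk_congr q' e]
  have h' := (iff_flatAt A' B' (J.map (algebraMap B B')) q' hZ' (LinearMap.ker (g.baseChange B')) _ _ _
    (LinearMap.ker (g.baseChange B')).subtype (g.baseChange B') (v.baseChange B') e0 e1 e2 e3 hg').mpr h
  exact ⟨h'.1, hasSk_of_two_le A' B' (J.map (algebraMap B B')) q' (LinearMap.ker (g.baseChange B')) _ _
    (LinearMap.ker (g.baseChange B')).subtype (g.baseChange B') e0 e1 hg' hS h'.2⟩

end Main

end K966.RelS2
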