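import Groth.Agent.Ega4C.SkOpenGeneric
import Groth.Agent.S1716

/-!
# Openness of the `(S_k)` locus over a ring with a dualizing complex
-/

set_option autoImplicit false
universe u v w

open CategoryTheory
attribute [local instance] HasDerivedCategory.standard

namespace K966.SkOpen

open Groth.Agent.Ega4C.DepthExt Groth.Agent.Ega4C.GenericDepth Groth.Agent.Ega4C.GenericDim

theorem isOpen_hasSkAt_of_dualizing (A : Type u) [CommRing A] [IsNoetherianRing A]
    (hω : ∃ ω : Dual.D A, Dual.IsDualizing A ω) (M : Type u) [AddCommGroup M] [Module A M] [Module.Finite A M]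
    (k : ℕ) : IsOpen {p : PrimeSpectrum A | EGA4.HasSkAt k A M p.asIdeal} := by
  refine Groth.Agent.Ega4C.SkOpenGeneric.isOpen_hasSkAt k (fun w _ => ?_) M
  obtain ⟨h1, h2⟩ := Groth.Agent.S1716.result A hω (A ⧸ w)
  have hsupp : Module.support A (A ⧸ w) = PrimeSpectrum.zeroLocus w := by
    rw [Module.support_eq_zeroLocus, Ideal.annihilator_quotient]
  have hw : (⟨w, inferInstance⟩ : PrimeSpectrum A) ∈ Module.support A (A ⧸ w) := by
    rw [hsupp]; exact le_refl w
  have hne : ({p : PrimeSpectrum A | LocCoh.IsCohenMacaulayModule (Localization.AtPrime p.asIdeal)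
      (LocalizedModule p.asIdeal.primeCompl (A ⧸ w))} ∩ Module.support A (A ⧸ w)).Nonempty := by
    rw [← closure_nonempty_iff]
    exact ⟨_, h2 hw⟩
  obtain ⟨x, hx, hxs⟩ := hne
  have hle : w ≤ x.asIdeal := by rw [hsupp] at hxs; exact hxs
  have hspec : (⟨w, inferInstance⟩ : PrimeSpectrum A) ⤳ x := (PrimeSpectrum.le_iff_specializes _ _).mp hle
  have hwU := hspec.mem_open h1 (Or.inr hx)
  obtain ⟨V, ⟨f, rfl⟩, hfw, hV⟩ :=
    PrimeSpectrum.isTopologicalBasis_basic_opens.exists_subset_of_mem_open hwU h1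
  refine ⟨f, hfw, fun q _ hwq hfq => ?_⟩
  have hq := hV (show (⟨q, inferInstance⟩ : PrimeSpectrum A) ∈ _ from hfq)
  rcases hq with hq | hq
  · exfalso
    have hqs : (⟨q, inferInstance⟩ : PrimeSpectrum A) ∈ Module.support A (A ⧸ w) := by
      rw [hsupp]; exact hwq
    exact (Module.notMem_support_iff.mpr hq) hqs
  · exact (min_le_right _ _).trans (le_of_eq hq)

end K966.SkOpen
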